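/-
Redundant Sylow subgroups of PSL₂(q) and SL₂(q).
-/
import Cfsg.Agent.Cls.SL2Class2

set_option linter.unusedSectionVars false

namespace CL.SL2

open Matrix MulAction Subgroup CL.GL2
open scoped MatrixGroups

section General

variable {G : Type*} [Group G] [Finite G] {p : ℕ} [hp : Fact p.Prime]

/-- `G` has a redundant Sylow `p`-subgroup. -/
def HasRedundant (p : ℕ) (G : Type*) [Group G] : Prop :=
  ∃ Q : Sylow p G, ∀ x : G, (∃ k : ℕ, orderOf x = p ^ k) → ∃ P : Sylow p G, P ≠ Q ∧ x ∈ P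

theorem isPGroup_zpowers_of_orderOf {x : G} (h : ∃ k : ℕ, orderOf x = p ^ k) :
    IsPGroup p (zpowers x) :=
  h.elim fun _ h => IsPGroup.of_card (by rw [Nat.card_zpowers, h])

theorem exists_orderOf_of_mem {P : Subgroup G} (hP : IsPGroup p P) {x : G} (hx : x ∈ P) :
    ∃ k : ℕ, orderOf x = p ^ k :=
  (IsPGroup.iff_orderOf.1 hP ⟨x, hx⟩).imp fun _ h => by rw [← h, orderOf_mk]

theorem not_hasRedundant_of_unique {x : G} {P₀ : Sylow p G} (hx : x ∈ P₀)
    (h : ∀ P : Sylow p G, x ∈ P → P = P₀) : ¬ HasRedundant p G := by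
  rintro ⟨Q, hQ⟩
  obtain ⟨g, rfl⟩ := exists_smul_eq G P₀ Q
  obtain ⟨P, h1, h2⟩ := hQ (g * x * g⁻¹) (by
    rw [show g * x * g⁻¹ = MulAut.conj g x from rfl, MulEquiv.orderOf_eq]
    exact exists_orderOf_of_mem P₀.isPGroup' hx)
  refine h1 (inv_smul_eq_iff.1 (h _ ?_))
  exact ⟨g * x * g⁻¹, h2, by simp [mul_assoc]⟩

theorem not_hasRedundant_of_inf (hG : p ∣ Nat.card G)
    (h : ∀ P P' : Sylow p G, P ≠ P' → (P : Subgroup G) ⊓ P' = ⊥) : ¬ HasRedundant p G := by
  obtain ⟨P⟩ : Nonempty (Sylow p G) := inferInstance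
  obtain ⟨⟨x, hx⟩, h1⟩ := (ne_bot_iff_exists_ne_one).1 (P.ne_bot_of_dvd_card hG)
  refine not_hasRedundant_of_unique hx fun P' h2 => by_contra fun h3 => h1 (Subtype.ext ?_)
  exact (mem_bot.1 (h P' P h3 ▸ (⟨h2, hx⟩ : x ∈ (P' : Subgroup G) ⊓ P)))

theorem not_hasRedundant_of_isCyclic (P : Sylow p G) (h : IsCyclic P) : ¬ HasRedundant p G := by
  obtain ⟨⟨x, hx⟩, h1⟩ := h.exists_generator
  refine not_hasRedundant_of_unique hx fun P' h2 => Sylow.ext (P.is_maximal' P'.isPGroup' ?_)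
  intro y hy
  obtain ⟨k, hk⟩ := h1 ⟨y, hy⟩
  exact (show x ^ k = y from congrArg Subtype.val hk) ▸ zpow_mem h2 k

theorem hasRedundant_iff_of_surjective {H : Type*} [Group H] (f : G →* H)
    (hf : Function.Surjective f) (hk : IsPGroup p f.ker) : HasRedundant p G ↔ HasRedundant p H := by
  have := Finite.of_surjective f hf
  have hr : ∀ P : Sylow p H, (P : Subgroup H) ≤ f.range := fun P => by
    rw [f.range_eq_top_of_surjective hf]; exact le_top
  refine ⟨fun ⟨Q, hQ⟩ => ⟨Q.mapSurjective hf, fun y hy => ?_⟩,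
    fun ⟨Q, hQ⟩ => ⟨Q.comapOfKerIsPGroup f hk (hr Q), fun x hx => ?_⟩⟩
  · obtain ⟨x, rfl⟩ := hf y
    obtain ⟨P, h1, h2⟩ := hQ x (exists_orderOf_of_mem
      ((isPGroup_zpowers_of_orderOf hy).comap_of_ker_isPGroup f hk) (mem_zpowers _))
    refine ⟨P.mapSurjective hf, fun h => h1 (Sylow.ext ?_), ⟨x, h2, rfl⟩⟩
    have := congrArg (fun R : Sylow p H => (R : Subgroup H).comap f) h
    simpa only [Sylow.coe_mapSurjective, comap_map_eq_self (hk.le_sylow_of_normal _)] using this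
  · obtain ⟨P, h1, h2⟩ := hQ (f x) (exists_orderOf_of_mem
      ((isPGroup_zpowers_of_orderOf hx).map f) ⟨x, mem_zpowers _, rfl⟩)
    exact ⟨P.comapOfKerIsPGroup f hk (hr P), fun h => h1 (Sylow.ext (comap_injective hf
      (congrArg (fun R : Sylow p G => (R : Subgroup G)) h))), h2⟩

theorem not_hasRedundant_two {x : G} {k : ℕ} (hx : 2 * orderOf x = 2 ^ k)
    (hN : Nat.card (normalizer (zpowers x : Set G)) = 2 ^ k)
    (hi : ¬ 2 ∣ (normalizer (zpowers x : Set G)).index) : ¬ HasRedundant 2 G := by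
  refine not_hasRedundant_of_unique (P₀ := (IsPGroup.of_card hN).toSylow hi)
    (le_normalizer (mem_zpowers x)) fun P hP => Sylow.ext ?_
  have h1 := Nat.card_congr (P.equiv ((IsPGroup.of_card hN).toSylow hi)).toEquiv
  have h2 : zpowers x ≤ P := zpowers_le.2 hP
  have h3 := ((zpowers x).subgroupOf P).card_mul_index
  rw [Nat.card_congr (subgroupOfEquivOfLe h2).toEquiv, Nat.card_zpowers, h1,
    IsPGroup.toSylow_coe, hN, ← hx, mul_comm] at h3
  exact eq_of_le_of_card_ge ((normal_subgroupOf_iff_le_normalizer h2).1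
    (normal_of_index_eq_two (Nat.eq_of_mul_eq_mul_right (orderOf_pos x) h3))) h1.ge

theorem hasRedundant_two (hG : 2 ∣ Nat.card G) (h : ∀ x : G, x ≠ 1 → (∃ k, orderOf x = 2 ^ k) →
    ∃ n, (∀ k, n ≠ 2 ^ k) ∧ Nonempty (normalizer (zpowers x : Set G) ≃* DihedralGroup n)) :
    HasRedundant 2 G := by
  obtain ⟨Q⟩ : Nonempty (Sylow 2 G) := inferInstance
  refine ⟨Q, fun x hx => by_contra fun h1 => ?_⟩
  push Not at h1
  wlog hx1 : x ≠ 1 generalizing x
  · obtain ⟨⟨y, hy⟩, h2⟩ := (ne_bot_iff_exists_ne_one).1 (Q.ne_bot_of_dvd_card hG)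
    exact this y (exists_orderOf_of_mem Q.isPGroup' hy)
      (fun P hP _ => h1 P hP (not_not.1 hx1 ▸ one_mem _)) fun h => h2 (Subtype.ext h)
  obtain ⟨n, h2, ⟨e⟩⟩ := h x hx1 hx
  have h3 : ∀ i, (e.symm (.sr i) : G) ∈ Q := fun i => by
    obtain ⟨P, hP⟩ := ((isPGroup_zpowers_of_orderOf hx).to_sup_of_normal_left'
      (isPGroup_zpowers_of_orderOf (x := (e.symm (.sr i) : G)) ⟨1, by
        rw [orderOf_coe, MulEquiv.orderOf_eq, DihedralGroup.orderOf_sr, pow_one]⟩)
      (zpowers_le.2 (e.symm (.sr i)).2)).exists_le_sylow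
    by_cases h4 : P = Q
    · exact h4 ▸ hP (mem_sup_right (mem_zpowers _))
    · exact absurd (hP (mem_sup_left (mem_zpowers _))) (h1 P h4)
  obtain ⟨k, hk⟩ := exists_orderOf_of_mem Q.isPGroup' (mul_mem (h3 0) (h3 1))
  rw [← coe_mul, ← map_mul, orderOf_coe, MulEquiv.orderOf_eq, DihedralGroup.sr_mul_sr, sub_zero,
    DihedralGroup.orderOf_r_one] at hk
  exact h2 k hk

end General

variable {F : Type*} [Field F] [Fintype F]

theorem isCyclic_of_odd_pgl (p : ℕ) [Fact p.Prime] [CharP F p] {G : Type*} [Group G] [Finite G]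
    (φ : G →* PGL(2, F)) (hφ : Function.Injective φ) (hG : ¬ p ∣ Nat.card G)
    (hodd : Odd (Nat.card G)) : IsCyclic G := by
  rcases dickson_coprime p φ hφ hG with h | ⟨n, ⟨e⟩⟩ | h
  · exact h
  · rw [Nat.card_congr e.toEquiv, DihedralGroup.nat_card] at hodd
    exact absurd hodd (by simp)
  · rcases card_cases_of_small h with h | h | h <;> exact absurd (h ▸ hodd) (by decide)

theorem not_hasRedundant_of_ne_two (r : ℕ) [Fact r.Prime] [CharP F r] {p : ℕ} [hp : Fact p.Prime]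
    {G : Type*} [Group G] [Finite G] [MulAction G (P1 F)] (hU : UHyp r G (P1 F))
    (hr : r ∣ Nat.card G) (hc : ∀ P : Subgroup G, ¬ r ∣ Nat.card P → Odd (Nat.card P) → IsCyclic P)
    (h : p = r ∨ p ≠ 2) : ¬ HasRedundant p G := by
  by_cases h1 : p = r
  · subst h1
    exact not_hasRedundant_of_inf hr fun _ _ => hU.sylow_inf
  obtain ⟨P⟩ : Nonempty (Sylow p G) := inferInstance
  obtain ⟨k, hk⟩ := IsPGroup.iff_card.1 P.isPGroup'
  exact not_hasRedundant_of_isCyclic P (hc P (fun h => h1 ((Nat.prime_dvd_prime_iff_eq Fact.out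
    hp.out).1 ((Fact.out : r.Prime).dvd_of_dvd_pow (hk ▸ h))).symm)
    (hk ▸ (hp.out.odd_of_ne_two (h.resolve_left h1)).pow))

theorem not_hasRedundant_psl_two (hodd : Odd (Fintype.card F)) {k : ℕ} {X : SL(2, F)}
    (hX : orderOf X = 2 ^ (k + 2))
    (h : Fintype.card F + 1 = 2 ^ (k + 2) ∨ Fintype.card F = 2 ^ (k + 2) + 1) :
    ¬ HasRedundant 2 PSL(2, F) := by
  obtain ⟨r, _, n, hr, hn⟩ := FiniteField.card' F
  have := Fact.mk hr
  have h2 := two_ne_zero_of_odd hodd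
  have h1 := orderOf_psl_mk_of_even h2 (hX.trans (pow_succ' ..))
  obtain ⟨m, h3, h4, ⟨e⟩⟩ := normalizer_psl r (x := (X : PSL(2, F))) fun h => by
    have h3 := orderOf_dvd_of_pow_eq_one h
    rw [h1] at h3
    obtain rfl := (Nat.prime_dvd_prime_iff_eq Nat.prime_two hr).1
      ((dvd_pow_self 2 (Nat.succ_ne_zero _)).trans h3)
    exact h2 CharTwo.two_eq_zero
  rw [gcd_two_of_ne h2] at h4
  rw [h1] at h3
  have h5 := (dvd_pow_self 2 (Nat.succ_ne_zero _)).trans h3
  have h6 := Nat.card_congr e.toEquiv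
  rw [DihedralGroup.nat_card] at h6
  have h7 : 2 * m = 2 ^ (k + 2) := by simp only [pow_succ] at h ⊢; omega
  refine not_hasRedundant_two (k := k + 2) (by rw [h1, ← pow_succ']) (h6.trans h7) fun h8 => ?_
  have h9 := (normalizer (zpowers (X : PSL(2, F)) : Set PSL(2, F))).card_mul_index
  have h10 := card_psl_two_mul h2
  rw [← h9, h6, h7, show Fintype.card F ^ 2 - 1 = (Fintype.card F + 1) * (Fintype.card F - 1) from
    Nat.sq_sub_sq _ 1] at h10
  obtain ⟨j, hj⟩ := h8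
  have h11 : ∀ s, s % 4 = 2 → 2 ^ (k + 2) * (2 * j) * 2 ≠ Fintype.card F * (2 ^ (k + 2) * s) := by
    intro s hs h
    have : 4 ∣ Fintype.card F * s := ⟨j, Nat.eq_of_mul_eq_mul_left (Nat.two_pow_pos (k + 2))
      (by linear_combination -h)⟩
    have := (Nat.Coprime.pow_left 2 (Nat.coprime_two_left.2 hodd)).dvd_of_dvd_mul_left this
    omega
  rw [hj] at h10
  rcases h with h | h
  · exact h11 _ (by simp only [pow_succ] at h; omega) (h ▸ h10)
  · exact h11 (Fintype.card F + 1) (by simp only [pow_succ] at h; omega)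
      (by rw [h10, mul_comm (_ + 1), h, Nat.add_sub_cancel])

theorem hasRedundant_psl_iff (p : ℕ) [hp : Fact p.Prime] : HasRedundant p PSL(2, F) ↔
    (p = 2 ∧ (¬ ∃ k : ℕ, Fintype.card F + 1 = 2 ^ k) ∧ (¬ ∃ k : ℕ, Fintype.card F = 2 ^ k) ∧
      ¬ ∃ k : ℕ, Fintype.card F = 2 ^ k + 1) := by
  obtain ⟨r, _, n, hr, hn⟩ := FiniteField.card' F
  have := Fact.mk hr
  have hq := two_le_card (F := F)
  refine ⟨fun h => ?_, ?_⟩
  · obtain ⟨h1, rfl⟩ : p ≠ r ∧ p = 2 := by
      have := mt (not_hasRedundant_of_ne_two r (uhyp_psl r) (char_dvd_card_psl r) fun P =>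
        isCyclic_of_odd_pgl r (ProjectiveSpecialLinearGroup.toPGL.comp P.subtype)
          (ProjectiveSpecialLinearGroup.toPGL_injective.comp P.subtype_injective)) (not_not.2 h)
      tauto
    have hodd := odd_of_charP (F := F) h1.symm
    have h3 : ¬ ∃ k : ℕ, Fintype.card F + 1 = 2 ^ k := by
      rintro ⟨_ | _ | k, hk⟩
      · omega
      · omega
      · obtain ⟨X, hX⟩ := exists_sl_orderOf_add_one (F := F)
        exact not_hasRedundant_psl_two hodd (hX.trans hk) (Or.inl hk) h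
    refine ⟨rfl, h3, ?_, ?_⟩
    · rintro ⟨_ | k, hk⟩
      · omega
      · obtain ⟨j, hj⟩ := hodd
        omega
    · rintro ⟨_ | _ | k, hk⟩
      · exact absurd (hk ▸ hodd) (by decide)
      · exact h3 ⟨2, by omega⟩
      · obtain ⟨X, hX⟩ := exists_sl_orderOf_sub_one (F := F)
        exact not_hasRedundant_psl_two hodd (by rw [hX, hk, Nat.add_sub_cancel]) (Or.inr hk) h
  · rintro ⟨rfl, h1, h2, h3⟩
    have hr2 : r ≠ 2 := fun h => h2 ⟨n, h ▸ hn⟩
    have h4 := two_ne_zero_of_odd (odd_of_charP (F := F) hr2)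
    obtain ⟨ψ, hψ⟩ := exists_alt_four h4
    refine hasRedundant_two (Dvd.dvd.trans (by rw [card_alt_four]; decide)
      (card_dvd_of_injective ψ hψ)) fun x hx ⟨k, hk⟩ => ?_
    obtain ⟨m, -, h5, h6⟩ := normalizer_psl r (x := x) fun h => hx (orderOf_eq_one_iff.1
      (Nat.eq_one_of_dvd_coprimes ((Nat.coprime_primes Nat.prime_two hr).2 hr2.symm |>.pow_left k)
        hk.dvd (orderOf_dvd_of_pow_eq_one h)))
    rw [gcd_two_of_ne h4] at h5
    refine ⟨m, fun j hj => ?_, h6⟩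
    rcases h5 with h5 | h5
    · exact h1 ⟨j + 1, by omega⟩
    · exact h3 ⟨j + 1, by omega⟩

theorem hasRedundant_sl_iff (p : ℕ) [hp : Fact p.Prime] :
    HasRedundant p SL(2, F) ↔ HasRedundant p PSL(2, F) := by
  by_cases h : p = 2
  · subst h
    refine hasRedundant_iff_of_surjective (QuotientGroup.mk' _) (QuotientGroup.mk'_surjective _)
      fun ⟨g, hg⟩ => ⟨1, Subtype.ext ?_⟩
    rcases psl_mk_eq_one_iff.1 hg with rfl | rfl <;> simp
  obtain ⟨r, _, n, hr, hn⟩ := FiniteField.card' F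
  have := Fact.mk hr
  exact iff_of_false (not_hasRedundant_of_ne_two r (uhyp_sl r) ((char_dvd_card_psl r).trans
    (card_quotient_dvd_card _)) (fun P => isCyclic_of_odd r P.subtype P.subtype_injective)
    (Or.inr h)) fun h' => h ((hasRedundant_psl_iff p).1 h').1

end CL.SL2
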