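/-
The trace of `a * b'`, `b'` running over a class closed under conjugation by transvections, takes the value `0` and a
non-zero value (dimension at least three, `a`, `b` not scalar).
-/
import Cfsg.Agent.Cls.SLnTv

set_option autoImplicit false

namespace CL.SLn.AH

open Module

variable {F V : Type*} [Field F] [AddCommGroup V] [Module F V] [FiniteDimensional F V]

/-- conjugation by the transvection `x ↦ x + φ x • u` -/
noncomputable def cjt (u : V) (φ : Dual F V) (B : End F V) : End F V :=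
  (1 + φ.smulRight u) * B * (1 - φ.smulRight u)

omit [FiniteDimensional F V] in
theorem cjt_apply (u : V) (φ : Dual F V) (B : End F V) (x : V) :
    cjt u φ B x = B (x - φ x • u) + φ (B (x - φ x • u)) • u := by
  simp [cjt]

theorem trace_cjt (a B : End F V) (u : V) (φ : Dual F V) :
    LinearMap.trace F V (a * cjt u φ B) =
      LinearMap.trace F V (a * B) + φ (B (a u)) - φ (a (B u)) - φ (B u) * φ (a u) := by
  have e : a * cjt u φ B = a * B + (φ ∘ₗ B).smulRight (a u) - φ.smulRight (a (B u)) -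
      φ.smulRight (φ (B u) • a u) := by
    ext x
    simp [cjt_apply, smul_smul, sub_smul]
    abel
  rw [e]
  simp [LinearMap.trace_smulRight]

omit [FiniteDimensional F V] in
theorem exists_not_eigen {a : End F V} (h : ∀ c : F, a ≠ c • 1) : ∃ u, ∀ c : F, c • u ≠ a u := by
  by_contra hc
  push Not at hc
  obtain ⟨c, e⟩ := a.exists_eq_smul_id_of_forall_notLinearIndependent fun v hv => by
    obtain ⟨c, e⟩ := hc v
    exact (LinearIndependent.pair_iff' (hv.ne_zero 0)).1 hv c e
  exact h c e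

theorem exists_dual_two (h3 : 3 ≤ finrank F V) (u w : V) : ∃ (φ : Dual F V) (x : V), φ x = 1 ∧ φ u = 0 ∧ φ w = 0 := by
  have h1 : finrank F (Submodule.span F ({u, w} : Set V)) < finrank F V := by
    classical
    have := finrank_span_finset_le_card (R := F) ({u, w} : Finset V)
    have h2 : ({u, w} : Finset V).card ≤ 2 := Finset.card_le_two
    rw [Set.finrank, Finset.coe_pair] at this
    omega
  obtain ⟨x, hx⟩ : ∃ x, x ∉ Submodule.span F ({u, w} : Set V) := by
    by_contra hc
    push Not at hc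
    rw [Submodule.eq_top_iff'.2 hc, finrank_top] at h1
    exact lt_irrefl _ h1
  obtain ⟨φ, h2, h4⟩ := exists_dual_of_notMem hx
  exact ⟨φ, x, h2, h4 u (Submodule.subset_span (by simp)), h4 w (Submodule.subset_span (by simp))⟩

variable {C : Set (End F V)} (hC : ∀ B ∈ C, ∀ (u : V) (φ : Dual F V), φ u = 0 → cjt u φ B ∈ C)
include hC

omit [FiniteDimensional F V] in
theorem eigen_of_coeff {u x : V} {φ : Dual F V} (hx : φ x = 1) (h : ∀ B ∈ C, φ (B u) = 0) {B : End F V}
    (hB : B ∈ C) : ∃ c : F, c • u = B u := by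
  by_contra hc
  push Not at hc
  obtain ⟨ψ, h2, h1⟩ := exists_dual_pair hc
  have h3 := h _ (hC B hB (x - ψ x • B u) ψ (by simp [h2]))
  simp [cjt_apply, h1, h2, hx, h B hB] at h3

omit [FiniteDimensional F V] in
theorem not_coeff {b : End F V} (hb : b ∈ C) (hb' : ∀ c : F, b ≠ c • 1) {u x : V} (hu : u ≠ 0) {φ : Dual F V}
    (hx : φ x = 1) : ∃ B ∈ C, φ (B u) ≠ 0 := by
  by_contra hc
  push Not at hc
  obtain ⟨v, hv⟩ := exists_not_eigen hb'
  by_cases h : ∃ c : F, c • u = v
  · obtain ⟨c, rfl⟩ := h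
    obtain ⟨d, e⟩ := eigen_of_coeff hC hx hc hb
    exact hv d (by rw [map_smul, ← e, smul_comm])
  push Not at h
  have h1 : u ∉ Submodule.span F {u - v} := fun hm => by
    obtain ⟨c, e⟩ := Submodule.mem_span_singleton.1 hm
    have hc0 : c ≠ 0 := fun e0 => hu (by rw [← e, e0, zero_smul])
    exact h (1 - c⁻¹) (by
      have : u - v = c⁻¹ • u := by rw [eq_inv_smul_iff₀ hc0, e]
      rw [sub_smul, one_smul, ← this, sub_sub_cancel])
  obtain ⟨ψ, h2, h3⟩ := exists_dual_of_notMem h1
  have h4 := h3 _ (Submodule.mem_span_singleton_self (u - v))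
  obtain ⟨d, e⟩ := eigen_of_coeff hC hx hc (hC b hb (u - v) ψ h4)
  rw [cjt_apply, h2, one_smul, sub_sub_cancel] at e
  have h5 := congrArg ψ e
  simp only [map_smul, map_add, h2, h4, smul_eq_mul, mul_one, mul_zero, add_zero] at h5
  exact hv d (by rw [← h5] at e; linear_combination (norm := module) e)

theorem trace_ne_zero (h3 : 3 ≤ finrank F V) {b N : End F V} (hb : b ∈ C) (hb' : ∀ c : F, b ≠ c • 1) {u : V}
    (hu : ∀ c : F, c • u ≠ N u) (hu0 : u ≠ 0) : ∃ B ∈ C, LinearMap.trace F V (N * B) ≠ 0 := by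
  by_contra hc
  push Not at hc
  obtain ⟨φ₁, a2, a1⟩ := exists_dual_pair hu
  obtain ⟨φ₂, x, b1, b2, b3⟩ := exists_dual_two h3 u (N u)
  obtain ⟨B, hB, hB'⟩ := not_coeff hC hb hb' hu0 b1
  have e1 := hc _ (hC B hB u φ₁ a1)
  have e2 := hc _ (hC B hB u φ₂ b2)
  have e3 := hc _ (hC B hB u (φ₁ + φ₂) (by simp [a1, b2]))
  rw [trace_cjt, hc B hB] at e1 e2 e3
  simp only [LinearMap.add_apply, a2, b3] at e1 e2 e3
  exact hB' (by linear_combination e1 + e2 - e3)

theorem exists_trace (h3 : 3 ≤ finrank F V) {a b : End F V} (ha : ∀ c : F, a ≠ c • 1) (hb : b ∈ C)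
    (hb' : ∀ c : F, b ≠ c • 1) (t : F) : ∃ B ∈ C, LinearMap.trace F V (a * B) = t := by
  obtain ⟨u, hu⟩ := exists_not_eigen ha
  obtain ⟨φ, x, h1, h2, h4⟩ := exists_dual_two h3 u (a u)
  obtain ⟨B, hB, hB'⟩ := trace_ne_zero hC h3 (N := φ.smulRight (a u) - (φ ∘ₗ a).smulRight u) hb hb' (u := x)
    (fun c e => by
      have h5 := congrArg φ e
      simp only [map_smul, h1, LinearMap.sub_apply, LinearMap.smulRight_apply, one_smul, map_sub, h2, h4,
        smul_eq_mul, mul_one, mul_zero, sub_zero] at h5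
      simp only [h5, zero_smul, LinearMap.sub_apply, LinearMap.smulRight_apply, h1, one_smul] at e
      exact hu _ (sub_eq_zero.1 e.symm).symm) (fun e => by simp [e] at h1)
  have e : (φ.smulRight (a u) - (φ ∘ₗ a).smulRight u) * B =
      (φ ∘ₗ B).smulRight (a u) - (φ ∘ₗ a ∘ₗ B).smulRight u := by ext y; simp
  rw [e] at hB'
  simp only [map_sub, LinearMap.trace_smulRight, LinearMap.comp_apply] at hB'
  refine ⟨_, hC B hB u (((t - LinearMap.trace F V (a * B)) / (φ (B (a u)) - φ (a (B u)))) • φ) (by simp [h2]), ?_⟩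
  rw [trace_cjt]
  simp only [LinearMap.smul_apply, h4, smul_eq_mul]
  field_simp
  ring

end CL.SLn.AH
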