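/-
`GL_p(q)` with `p` dividing `q - 1` exactly has a redundant Sylow `p`-subgroup.
-/
import Cfsg.Agent.Cls.SL2Redund

set_option autoImplicit false
set_option linter.unusedSectionVars false

namespace CL.GLpR

open Matrix Subgroup
open scoped Pointwise

section general
variable {G : Type*} [Group G] [Finite G] (p : ℕ) [Fact p.Prime]

/-- `x` lies in two Sylow subgroups -/
def Two (x : G) : Prop := ∃ P P' : Sylow p G, P ≠ P' ∧ x ∈ P ∧ x ∈ P'

variable {p}

theorem conj_mem_smul (P : Sylow p G) (g : G) {x : G} (h : x ∈ P) : g * x * g⁻¹ ∈ g • P := ⟨x, h, rfl⟩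

theorem Two.conj {x : G} (h : Two p x) (g : G) : Two p (g * x * g⁻¹) := by
  obtain ⟨P, P', h1, h2, h3⟩ := h
  exact ⟨g • P, g • P', fun e => h1 (smul_left_cancel g e), conj_mem_smul P g h2, conj_mem_smul P' g h3⟩

theorem two_of_comm {Q : Sylow p G} {x c r : G} (hx : x ∈ Q) (hc : c * x = x * c) (hr : r ∈ Q)
    (h : c * r * c⁻¹ ∉ Q) : Two p x := by
  refine ⟨Q, c • Q, fun e => h (e ▸ conj_mem_smul Q c hr), hx, ?_⟩
  have := conj_mem_smul Q c hx
  rwa [hc, mul_inv_cancel_right] at this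

theorem two_of_pow {Q : Sylow p G} {x y : G} (hx : x ∈ Q) (hc : y * x = x * y) (hy : y ^ p = 1) (h : y ∉ Q) :
    Two p x := by
  have h1 : IsPGroup p (zpowers x) := Q.isPGroup'.to_le (zpowers_le.2 hx)
  have h2 : IsPGroup p (zpowers y) := fun ⟨g, k, hk⟩ => ⟨1, Subtype.ext (by
    simp only [← hk, pow_one, SubmonoidClass.coe_pow, OneMemClass.coe_one]
    rw [← zpow_natCast, ← _root_.zpow_mul, mul_comm, _root_.zpow_mul, zpow_natCast, hy, _root_.one_zpow])⟩
  have h3 : zpowers y ≤ normalizer (zpowers x : Set G) :=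
    zpowers_le.2 (centralizer_le_normalizer _ (mem_centralizer_iff.2 fun g ⟨k, hk⟩ => by
      rw [← hk]; exact ((show Commute y x from hc).zpow_right k).symm))
  obtain ⟨P, hP⟩ := (h1.to_sup_of_normal_left' h2 h3).exists_le_sylow
  exact ⟨Q, P, fun e => h (e ▸ hP (mem_sup_right (mem_zpowers y))), hx, hP (mem_sup_left (mem_zpowers x))⟩

theorem hasRedundant_of_two (Q : Sylow p G) (h : ∀ x ∈ Q, Two p x) : CL.SL2.HasRedundant p G := by
  refine ⟨Q, fun x hx => ?_⟩
  by_cases hQ : x ∈ Q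
  · obtain ⟨P, P', h1, h2, h3⟩ := h x hQ
    by_cases e : P = Q
    · exact ⟨P', fun e' => h1 (e.trans e'.symm), h3⟩
    · exact ⟨P, e, h2⟩
  · obtain ⟨P, hP⟩ := (CL.SL2.isPGroup_zpowers_of_orderOf hx).exists_le_sylow
    exact ⟨P, fun e => hQ (e ▸ hP (mem_zpowers x)), hP (mem_zpowers x)⟩

end general

variable {F : Type*} [Field F] {p : ℕ} [hp : Fact p.Prime]

/-- monomial matrices over the cyclic shifts -/
def mon (d : ZMod p → F) (i : ZMod p) : Matrix (ZMod p) (ZMod p) F := of fun k l => if l = k + i then d k else 0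

theorem mon_mul (d e : ZMod p → F) (i j : ZMod p) :
    mon d i * mon e j = mon (fun k => d k * e (k + i)) (i + j) := by
  ext k l
  simp only [mon, mul_apply, of_apply, ite_mul, zero_mul, Finset.sum_ite_eq', Finset.mem_univ, if_true]
  rw [mul_ite, mul_zero, add_assoc]

theorem mon_one : mon (fun _ : ZMod p => (1 : F)) 0 = 1 := by
  ext k l
  simp [mon, one_apply, eq_comm]

/-- a unit from a right inverse -/
def mkU (A B : Matrix (ZMod p) (ZMod p) F) (h : A * B = 1) : GL (ZMod p) F := ⟨A, B, h, mul_eq_one_comm.1 h⟩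

theorem ne_zero_of_pow {t : F} (h : t ^ p = 1) : t ≠ 0 := fun e => by
  rw [e, zero_pow hp.out.ne_zero] at h; exact zero_ne_one h

theorem mon_inv {d : ZMod p → F} (h : ∀ k, d k ^ p = 1) (i : ZMod p) :
    mon d i * mon (fun k => (d (k - i))⁻¹) (-i) = 1 := by
  rw [mon_mul, add_neg_cancel, ← mon_one]
  congr 1
  funext k
  rw [add_sub_cancel_right, mul_inv_cancel₀ (ne_zero_of_pow (h k))]

variable (F p) in
/-- the wreath product -/
def Q : Subgroup (GL (ZMod p) F) where
  carrier := {g | ∃ d i, (∀ k, d k ^ p = 1) ∧ (g : Matrix (ZMod p) (ZMod p) F) = mon d i}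
  mul_mem' := by
    rintro a b ⟨d, i, h1, h2⟩ ⟨e, j, h3, h4⟩
    exact ⟨fun k => d k * e (k + i), i + j, fun k => by rw [mul_pow, h1, h3, one_mul],
      by rw [Units.val_mul, h2, h4, mon_mul]⟩
  one_mem' := ⟨_, _, fun _ => one_pow _, mon_one.symm⟩
  inv_mem' := by
    rintro a ⟨d, i, h1, h2⟩
    exact ⟨_, _, fun k => by rw [inv_pow, h1, inv_one],
      Units.inv_eq_of_mul_eq_one_right (h2 ▸ mon_inv h1 i)⟩

theorem not_mem_Q {g : GL (ZMod p) F} {k l l' : ZMod p} (h : l ≠ l') (h1 : (g : Matrix _ _ F) k l ≠ 0)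
    (h2 : (g : Matrix _ _ F) k l' ≠ 0) : g ∉ Q F p := by
  rintro ⟨d, i, -, e⟩
  rw [e] at h1 h2
  simp only [mon, of_apply, ne_eq, ite_eq_right_iff, not_forall] at h1 h2
  exact h (h1.1.trans h2.1.symm)

theorem card_Q {ζ : F} (hζ : IsPrimitiveRoot ζ p) : Nat.card (Q F p) = p ^ (p + 1) := by
  have hd : ∀ (a : ZMod p → ZMod p) k, (ζ ^ (a k).val) ^ p = 1 := fun a k => by
    rw [← pow_mul, mul_comm, pow_mul, hζ.pow_eq_one, one_pow]
  let f : (ZMod p → ZMod p) × ZMod p → Q F p := fun a =>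
    ⟨mkU _ _ (mon_inv (hd a.1) a.2), _, _, hd a.1, rfl⟩
  have hf : Function.Bijective f := by
    constructor
    · rintro ⟨a, i⟩ ⟨b, j⟩ e
      have e1 : mon (fun k => ζ ^ (a k).val) i = mon (fun k => ζ ^ (b k).val) j :=
        congrArg (fun g : Q F p => ((g : GL (ZMod p) F) : Matrix (ZMod p) (ZMod p) F)) e
      have e2 : ∀ k, i = j ∧ a k = b k := fun k => by
        have := congrFun (congrFun e1 k) (k + i)
        simp only [mon, of_apply, if_true, add_right_inj] at this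
        split_ifs at this with h
        · exact ⟨h, ZMod.val_injective p (hζ.pow_inj (ZMod.val_lt _) (ZMod.val_lt _) this)⟩
        · exact absurd this (ne_zero_of_pow (hd a k))
      exact Prod.ext (funext fun k => (e2 k).2) (e2 0).1
    · rintro ⟨g, d, i, h1, h2⟩
      have := fun k => hζ.eq_pow_of_pow_eq_one (h1 k)
      choose n hn hn' using this
      refine ⟨(fun k => (n k : ZMod p), i), Subtype.ext (Units.ext ?_)⟩
      rw [h2]
      change mon _ _ = _
      congr 1
      funext k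
      rw [ZMod.val_cast_of_lt (hn k), hn']
  rw [← Nat.card_eq_of_bijective f hf, Nat.card_prod, Nat.card_fun, Nat.card_zmod, pow_succ]

/-- the reflection in the `j`-th coordinate -/
theorem refl_mem {ζ : F} (hζ : ζ ^ p = 1) (j : ZMod p) :
    ∃ r ∈ Q F p, (r : Matrix (ZMod p) (ZMod p) F) = 1 + single j j (ζ - 1) := by
  have hd : ∀ k : ZMod p, (if k = j then ζ else 1) ^ p = 1 := fun k => by split_ifs <;> simp [hζ]
  refine ⟨mkU _ _ (mon_inv hd 0), ⟨_, _, hd, rfl⟩, ?_⟩
  change mon _ _ = _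
  ext k l
  by_cases h1 : k = l
  · subst h1
    by_cases h2 : k = j
    · simp [mon, h2]
    · simp [mon, h2, single, Ne.symm h2]
  · simp only [mon, add_zero, of_apply, if_neg (Ne.symm h1), Matrix.add_apply, one_apply_ne h1, zero_add, single]
    rw [if_neg fun h => h1 (h.1.symm.trans h.2)]

theorem conj_refl (c r : GL (ZMod p) F) {j : ZMod p} {a : F}
    (hr : (r : Matrix (ZMod p) (ZMod p) F) = 1 + single j j a) (k l : ZMod p) :
    ((c * r * c⁻¹ : GL (ZMod p) F) : Matrix (ZMod p) (ZMod p) F) k l =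
      (1 : Matrix (ZMod p) (ZMod p) F) k l + (c : Matrix (ZMod p) (ZMod p) F) k j * a *
        ((c⁻¹ : GL (ZMod p) F) : Matrix (ZMod p) (ZMod p) F) j l := by
  rw [Units.val_mul, Units.val_mul, hr, mul_add, mul_one, add_mul, Units.mul_inv, Matrix.add_apply]
  congr 1
  simp [mul_apply, single, ite_and]

theorem mon_pow {d : ZMod p → F} (h : ∀ k, d k ^ p = 1) (i : ZMod p) (n : ℕ) :
    ∃ e : ZMod p → F, (∀ k, e k ^ p = 1) ∧ mon d i ^ n = mon e (n * i) := by
  induction n with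
  | zero => exact ⟨_, fun _ => one_pow _, by rw [pow_zero, Nat.cast_zero, zero_mul, mon_one]⟩
  | succ n ih =>
    obtain ⟨e, h1, h2⟩ := ih
    exact ⟨fun k => e k * d (k + n * i), fun k => by rw [mul_pow, h1, h, one_mul],
      by rw [pow_succ, h2, mon_mul, Nat.cast_succ, add_one_mul]⟩

theorem sum_ne_zero {d : ZMod p → F} (h : ∀ k, d k ^ p = 1) {i : ZMod p} (hi : i ≠ 0) (l : ZMod p) :
    (∑ n ∈ Finset.range p, mon d i ^ n) 0 l ≠ 0 := by
  rw [Matrix.sum_apply, Finset.sum_eq_single (l / i).val]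
  · obtain ⟨e, h1, h2⟩ := mon_pow h i (l / i).val
    rw [h2, ZMod.natCast_zmod_val, div_mul_cancel₀ _ hi]
    simpa [mon] using ne_zero_of_pow (h1 0)
  · intro n hn hne
    obtain ⟨e, h1, h2⟩ := mon_pow h i n
    rw [h2, mon, of_apply, if_neg]
    intro e1
    apply hne
    rw [e1, zero_add, mul_div_cancel_right₀ _ hi, ZMod.val_cast_of_lt (Finset.mem_range.1 hn)]
  · exact fun hn => absurd (Finset.mem_range.2 (ZMod.val_lt _)) hn

theorem mon_pow_p {d : ZMod p → F} (h : ∀ k, d k ^ p = 1) {i : ZMod p} (hi : i ≠ 0) :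
    ∃ c : F, mon d i ^ p = c • (1 : Matrix (ZMod p) (ZMod p) F) := by
  obtain ⟨e, -, h2⟩ := mon_pow h i p
  rw [ZMod.natCast_self, zero_mul] at h2
  have h3 : mon d i * mon e 0 = mon e 0 * mon d i := by rw [← h2, ← pow_succ, ← pow_succ']
  rw [mon_mul, mon_mul, add_zero, zero_add] at h3
  have h4 : ∀ k, e (k + i) = e k := fun k => by
    have := congrFun (congrFun h3 k) (k + i)
    simp only [mon, of_apply, if_true, add_zero] at this
    exact mul_left_cancel₀ (ne_zero_of_pow (h k)) (this.trans (mul_comm _ _))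
  have h5 : ∀ n : ℕ, e (n * i) = e 0 := fun n => by
    induction n with
    | zero => simp
    | succ n ih => rw [Nat.cast_succ, add_one_mul, h4, ih]
  refine ⟨e 0, h2.trans ?_⟩
  ext k l
  have := h5 (k / i).val
  rw [ZMod.natCast_zmod_val, div_mul_cancel₀ _ hi] at this
  simp [mon, one_apply, this, eq_comm]

variable [Finite F]

theorem two_shift (hp2 : p ≠ 2) (hpF : (p : F) ≠ 0) {ζ : F} (hζ : IsPrimitiveRoot ζ p) {S : Sylow p (GL (ZMod p) F)}
    (hS : (S : Subgroup _) = Q F p) {x : GL (ZMod p) F} {d : ZMod p → F} (h : ∀ k, d k ^ p = 1) {i : ZMod p}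
    (hi : i ≠ 0) (hx : (x : Matrix (ZMod p) (ZMod p) F) = mon d i) : Two p x := by
  have hxS : x ∈ S := show x ∈ (S : Subgroup _) from hS ▸ ⟨d, i, h, hx⟩
  have ha : ζ - 1 ≠ 0 := sub_ne_zero.2 (hζ.ne_one hp.out.one_lt)
  have h2 : (2 : ZMod p) ≠ 0 := by
    have := (ZMod.natCast_eq_zero_iff 2 p).not.2 fun h => hp2 ((Nat.prime_dvd_prime_iff_eq hp.out Nat.prime_two).1 h)
    exact_mod_cast this
  have h12 : (1 : ZMod p) ≠ -1 := fun e => h2 (by linear_combination e)
  have h1' : (0 : ZMod p) ≠ -1 := fun e => one_ne_zero (neg_eq_zero.1 e.symm)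
  obtain ⟨c, hc⟩ := mon_pow_p h hi
  have hN := sum_ne_zero h hi
  have e := mul_neg_geom_sum (mon d i) p
  set N := ∑ n ∈ Finset.range p, mon d i ^ n with hNd
  rw [hc] at e
  by_cases hc1 : c = 1
  · rw [hc1, one_smul, sub_self, sub_mul, one_mul, sub_eq_zero] at e
    have e1 : ∀ n, mon d i ^ n * N = N := fun n => by
      induction n with
      | zero => rw [pow_zero, one_mul]
      | succ n ih => rw [pow_succ, mul_assoc, ← e, ih]
    have e2 : N * N = (p : F) • N := by
      conv_lhs => rw [hNd, Finset.sum_mul, ← hNd]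
      simp [e1, Nat.cast_smul_eq_nsmul]
    have e3 : ∀ n, (1 + ((ζ - 1) / p) • N) ^ n = 1 + ((ζ ^ n - 1) / p) • N := fun n => by
      induction n with
      | zero => simp
      | succ n ih =>
        rw [pow_succ, ih, mul_add, mul_one, add_mul, one_mul, smul_mul_smul_comm, e2, smul_smul, add_assoc, ← add_smul,
          ← add_smul]
        congr 2
        field_simp
        ring
    have e4 : (1 + ((ζ - 1) / p) • N) ^ p = 1 := by rw [e3, hζ.pow_eq_one, sub_self, zero_div, zero_smul, add_zero]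
    have e5 : (1 + ((ζ - 1) / p) • N) * (1 + ((ζ - 1) / p) • N) ^ (p - 1) = 1 := by
      rw [← pow_succ', Nat.sub_add_cancel hp.out.one_le, e4]
    refine two_of_pow (y := mkU _ _ e5) hxS (Units.ext ?_) (Units.ext ?_) fun hy => ?_
    · change (1 + _ • N) * (x : Matrix (ZMod p) (ZMod p) F) = x * (1 + _ • N)
      rw [hx]
      exact ((Commute.one_left _).add_left ((Commute.sum_left _ _ _ fun n _ =>
        (Commute.refl _).pow_left n).smul_left _)).eq
    · rw [Units.val_pow_eq_pow_val]; exact e4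
    · refine not_mem_Q (k := 0) h12 ?_ ?_ (by rw [← hS]; exact hy)
      · change (1 + ((ζ - 1) / p) • N) 0 1 ≠ 0
        rw [Matrix.add_apply, one_apply_ne zero_ne_one, zero_add, Matrix.smul_apply, smul_eq_mul]
        exact mul_ne_zero (div_ne_zero ha hpF) (hN _)
      · change (1 + ((ζ - 1) / p) • N) 0 (-1) ≠ 0
        rw [Matrix.add_apply, one_apply_ne h1', zero_add, Matrix.smul_apply, smul_eq_mul]
        exact mul_ne_zero (div_ne_zero ha hpF) (hN _)
  · have hc2 : 1 - c ≠ 0 := sub_ne_zero.2 (Ne.symm hc1)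
    have e1 : (1 - mon d i) * ((1 - c)⁻¹ • N) = 1 := by
      rw [mul_smul_comm, e]
      nth_rewrite 1 [← one_smul F (1 : Matrix (ZMod p) (ZMod p) F)]
      rw [← sub_smul, smul_smul, inv_mul_cancel₀ hc2, one_smul]
    obtain ⟨r, hr, hr'⟩ := refl_mem hζ.pow_eq_one (0 : ZMod p)
    have key : ∀ l : ZMod p, 0 ≠ l →
        ((mkU _ _ e1 * r * (mkU _ _ e1)⁻¹ : GL (ZMod p) F) : Matrix (ZMod p) (ZMod p) F) 0 l ≠ 0 := fun l hl => by
      rw [conj_refl _ r hr', one_apply_ne hl, zero_add]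
      refine mul_ne_zero (mul_ne_zero ?_ ha) (mul_ne_zero (inv_ne_zero hc2) (hN l))
      change (1 - mon d i) 0 0 ≠ 0
      simp [mon, Ne.symm hi]
    refine two_of_comm (c := mkU _ _ e1) hxS (Units.ext ?_) (show r ∈ (S : Subgroup _) from hS ▸ hr) fun hy => ?_
    · change (1 - mon d i) * (x : Matrix (ZMod p) (ZMod p) F) = x * (1 - mon d i)
      rw [hx, sub_mul, mul_sub, one_mul, mul_one]
    · exact not_mem_Q h12 (key _ zero_ne_one) (key _ h1') (by rw [← hS]; exact hy)

theorem pow_val_add {t : F} (h : t ^ p = 1) (a b : ZMod p) : t ^ (a + b).val = t ^ a.val * t ^ b.val := by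
  rw [ZMod.val_add, ← pow_eq_pow_mod _ h, pow_add]

theorem sum_pow_val {t : F} (h : t ^ p = 1) (h1 : t ≠ 1) : ∑ j : ZMod p, t ^ j.val = 0 := by
  have := Equiv.sum_comp (Equiv.addRight (1 : ZMod p)) fun j => t ^ j.val
  simp only [Equiv.coe_addRight, pow_val_add h, ZMod.val_one, pow_one, ← Finset.sum_mul] at this
  have e : (∑ j : ZMod p, t ^ j.val) * (t - 1) = 0 := by rw [mul_sub, this, mul_one, sub_self]
  exact (mul_eq_zero.1 e).resolve_right (sub_ne_zero.2 h1)

theorem two_all (hp2 : p ≠ 2) (hpF : (p : F) ≠ 0) {ζ : F} (hζ : IsPrimitiveRoot ζ p) {S : Sylow p (GL (ZMod p) F)}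
    (hS : (S : Subgroup _) = Q F p) (x : GL (ZMod p) F) (hxS : x ∈ S) : Two p x := by
  obtain ⟨d, i, h, hx⟩ : x ∈ Q F p := hS ▸ hxS
  by_cases hi : i = 0
  swap
  · exact two_shift hp2 hpF hζ hS h hi hx
  subst hi
  by_cases hd : Function.Injective d
  · have e : (of fun k j : ZMod p => d k ^ j.val) * (of fun j k : ZMod p => (p : F)⁻¹ * (d k)⁻¹ ^ j.val) = 1 := by
      ext k l
      simp only [mul_apply, of_apply, mul_left_comm _ (p : F)⁻¹, ← mul_pow, ← Finset.mul_sum]
      by_cases e1 : k = l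
      · subst e1
        simp [mul_inv_cancel₀ (ne_zero_of_pow (h k)), hpF]
      · rw [sum_pow_val (by rw [mul_pow, inv_pow, h, h, inv_one, one_mul]), mul_zero, one_apply_ne e1]
        exact fun e2 => e1 (hd ((mul_inv_eq_one₀ (ne_zero_of_pow (h l))).1 e2))
    have h1 : ∀ k : ZMod p, (fun _ => (1 : F)) k ^ p = 1 := fun _ => one_pow _
    have h2 := (two_shift hp2 hpF hζ hS (x := mkU _ _ (mon_inv h1 (-1))) h1 (neg_ne_zero.2 one_ne_zero) rfl).conj
      (mkU _ _ e)
    convert h2 using 1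
    rw [eq_mul_inv_iff_mul_eq]
    refine Units.ext ?_
    change (x : Matrix (ZMod p) (ZMod p) F) * (of fun k j : ZMod p => d k ^ j.val) =
      (of fun k j : ZMod p => d k ^ j.val) * mon _ (-1)
    rw [hx]
    ext k l
    have e2 : ∀ j : ZMod p, l = j + -1 ↔ j = l + 1 := fun j => ⟨fun e => by rw [e]; ring, fun e => by rw [e]; ring⟩
    simp [mul_apply, mon, e2, pow_val_add (h k), ZMod.val_one, mul_comm]
  · obtain ⟨i, j, e, hij⟩ := Function.not_injective_iff.1 hd
    have e1 : (1 + single i j (1 : F)) * (1 - single i j (1 : F)) = 1 := by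
      rw [mul_sub, mul_one, add_mul, one_mul, single_mul_single_of_ne _ _ _ _ (Ne.symm hij), add_zero,
        add_sub_cancel_right]
    obtain ⟨r, hr, hr'⟩ := refl_mem hζ.pow_eq_one j
    refine two_of_comm (c := mkU _ _ e1) hxS (Units.ext ?_) (show r ∈ (S : Subgroup _) from hS ▸ hr) fun hy => ?_
    · change (1 + single i j (1 : F)) * (x : Matrix (ZMod p) (ZMod p) F) = x * (1 + single i j (1 : F))
      rw [hx, add_mul, mul_add, one_mul, mul_one]
      congr 1
      ext k l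
      by_cases h1 : i = k <;> by_cases h2 : j = l <;> simp_all [mul_apply, mon, single]
    · refine not_mem_Q (k := i) hij ?_ ?_ (by rw [← hS]; exact hy)
      · rw [conj_refl _ r hr']
        change _ + _ * (1 - single i j (1 : F)) j i ≠ 0
        simp [single, hij, one_apply_ne (Ne.symm hij)]
      · rw [conj_refl _ r hr']
        change _ + (1 + single i j (1 : F)) i j * _ * (1 - single i j (1 : F)) j j ≠ 0
        simpa [single, hij, one_apply_ne hij] using sub_ne_zero.2 (hζ.ne_one hp.out.one_lt)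

omit [Finite F] in
theorem fact_card [Fintype F] (hp2 : p ≠ 2) (h1 : p ∣ Fintype.card F - 1) (h2 : ¬ p ^ 2 ∣ Fintype.card F - 1) :
    (Nat.card (GL (Fin p) F)).factorization p = p + 1 := by
  have hq : 1 < Fintype.card F := Fintype.one_lt_card
  set q := Fintype.card F with hqd
  have h3 : ¬ p ∣ q := fun h => hp.out.one_lt.ne' (Nat.dvd_one.1 (by
    have := Nat.dvd_sub h h1
    rwa [Nat.sub_sub_self hq.le] at this))
  have h4 : padicValNat p (q - 1) = 1 := by
    have h5 := (padicValNat_dvd_iff_le (p := p) (n := 2) (Nat.sub_ne_zero_of_lt hq)).not.1 h2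
    have h6 := (padicValNat_dvd_iff_le (p := p) (n := 1) (Nat.sub_ne_zero_of_lt hq)).1 (by rwa [pow_one])
    omega
  have h5 : ∀ i : Fin p, q ^ p - q ^ (i : ℕ) ≠ 0 ∧
      (q ^ p - q ^ (i : ℕ)).factorization p = 1 + if (i : ℕ) = 0 then 1 else 0 := fun i => by
    have e : q ^ p - q ^ (i : ℕ) = q ^ (i : ℕ) * (q ^ (p - i) - 1 ^ (p - i)) := by
      rw [one_pow, Nat.mul_sub, mul_one, ← pow_add, Nat.add_sub_cancel' i.2.le]
    have hi : p - i ≠ 0 := Nat.sub_ne_zero_of_lt i.2
    have h6 : q ^ (p - i) - 1 ^ (p - i) ≠ 0 := Nat.sub_ne_zero_of_lt (Nat.pow_lt_pow_left hq hi)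
    refine ⟨e ▸ mul_ne_zero (pow_ne_zero _ (by omega)) h6, ?_⟩
    rw [e, Nat.factorization_def _ hp.out, padicValNat.mul (pow_ne_zero _ (by omega)) h6,
      padicValNat.eq_zero_of_not_dvd (fun h => h3 (hp.out.dvd_of_dvd_pow h)), zero_add,
      padicValNat.pow_sub_pow (hp.out.odd_of_ne_two hp2) hq h1 h3 hi, h4]
    split_ifs with h7
    · rw [h7, Nat.sub_zero, padicValNat_self]
    · rw [padicValNat.eq_zero_of_not_dvd (Nat.not_dvd_of_pos_of_lt (by omega) (by have := i.2; omega))]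
  rw [card_GL_field, Nat.factorization_prod fun i _ => (h5 i).1, Finsupp.finsetSum_apply,
    Finset.sum_congr rfl fun i _ => (h5 i).2, Finset.sum_add_distrib,
    Finset.sum_eq_single (⟨0, hp.out.pos⟩ : Fin p) (fun i _ hi => if_neg fun e => hi (Fin.ext e)) (by simp)]
  simp

omit [Finite F] in
/-- **`GL_p(q)` has a redundant Sylow `p`-subgroup** if `p` is odd and divides `q - 1` exactly. -/
theorem hasRedundant [Fintype F] (hp2 : p ≠ 2) (h1 : p ∣ Fintype.card F - 1) (h2 : ¬ p ^ 2 ∣ Fintype.card F - 1) :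
    CL.SL2.HasRedundant p (GL (Fin p) F) := by
  classical
  let e : GL (ZMod p) F ≃* GL (Fin p) F :=
    Units.mapEquiv (reindexAlgEquiv F F (ZMod.finEquiv p).toEquiv.symm).toMulEquiv
  obtain ⟨u, hu⟩ := exists_prime_orderOf_dvd_card (G := Fˣ) p (by rwa [Fintype.card_units])
  have hζ : IsPrimitiveRoot (u : F) p := by
    rw [IsPrimitiveRoot.coe_units_iff, ← hu]; exact IsPrimitiveRoot.orderOf u
  have hpF : (p : F) ≠ 0 := (hζ.neZero' (n := p)).out
  refine (CL.SL2.hasRedundant_iff_of_surjective e.toMonoidHom e.surjective ?_).1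
    (hasRedundant_of_two (Sylow.ofCard (Q F p) ?_) (two_all hp2 hpF hζ rfl))
  · rw [(MonoidHom.ker_eq_bot_iff e.toMonoidHom).2 e.injective]; exact IsPGroup.of_bot
  · rw [card_Q hζ, Nat.card_congr e.toEquiv, fact_card hp2 h1 h2]

end CL.GLpR
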