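/-
Complete pairs of transvections: from two full root groups with a common axis and an element `v`
of `H` one climbs to all transvections.
-/
import Cfsg.Agent.Cls.SLnTv

set_option autoImplicit false

namespace CL.SLn

open Module

section General

variable {F V G : Type*} [Field F] [AddCommGroup V] [Module F V] [Group G]
  [DistribMulAction G V] [SMulCommClass G F V]

/-- The whole root group of `(b, ψ)` lies in `H`. -/
def FullTv (H : Subgroup G) (b : V) (ψ : Dual F V) : Prop := ∀ s : F, Tv H (s • b) ψ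

/-- All transvections with centre in `Z` and functional in `Ψ` lie in `H`. -/
def Complete (H : Subgroup G) (Z : Submodule F V) (Ψ : Submodule F (Dual F V)) : Prop :=
  ∀ z ∈ Z, ∀ ψ ∈ Ψ, ψ z = 0 → Tv H z ψ

variable {H : Subgroup G}

omit [SMulCommClass G F V] in
theorem FullTv.tv {b : V} {ψ : Dual F V} (h : FullTv H b ψ) : Tv H b ψ := by simpa using h 1

omit [SMulCommClass G F V] in
theorem FullTv.zero {b : V} {ψ : Dual F V} (h : FullTv H b ψ) : ψ b = 0 := h.tv.1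

omit [SMulCommClass G F V] in
theorem FullTv.smul {b : V} {ψ : Dual F V} (h : FullTv H b ψ) (c : F) : FullTv H (c • b) ψ :=
  fun s ↦ by rw [smul_smul]; exact h _

omit [SMulCommClass G F V] in
theorem FullTv.right {b : V} {ψ : Dual F V} (h : FullTv H b ψ) (c : F) : Tv H b (c • ψ) :=
  (h c).of_smul_left h.zero

omit [SMulCommClass G F V] in
theorem FullTv.smul_right {b : V} {ψ : Dual F V} (h : FullTv H b ψ) (c : F) :
    FullTv H b (c • ψ) := fun s ↦ (h.smul s).right c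

theorem FullTv.conj {b : V} {ψ : Dual F V} (h : FullTv H b ψ) {g : G} (hg : g ∈ H) :
    FullTv H (g • b) (dact g ψ) := fun s ↦ by
  rw [← smul_comm g]; exact (h s).conj hg

omit [SMulCommClass G F V] in
theorem Complete.full {Z : Submodule F V} {Ψ : Submodule F (Dual F V)} (h : Complete H Z Ψ)
    {z : V} (hz : z ∈ Z) {ψ : Dual F V} (hψ : ψ ∈ Ψ) (h0 : ψ z = 0) : FullTv H z ψ :=
  fun s ↦ h _ (Z.smul_mem s hz) _ hψ (by simp [h0])

theorem Complete.addVec {Z : Submodule F V} {Ψ : Submodule F (Dual F V)} (h : Complete H Z Ψ)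
    {ψ₀ : Dual F V} (hψ₀ : ψ₀ ∈ Ψ) {z₀ : V} (hz₀ : z₀ ∈ Z) (hne : ψ₀ z₀ ≠ 0) {b : V}
    (hb : FullTv H b ψ₀) : Complete H (Z ⊔ Submodule.span F {b}) Ψ := by
  have A : ∀ b : V, FullTv H b ψ₀ → ∀ z ∈ Z, ∀ ψ ∈ Ψ, ψ (z + b) = 0 → ψ₀ z ≠ 0 →
      Tv H (z + b) ψ := by
    intro b hb z hz ψ hψ h0 hσ
    have h1 : ψ z + ψ b = 0 := by simpa using h0
    have h2 := h z hz (ψ + ((ψ₀ z)⁻¹ * ψ b) • ψ₀) (Ψ.add_mem hψ (Ψ.smul_mem _ hψ₀))
      (by simp only [LinearMap.add_apply, LinearMap.smul_apply, smul_eq_mul]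
          field_simp; exact h1)
    have h3 := (hb (ψ₀ z)⁻¹).conj_tv h2
    have e1 : z + ψ₀ z • (ψ₀ z)⁻¹ • b = z + b := by rw [smul_smul, mul_inv_cancel₀ hσ, one_smul]
    have e2 : ψ + ((ψ₀ z)⁻¹ * ψ b) • ψ₀ -
        (ψ + ((ψ₀ z)⁻¹ * ψ b) • ψ₀) ((ψ₀ z)⁻¹ • b) • ψ₀ = ψ := by
      simp [hb.zero]
    rwa [e1, e2] at h3
  intro x hx ψ hψ h0
  obtain ⟨z, hz, y, hy, rfl⟩ := Submodule.mem_sup.1 hx
  obtain ⟨s, rfl⟩ := Submodule.mem_span_singleton.1 hy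
  have hb' := hb.smul s
  generalize s • b = b at *
  by_cases hσ : ψ₀ z = 0
  swap
  · exact A b hb' z hz ψ hψ h0 hσ
  by_cases hz₁ : ∃ z₁ ∈ Z, ψ z₁ = 0 ∧ ψ₀ z₁ ≠ 0
  · obtain ⟨z₁, hz₁, h1, h2⟩ := hz₁
    have h3 := A b hb' (z + z₁) (Z.add_mem hz hz₁) ψ hψ
      (by rw [add_right_comm, map_add, h0, h1, add_zero]) (by simpa [hσ] using h2)
    have h4 := h3.sub_left (h z₁ hz₁ ψ hψ h1)
    rwa [show z + z₁ + b - z₁ = z + b by abel] at h4
  push Not at hz₁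
  have h1 : ψ z₀ ≠ 0 := fun e ↦ hne (hz₁ z₀ hz₀ e)
  have h2 : ∀ y ∈ Z, ψ₀ y * ψ z₀ = ψ₀ z₀ * ψ y := by
    intro y hy
    have := hz₁ (ψ z₀ • y - ψ y • z₀) (Z.sub_mem (Z.smul_mem _ hy) (Z.smul_mem _ hz₀))
      (by simp [mul_comm])
    simp only [map_sub, map_smul, smul_eq_mul] at this
    linear_combination this
  have h3 : ψ z = 0 := by
    have := h2 z hz
    rw [hσ, zero_mul] at this
    exact (mul_eq_zero.1 this.symm).resolve_left hne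
  have h4 : ψ b = 0 := by simpa [h3] using h0
  refine (h z hz ψ hψ h3).add_left ?_
  set χ := ψ - (ψ z₀ / ψ₀ z₀) • ψ₀ with hχ
  have h5 : Tv H z₀ χ := h z₀ hz₀ χ (Ψ.sub_mem hψ (Ψ.smul_mem _ hψ₀)) (by
    simp only [hχ, LinearMap.sub_apply, LinearMap.smul_apply, smul_eq_mul]; field_simp; ring)
  have h6 := (hb' (ψ₀ z₀)⁻¹).comm h5 (by simp [hχ, h4, hb'.zero])
  rw [smul_smul, mul_inv_cancel₀ hne, one_smul] at h6
  have h7 := h6.add_right (hb'.right (ψ z₀ / ψ₀ z₀))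
  rwa [hχ, sub_add_cancel] at h7

theorem Complete.addFun {Z : Submodule F V} {Ψ : Submodule F (Dual F V)} (h : Complete H Z Ψ)
    {b₀ : V} (hb₀ : b₀ ∈ Z) {ψ₁ : Dual F V} (hψ₁ : ψ₁ ∈ Ψ) (hne : ψ₁ b₀ ≠ 0) {χ : Dual F V}
    (hχ : FullTv H b₀ χ) : Complete H Z (Ψ ⊔ Submodule.span F {χ}) := by
  have A : ∀ χ : Dual F V, FullTv H b₀ χ → ∀ z ∈ Z, ∀ ψ ∈ Ψ, (ψ + χ) z = 0 → ψ b₀ ≠ 0 →
      Tv H z (ψ + χ) := by
    intro χ hχ z hz ψ hψ h0 hσ
    have h1 : ψ z + χ z = 0 := by simpa using h0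
    have h2 := h (z + ((ψ b₀)⁻¹ * χ z) • b₀) (Z.add_mem hz (Z.smul_mem _ hb₀)) ψ hψ
      (by simp only [map_add, map_smul, smul_eq_mul]; field_simp; exact h1)
    have h3 := (hχ (-(ψ b₀)⁻¹)).conj_tv h2
    have e1 : z + ((ψ b₀)⁻¹ * χ z) • b₀ + χ (z + ((ψ b₀)⁻¹ * χ z) • b₀) • -(ψ b₀)⁻¹ • b₀ = z := by
      simp only [map_add, map_smul, smul_eq_mul, hχ.zero]; module
    have e2 : ψ - ψ (-(ψ b₀)⁻¹ • b₀) • χ = ψ + χ := by
      rw [map_smul, smul_eq_mul, neg_mul, inv_mul_cancel₀ hσ]; module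
    rwa [e1, e2] at h3
  intro z hz x hx h0
  obtain ⟨ψ, hψ, y, hy, rfl⟩ := Submodule.mem_sup.1 hx
  obtain ⟨s, rfl⟩ := Submodule.mem_span_singleton.1 hy
  have hχ' := hχ.smul_right s
  generalize s • χ = χ at *
  by_cases hσ : ψ b₀ = 0
  swap
  · exact A χ hχ' z hz ψ hψ h0 hσ
  by_cases hψ₂ : ∃ ψ₂ ∈ Ψ, ψ₂ z = 0 ∧ ψ₂ b₀ ≠ 0
  · obtain ⟨ψ₂, hψ₂, h1, h2⟩ := hψ₂
    have h3 := A χ hχ' z hz (ψ + ψ₂) (Ψ.add_mem hψ hψ₂)
      (by rw [add_right_comm, LinearMap.add_apply, h0, h1, add_zero]) (by simpa [hσ] using h2)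
    have h4 := h3.sub_right (h z hz ψ₂ hψ₂ h1)
    rwa [show ψ + ψ₂ + χ - ψ₂ = ψ + χ by abel] at h4
  push Not at hψ₂
  have h1 : ψ₁ z ≠ 0 := fun e ↦ hne (hψ₂ ψ₁ hψ₁ e)
  have h3 : ψ z = 0 := by
    have := hψ₂ (ψ₁ z • ψ - ψ z • ψ₁) (Ψ.sub_mem (Ψ.smul_mem _ hψ) (Ψ.smul_mem _ hψ₁))
      (by simp [mul_comm])
    simpa [hσ, hne] using this
  have h4 : χ z = 0 := by simpa [h3] using h0
  refine (h z hz ψ hψ h3).add_right ?_
  set y := z - (ψ₁ z / ψ₁ b₀) • b₀ with hy'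
  have h5 : Tv H y ψ₁ := h y (Z.sub_mem hz (Z.smul_mem _ hb₀)) ψ₁ hψ₁ (by
    simp only [hy', map_sub, map_smul, smul_eq_mul]; field_simp; ring)
  have h6 := h5.comm (hχ' (ψ₁ b₀)⁻¹) (by simp [hy', h4, hχ'.zero])
  rw [map_smul, smul_eq_mul, inv_mul_cancel₀ hne, one_smul] at h6
  have h7 := h6.add_left (hχ' (ψ₁ z / ψ₁ b₀))
  rwa [hy', sub_add_cancel] at h7

variable [FiniteDimensional F V]

omit [SMulCommClass G F V] in
theorem Complete.exists_maximal {Z₀ : Submodule F V} {Ψ₀ : Submodule F (Dual F V)}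
    (h : Complete H Z₀ Ψ₀) : ∃ Z Ψ, Z₀ ≤ Z ∧ Ψ₀ ≤ Ψ ∧ Complete H Z Ψ ∧
      (∀ Z', Z ≤ Z' → Complete H Z' Ψ → Z' ≤ Z) ∧ (∀ Ψ', Ψ ≤ Ψ' → Complete H Z Ψ' → Ψ' ≤ Ψ) := by
  obtain ⟨Ψ, hΨ, ⟨Z₁, hZ₁, h1⟩, hmax⟩ := exists_maximal_ge_of_wellFoundedGT
    (fun Ψ : Submodule F (Dual F V) ↦ ∃ Z, Z₀ ≤ Z ∧ Complete H Z Ψ) Ψ₀ ⟨Z₀, le_rfl, h⟩
  obtain ⟨Z, hZ, h2, hmax'⟩ := exists_maximal_ge_of_wellFoundedGT
    (fun Z : Submodule F V ↦ Complete H Z Ψ) Z₁ h1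
  exact ⟨Z, Ψ, hZ₁.trans hZ, hΨ, h2, fun Z' hle hc ↦ hmax' hc hle,
    fun Ψ' hle hc ↦ hmax ⟨Z, hZ₁.trans hZ, hc⟩ hle⟩

/-- Climbing: two full root groups `(a, φ)`, `(v a, φ)` with `φ (v⁻¹ a) ≠ 0` and `φ` cocyclic
for `v` give all transvections with centre `a`. -/
theorem mem_centers_of_climb {v : G} (hv : v ∈ H) {a : V} {φ : Dual F V} (h0 : FullTv H a φ)
    (h1 : FullTv H (v • a) φ) (hne : φ (v⁻¹ • a) ≠ 0)
    (hcyc : ∀ x : V, (∀ k : ℕ, φ (v ^ k • x) = 0) → x = 0) : a ∈ centers F V H := by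
  have h2 : FullTv H (v • a) (dact v φ) := h0.conj hv
  have h3 : FullTv H (v • v • a) (dact v φ) := h1.conj hv
  have hc : Complete H (Submodule.span F {a, v • a}) (Submodule.span F {φ, dact v φ}) := by
    intro z hz ψ hψ he
    obtain ⟨x, y, rfl⟩ := Submodule.mem_span_pair.1 hz
    obtain ⟨s, t, rfl⟩ := Submodule.mem_span_pair.1 hψ
    have e : t = 0 ∨ x = 0 := by
      simpa [h0.zero, h1.zero, hne, or_comm, smul_comm v⁻¹] using he
    rcases e with rfl | rfl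
    · simpa using (h0.smul_right s x).add_left (h1.smul_right s y)
    · simpa using (h1.smul_right s y).add_right (h2.smul_right t y)
  obtain ⟨Z, Ψ, hZ, hΨ, hc, hmZ, hmΨ⟩ := hc.exists_maximal
  have ha0 : a ∈ Z := hZ (Submodule.subset_span (by simp))
  have ha1 : v • a ∈ Z := hZ (Submodule.subset_span (by simp))
  have hφ0 : φ ∈ Ψ := hΨ (Submodule.subset_span (by simp))
  have hφ1 : dact v φ ∈ Ψ := hΨ (Submodule.subset_span (by simp))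
  have ha2 : v • v • a ∈ Z := hmZ _ le_sup_left (hc.addVec hφ1 ha0 hne h3)
    (Submodule.mem_sup_right (Submodule.mem_span_singleton_self _))
  have P : ∀ ψ ∈ Ψ, ∀ z ∈ Z, v • z ∈ Z → ψ (v • z) = 0 → ∀ ψ₁ ∈ Ψ, ψ₁ z ≠ 0 →
      dact v⁻¹ ψ ∈ Ψ := by
    intro ψ hψ z hz hvz he ψ₁ hψ₁ hne'
    have := (hc.full hvz hψ he).conj (H.inv_mem hv)
    rw [inv_smul_smul] at this
    exact hmΨ _ le_sup_left (hc.addFun hz hψ₁ hne' this)
      (Submodule.mem_sup_right (Submodule.mem_span_singleton_self _))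
  have hinv : ∀ ψ ∈ Ψ, dact v⁻¹ ψ ∈ Ψ := by
    intro ψ hψ
    by_cases e1 : ψ (v • a) = 0
    · exact P ψ hψ a ha0 ha1 e1 _ hφ1 hne
    by_cases e2 : ψ (v • v • a) = 0
    · exact P ψ hψ _ ha1 ha2 e2 _ hψ e1
    refine P ψ hψ (a - (ψ (v • a) / ψ (v • v • a)) • v • a) (Z.sub_mem ha0 (Z.smul_mem _ ha1))
      ?_ ?_ _ hφ1 ?_
    · rw [smul_sub, smul_comm v]; exact Z.sub_mem ha1 (Z.smul_mem _ ha2)
    · rw [smul_sub, smul_comm v, map_sub, ψ.map_smul (_ / _ : F), smul_eq_mul]; field_simp; ring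
    · rw [map_sub, map_smul, h2.zero, smul_zero, sub_zero]; exact hne
  have hk : ∀ k : ℕ, dact (v ^ k)⁻¹ φ ∈ Ψ := by
    intro k
    induction k with
    | zero => simpa [show dact (1 : G) φ = φ by ext; simp] using hφ0
    | succ k ih =>
      have := hinv _ ih
      rwa [show dact v⁻¹ (dact (v ^ k)⁻¹ φ) = dact (v ^ (k + 1))⁻¹ φ by
        ext x; simp [pow_succ, mul_smul]] at this
  have htop : Ψ = ⊤ := by
    rw [← Submodule.span_eq Ψ]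
    refine Submodule.span_eq_top_of_ne_zero fun z hz ↦ ?_
    by_contra hcon
    push Not at hcon
    exact hz (hcyc z fun k ↦ by simpa using hcon _ (hk k))
  exact fun ψ hψ ↦ hc a ha0 ψ (htop ▸ Submodule.mem_top) hψ

omit [FiniteDimensional F V] [SMulCommClass G F V] in
/-- A functional not vanishing on the fixed vectors of a unipotent element is cocyclic. -/
theorem cocyclic_of_unipotent {v : G} {φ : Dual F V} (N : V →ₗ[F] V) (hN : ∀ x, v • x = x + N x)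
    (hnil : IsNilpotent N) (hfix : ∀ x, N x = 0 → φ x = 0 → x = 0) (x : V)
    (hx : ∀ k : ℕ, φ (v ^ k • x) = 0) : x = 0 := by
  obtain ⟨m, hm⟩ := hnil
  have key : ∀ m : ℕ, ∀ x : V, (N ^ m) x = 0 → (∀ k : ℕ, φ (v ^ k • x) = 0) → x = 0 := by
    intro m
    induction m with
    | zero => intro x h _; simpa using h
    | succ m ih =>
      intro x h hx
      refine hfix x (ih (N x) (by rwa [pow_succ, Module.End.mul_apply] at h) fun k ↦ ?_)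
        (by simpa using hx 0)
      have e : N x = v • x - x := by rw [hN]; abel
      rw [e, smul_sub, map_sub, smul_smul, ← pow_succ, hx, hx, sub_zero]
  exact key m x (by rw [hm]; rfl) hx

end General

end CL.SLn
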