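/-
The lower Jordan block `jor n = 1 + sh n` of `SL n F`, regular unipotent matrices, and a family of
pairs of regular unipotent elements generating `SL n F`.
-/
import Cfsg.Agent.Cls.GenPair

set_option autoImplicit false

namespace CL.SLn

open Module Matrix

section Mul

variable {F : Type*} [Field F]

/-- Every non-zero additive subgroup of `F` closed under multiplication by `κ` is `F`. -/
def GenMul (κ : F) : Prop :=
  ∀ X : AddSubgroup F, (∀ s ∈ X, κ * s ∈ X) → ∀ s ∈ X, s ≠ 0 → ∀ t, t ∈ X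

theorem pow_mul_mem {X : AddSubgroup F} {κ : F} (h : ∀ s ∈ X, κ * s ∈ X) (k : ℕ) :
    ∀ s ∈ X, κ ^ k * s ∈ X := by
  induction k with
  | zero => simp
  | succ k ih => intro s hs; rw [pow_succ', mul_assoc]; exact h _ (ih s hs)

theorem genMul_of_primitive {κ : F} (h : ∀ x : F, x ≠ 0 → ∃ k : ℕ, κ ^ k = x) : GenMul κ := by
  intro X hX s hs h0 t
  by_cases ht : t = 0
  · rw [ht]; exact X.zero_mem
  obtain ⟨k, hk⟩ := h (t / s) (div_ne_zero ht h0)
  have := pow_mul_mem hX k s hs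
  rwa [hk, div_mul_cancel₀ _ h0] at this

theorem exists_primitive (F : Type*) [Field F] [Finite F] :
    ∃ κ : F, κ ≠ 0 ∧ ∀ x : F, x ≠ 0 → ∃ k : ℕ, κ ^ k = x := by
  obtain ⟨g, hg⟩ := IsCyclic.exists_monoid_generator (α := Fˣ)
  refine ⟨g, g.ne_zero, fun x hx ↦ ?_⟩
  obtain ⟨k, hk⟩ := hg (Units.mk0 x hx)
  exact ⟨k, by simpa using congrArg Units.val hk⟩

theorem genMul_of_prime [Fintype F] (h : (Fintype.card F).Prime) (κ : F) : GenMul κ := by
  intro X _ s hs h0 t
  have : Fact (Nat.card F).Prime := ⟨by rwa [Nat.card_eq_fintype_card]⟩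
  rcases X.eq_bot_or_eq_top_of_prime_card with e | e
  · rw [e] at hs; exact absurd hs h0
  · rw [e]; trivial

end Mul

section General

variable {F V G : Type*} [Field F] [AddCommGroup V] [Module F V] [Group G]
  [DistribMulAction G V] {H : Subgroup G}

/-- The coefficients `s` with `(s • a, φ)` in `H`. -/
def coefs (H : Subgroup G) (a : V) (φ : Dual F V) : AddSubgroup F where
  carrier := {s | Tv H (s • a) φ}
  zero_mem' := by simpa using Tv.zero_left
  add_mem' h1 h2 := by simpa [add_smul] using Tv.add_left h1 h2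
  neg_mem' h := by simpa using Tv.neg_left h

theorem fullTv_of_genMul {κ : F} (hκ : GenMul κ) {a : V} {φ : Dual F V}
    (h : ∀ s : F, Tv H (s • a) φ → Tv H ((κ * s) • a) φ) {s : F} (h0 : s ≠ 0)
    (hs : Tv H (s • a) φ) : FullTv H a φ :=
  fun t ↦ hκ (coefs H a φ) h s hs h0 t

variable [SMulCommClass G F V]

/-- The root groups obtained from an element `A` of rank two whose square is a transvection. -/
theorem fullTv_of_rank_two {v A : G} (hv : v ∈ H) (hA : A ∈ H) {e a : V} {φ ε : Dual F V}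
    (hAy : ∀ y, A • y = y + φ y • e - ε y • a) (h1 : φ e = -2) (h2 : φ a = 0) (h3 : ε a = 2)
    (h4 : ε e = 1) (h5 : φ (v • a) = 0) (h6 : v • e = a - e) (h7 : ε (v⁻¹ • a) = 2)
    (hne : φ (v⁻¹ • a) ≠ 0)
    (hgen : GenMul (2 * φ (v⁻¹ • a)) ∨ ((2 : F) = 0 ∧ GenMul (φ (v⁻¹ • a)))) :
    FullTv H a φ ∧ FullTv H (v • a) φ := by
  set κ := φ (v⁻¹ • a) with hκ
  have t0 : Tv H ((-1 : F) • a) φ := ⟨by simp [h2], A * A, H.mul_mem hA hA, fun y ↦ by
    rw [mul_smul, hAy y, hAy]
    simp only [map_add, map_sub, map_smul, smul_eq_mul, h1, h2, h3, h4]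
    module⟩
  have s01 : ∀ s t : F, Tv H (s • a) φ → Tv H (t • a) φ → Tv H ((κ * s * t) • v • a) φ := by
    intro s t hs ht
    have := (hs.conj hv).comm ht (by rw [smul_comm v, map_smul, h5, smul_zero])
    rw [smul_comm v, smul_smul, dact_apply, smul_comm v⁻¹, map_smul, ← hκ, smul_eq_mul] at this
    rwa [show κ * s * t = t * κ * s by ring]
  have hAa : A • a = -a := by rw [hAy, h2, h3]; module
  have full : FullTv H a φ := by
    rcases hgen with hgen | ⟨htwo, hgen⟩
    · refine fullTv_of_genMul hgen (fun s hs ↦ ?_) (by simp) t0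
      have a1 := (s01 s (-1) hs t0).conj (H.inv_mem hv)
      rw [smul_comm v⁻¹, inv_smul_smul] at a1
      have a2 : Tv H (A • (κ * s * -1) • a) (dact v⁻¹ φ + (2 : F) • φ) := by
        refine a1.conj' hA fun x ↦ ?_
        simp only [hAy x, LinearMap.add_apply, dact_apply, inv_inv, LinearMap.smul_apply,
          map_add, map_sub, map_smul, smul_eq_mul, h5, h6, h1, h2]
        ring
      rw [smul_comm A, hAa, smul_neg] at a2
      have a3 := (a2.sub_right a1.neg_left)
      rw [add_sub_cancel_left] at a3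
      have a4 := a3.of_smul_right (by simp [h2])
      rwa [show (2 : F) • -((κ * s * -1) • a) = (2 * κ * s) • a by module] at a4
    · refine fullTv_of_genMul hgen (fun s hs ↦ ?_) (by simp) t0
      have a1 := hs.conj (H.inv_mem hv)
      have a2 : Tv H (A • v⁻¹ • s • a) (dact v⁻¹ φ) := by
        refine a1.conj' hA fun x ↦ ?_
        simp only [hAy x, dact_apply, inv_inv,
          map_add, map_sub, map_smul, smul_eq_mul, h5, h6, h1, h2]
        linear_combination (φ x) * htwo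
      have a3 := a2.sub_left a1
      rw [smul_comm v⁻¹, smul_comm A, hAy, ← hκ, h7, htwo] at a3
      generalize v⁻¹ • a = b at a3
      rw [show s • (b + κ • e - (0 : F) • a) - s • b = (κ * s) • e by module] at a3
      have a4 : Tv H (v • (κ * s) • e) φ := a3.conj' hv fun x ↦ by simp
      have a5 : Tv H (A • v • (κ * s) • e) φ := by
        refine a4.conj' hA fun x ↦ ?_
        simp only [hAy x, map_add, map_sub, map_smul, smul_eq_mul, h1, h2]
        linear_combination (-φ x) * htwo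
      rw [smul_comm v, h6] at a4 a5
      rw [smul_comm A, smul_sub A, hAa, hAy, h1, h4] at a5
      have a6 := a4.sub_left a5
      rw [show (κ * s) • (a - e) - (κ * s) • (-a - (e + (-2 : F) • e - (1 : F) • a)) =
        (κ * s) • a - (2 : F) • (κ * s) • e by module, htwo, zero_smul, sub_zero] at a6
      exact a6
  refine ⟨full, fun t ↦ ?_⟩
  have := s01 1 (t / κ) (full 1) (full _)
  rwa [mul_one, mul_div_cancel₀ _ hne] at this

end General

section Jordan

variable {F : Type*} [Field F]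

/-- The lower shift matrix. -/
def sh (F : Type*) [Field F] (n : ℕ) : Matrix (Fin n) (Fin n) F :=
  of fun i j ↦ if i.val = j.val + 1 then 1 else 0

/-- The standard basis vectors, indexed by natural numbers. -/
def bv (F : Type*) [Field F] (n j : ℕ) : Fin n → F := fun i ↦ if i.val = j then 1 else 0

theorem bv_apply {n : ℕ} (j : ℕ) (i : Fin n) : bv F n j i = if i.val = j then 1 else 0 := rfl

theorem bv_eq_single {n : ℕ} (j : Fin n) : bv F n j = Pi.single j 1 := by
  ext i; simp [bv_apply, Pi.single_apply, Fin.ext_iff]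

theorem bv_of_le {n j : ℕ} (h : n ≤ j) : bv F n j = 0 := by
  ext i; simp [bv_apply]; omega

theorem sh_mulVec_zero {r : ℕ} (x : Fin (r + 1) → F) : (sh F (r + 1) *ᵥ x) 0 = 0 := by
  simp [sh, mulVec, dotProduct]

theorem sh_mulVec_succ {r : ℕ} (x : Fin (r + 1) → F) (i : Fin r) :
    (sh F (r + 1) *ᵥ x) i.succ = x i.castSucc := by
  simp only [sh, mulVec, dotProduct, of_apply, Fin.val_succ, add_left_inj, ite_mul, one_mul,
    zero_mul]
  rw [Finset.sum_eq_single i.castSucc]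
  · simp
  · intro j _ hj; rw [if_neg]; intro e; exact hj (Fin.ext e.symm)
  · simp

theorem sh_bv {n : ℕ} (j : ℕ) : sh F n *ᵥ bv F n j = bv F n (j + 1) := by
  rcases n with _ | r
  · exact Subsingleton.elim _ _
  ext i
  refine Fin.cases ?_ (fun i ↦ ?_) i
  · simp [sh_mulVec_zero, bv_apply]
  · simp [sh_mulVec_succ, bv_apply]

theorem sh_pow_bv {n : ℕ} (k j : ℕ) : sh F n ^ k *ᵥ bv F n j = bv F n (j + k) := by
  induction k with
  | zero => simp
  | succ k ih => rw [pow_succ', ← mulVec_mulVec, ih, sh_bv, add_assoc]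

theorem sh_pow_self (n : ℕ) : sh F n ^ n = 0 := by
  ext i j
  have := congrFun (sh_pow_bv (F := F) (n := n) n j) i
  rw [bv_of_le (Nat.le_add_left _ _), bv_eq_single, mulVec_single_one] at this
  simpa using this

theorem sh_pow_ne_zero {n : ℕ} (hn : 1 ≤ n) : sh F n ^ (n - 1) ≠ 0 := by
  intro h
  have := congrFun (sh_pow_bv (F := F) (n := n) (n - 1) 0) ⟨n - 1, by omega⟩
  simp [h, bv_apply] at this

theorem eq_of_sh_mulVec {r : ℕ} {x : Fin (r + 1) → F} (h : sh F (r + 1) *ᵥ x = 0) :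
    x = x (Fin.last r) • bv F (r + 1) r := by
  ext i
  refine Fin.lastCases ?_ (fun i ↦ ?_) i
  · simp [bv_apply]
  · have := congrFun h i.succ
    rw [sh_mulVec_succ] at this
    simp [this, bv_apply, i.isLt.ne]

theorem det_one_add_sh (n : ℕ) : (1 + sh F n).det = 1 := by
  rw [det_of_isLowerTriangular]
  · simp [sh]
  · intro i j hij
    have : i < j := hij
    have h1 : i ≠ j := this.ne
    have h2 : i.val ≠ j.val + 1 := by have : i.val < j.val := this; omega
    simp [sh, h1, h2]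

/-- The lower Jordan block. -/
def jor (F : Type*) [Field F] (n : ℕ) : SpecialLinearGroup (Fin n) F := ⟨1 + sh F n, det_one_add_sh n⟩

/-- The lower Jordan block in `GL`. -/
def jorG (F : Type*) [Field F] (n : ℕ) : GL (Fin n) F := SpecialLinearGroup.toGL (jor F n)

theorem jorG_smul {n : ℕ} (x : Fin n → F) : jorG F n • x = x + sh F n *ᵥ x := by
  rw [gl_smul_def, jorG, SpecialLinearGroup.coe_GL_coe_matrix, jor]
  simp [add_mulVec]

theorem jorG_bv {n : ℕ} (j : ℕ) : jorG F n • bv F n j = bv F n j + bv F n (j + 1) := by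
  rw [jorG_smul, sh_bv]

/-- Regular unipotent matrices. -/
def RegUnip {n : ℕ} (M : Matrix (Fin n) (Fin n) F) : Prop :=
  IsNilpotent (M - 1) ∧ (M - 1) ^ (n - 1) ≠ 0

theorem regUnip_jor {n : ℕ} (hn : 1 ≤ n) : RegUnip (jor F n : Matrix (Fin n) (Fin n) F) := by
  have : (jor F n : Matrix (Fin n) (Fin n) F) - 1 = sh F n := by simp [jor]
  rw [RegUnip, this]
  exact ⟨⟨n, sh_pow_self n⟩, sh_pow_ne_zero hn⟩

theorem RegUnip.conj {n : ℕ} {M : Matrix (Fin n) (Fin n) F} (h : RegUnip M) (g : GL (Fin n) F) :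
    RegUnip (g.val * M * (g⁻¹).val) := by
  have e : g.val * M * (g⁻¹).val - 1 = g.val * (M - 1) * (g⁻¹).val := by
    simp [mul_sub, sub_mul]
  have e2 : ∀ k : ℕ, (g.val * (M - 1) * (g⁻¹).val) ^ k = g.val * (M - 1) ^ k * (g⁻¹).val :=
    fun k ↦ Units.conj_pow g _ k
  obtain ⟨⟨k, hk⟩, h2⟩ := h
  rw [RegUnip, e, e2]
  refine ⟨⟨k, by rw [e2, hk]; simp⟩, fun h0 ↦ h2 ?_⟩
  rwa [Units.mul_left_eq_zero, Units.mul_right_eq_zero] at h0

theorem eq_top_of_jor {n : ℕ} {W : Submodule F (Fin n → F)} (h0 : bv F n 0 ∈ W)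
    (h : ∀ x ∈ W, jorG F n • x ∈ W) : W = ⊤ := by
  have hb : ∀ j, bv F n j ∈ W := by
    intro j
    induction j with
    | zero => exact h0
    | succ j ih =>
      have := W.sub_mem (h _ ih) ih
      rwa [jorG_bv, add_sub_cancel_left] at this
  rw [eq_top_iff, ← (Pi.basisFun F (Fin n)).span_eq, Submodule.span_le]
  rintro _ ⟨j, rfl⟩
  rw [Pi.basisFun_apply, ← bv_eq_single]
  exact hb j

theorem cocyclic_jor {r : ℕ} {φ : Dual F (Fin (r + 1) → F)} (h : φ (bv F (r + 1) r) ≠ 0)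
    (x : Fin (r + 1) → F) (hx : ∀ k : ℕ, φ (jorG F (r + 1) ^ k • x) = 0) : x = 0 := by
  refine cocyclic_of_unipotent (Matrix.toLin' (sh F (r + 1))) (fun x ↦ jorG_smul x)
    ⟨r + 1, by rw [← Matrix.toLin'_pow, sh_pow_self, map_zero]⟩ (fun x h1 h2 ↦ ?_) x hx
  have e := eq_of_sh_mulVec h1
  rw [e, map_smul, smul_eq_mul, mul_eq_zero] at h2
  rw [e, h2.resolve_right h, zero_smul]

/-- The alternating vector `(2, -1, 1, -1, …)`. -/
def altv (F : Type*) [Field F] (n : ℕ) : Fin n → F :=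
  fun i ↦ (-1) ^ i.val + if i.val = 0 then 1 else 0

theorem jorG_altv (r : ℕ) : jorG F (r + 1) • altv F (r + 1) =
    (2 : F) • bv F (r + 1) 0 + bv F (r + 1) 1 := by
  rw [jorG_smul]
  ext i
  refine Fin.cases ?_ (fun i ↦ ?_) i
  · simp [sh_mulVec_zero, bv_apply, altv]; norm_num
  · simp [sh_mulVec_succ, bv_apply, altv, pow_succ]

/-- The matrix `x ↦ S x + γ x • b₀`. -/
theorem exists_gl_shift {r : ℕ} (γ : Dual F (Fin (r + 1) → F)) (h : γ (bv F (r + 1) r) ≠ 0) :
    ∃ g : GL (Fin (r + 1)) F, g.val.det = (-1) ^ r * γ (bv F (r + 1) r) ∧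
      ∀ x, g • x = sh F (r + 1) *ᵥ x + γ x • bv F (r + 1) 0 := by
  let M : Matrix (Fin (r + 1)) (Fin (r + 1)) F := (finRotate (r + 1))⁻¹.permMatrix F *
    LinearMap.toMatrix' (LinearMap.transvection (γ - LinearMap.proj (Fin.last r)) (bv F (r + 1) r))
  have hM : M.det = (-1) ^ r * γ (bv F (r + 1) r) := by
    simp [M, sign_finRotate, bv_apply]
  refine ⟨GeneralLinearGroup.mkOfDetNeZero M (by rw [hM]; simp [h]), hM, fun x ↦ ?_⟩
  change M *ᵥ x = _
  rw [← mulVec_mulVec, permMatrix_mulVec, LinearMap.toMatrix'_mulVec, LinearMap.transvection.apply]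
  ext i
  refine Fin.cases ?_ (fun i ↦ ?_) i
  · have : (finRotate (r + 1))⁻¹ 0 = Fin.last r := by
      rw [Equiv.Perm.inv_eq_iff_eq, finRotate_last]
    rw [Function.comp_apply, this]
    simp [sh_mulVec_zero, bv_apply]
  · have : (finRotate (r + 1))⁻¹ i.succ = i.castSucc := by
      rw [Equiv.Perm.inv_eq_iff_eq, finRotate_apply, Fin.coeSucc_eq_succ]
    rw [Function.comp_apply, this]
    simp [sh_mulVec_succ, bv_apply, i.isLt.ne]

open Cfsg Cfsg.Geo in
/-- A family of conjugates of the Jordan block which generate `SL` together with it. -/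
theorem exists_gen_pair {r : ℕ} (hr : 1 ≤ r) (φ : Dual F (Fin (r + 1) → F))
    (h0 : φ (bv F (r + 1) 0) = -2) (h1 : φ (bv F (r + 1) 1) = 4) (h2 : φ (bv F (r + 1) 2) = -8)
    (hl : φ (bv F (r + 1) r) ≠ 0) (hne : φ (altv F (r + 1)) ≠ 0)
    (hgen : GenMul (2 * φ (altv F (r + 1))) ∨ ((2 : F) = 0 ∧ GenMul (φ (altv F (r + 1))))) :
    ∃ g : GL (Fin (r + 1)) F, g.val.det = (-1) ^ r * φ (bv F (r + 1) r) ∧
      ∀ H : Subgroup (GL (Fin (r + 1)) F), jorG F (r + 1) ∈ H →
        g * jorG F (r + 1) * g⁻¹ ∈ H → specialLinear (Fin (r + 1)) F ≤ H := by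
  set v := jorG F (r + 1) with hv
  set ε : Dual F (Fin (r + 1) → F) := LinearMap.proj 0 with hε
  set γ : Dual F (Fin (r + 1) → F) := dact v⁻¹ φ - (2 : F) • ε with hγ
  have hεb : ∀ j, ε (bv F (r + 1) (j + 1)) = 0 := fun j ↦ by simp [hε, bv_apply]
  have hε0 : ε (bv F (r + 1) 0) = 1 := by simp [hε, bv_apply]
  have hεS : ∀ x, ε (sh F (r + 1) *ᵥ x) = 0 := fun x ↦ sh_mulVec_zero x
  have hγl : γ (bv F (r + 1) r) = φ (bv F (r + 1) r) := by
    obtain ⟨r, rfl⟩ := Nat.exists_eq_add_of_le' hr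
    simp [hγ, hv, jorG_bv, bv_of_le, hεb]
  obtain ⟨g, hg, hgx⟩ := exists_gl_shift γ (by rwa [hγl])
  refine ⟨g, by rw [hg, hγl], fun H hvH huH ↦ ?_⟩
  set a := (2 : F) • bv F (r + 1) 0 + bv F (r + 1) 1 with ha
  have hva : v⁻¹ • a = altv F (r + 1) := by rw [inv_smul_eq_iff, jorG_altv]
  have hvS : ∀ x, v • (sh F (r + 1) *ᵥ x) = sh F (r + 1) *ᵥ (v • x) := fun x ↦ by
    rw [jorG_smul, jorG_smul, mulVec_add]
  have hAy : ∀ y, (g * v * g⁻¹ * v⁻¹) • y = y + φ y • bv F (r + 1) 0 - ε y • a := by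
    intro y
    obtain ⟨x, rfl⟩ : ∃ x, y = v • g • x := ⟨g⁻¹ • v⁻¹ • y, by simp⟩
    simp only [mul_smul, inv_smul_smul]
    have e : γ (v • x) = γ x + φ (v • (sh F (r + 1) *ᵥ x)) := by
      rw [jorG_smul x, map_add]; simp [hγ, hεS]
    rw [hgx, hgx, e, smul_add, smul_comm v, hvS, jorG_bv]
    have hε1 : ε (bv F (r + 1) 1) = 0 := hεb 0
    simp only [map_add, map_smul, smul_eq_mul, h0, zero_add, h1, hεS, hε0, hε1, ha]
    generalize v • x = y
    module
  have hA : g * v * g⁻¹ * v⁻¹ ∈ H := H.mul_mem huH (H.inv_mem hvH)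
  have hφa : φ a = 0 := by simp [ha, h0, h1]; norm_num
  have hεa : ε a = 2 := by simp [ha, hε, bv_apply]
  obtain ⟨f0, f1⟩ := fullTv_of_rank_two hvH hA hAy h0 hφa hεa hε0
    (by rw [ha, smul_add, smul_comm v, jorG_bv, jorG_bv]; simp [h0, h1, h2]; norm_num)
    (by rw [jorG_bv, ha]; module) (by rw [hva]; simp [hε, altv]; norm_num) (by rwa [hva])
    (by rwa [hva])
  have hc := mem_centers_of_climb hvH f0 f1 (by rwa [hva]) (cocyclic_jor hl)
  refine specialLinear_le_of_centers (eq_top_of_jor ?_ fun x hx ↦ smul_mem_centers hvH hx)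
  have c1 := smul_mem_centers (H.inv_mem hvH) hc
  have c2 := smul_mem_centers hA c1
  rw [hAy, hva] at c2
  rw [hva] at c1
  have c3 := (Submodule.add_mem_iff_right _ c1).1
    ((Submodule.sub_mem_iff_left _ (Submodule.smul_mem _ _ hc)).1 c2)
  exact (Submodule.smul_mem_iff _ hne).1 c3

theorem closure_eq_top_of_le {n : ℕ} (S : Set (SpecialLinearGroup (Fin n) F))
    (h : ∀ H : Subgroup (GL (Fin n) F), (∀ s ∈ S, SpecialLinearGroup.toGL s ∈ H) →
      Cfsg.Geo.specialLinear (Fin n) F ≤ H) : Subgroup.closure S = ⊤ := by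
  have := h ((Subgroup.closure S).map SpecialLinearGroup.toGL)
    fun s hs ↦ Subgroup.mem_map_of_mem _ (Subgroup.subset_closure hs)
  rw [← range_toGL_eq] at this
  refine eq_top_iff.2 fun x _ ↦ ?_
  obtain ⟨y, hy, e⟩ := this ⟨x, rfl⟩
  rwa [← SpecialLinearGroup.toGL_injective e]

theorem exists_sl_of_det {n : ℕ} {g : GL (Fin n) F} (h : g.val.det = 1) :
    ∃ g' : SpecialLinearGroup (Fin n) F, SpecialLinearGroup.toGL g' = g :=
  ⟨⟨g.val, h⟩, Units.ext rfl⟩

end Jordan

end CL.SLn
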