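/-
Cyclic subspaces of an endomorphism: order polynomial, cyclic direct summands, similarity of cyclic
endomorphisms.
-/
import Cfsg.Agent.Cls.SLnTv
import Cfsg.Agent.Known.GLSim1

set_option autoImplicit false

namespace CL.SLn

open Module Polynomial

variable {F : Type*} [Field F] {V : Type*} [AddCommGroup V] [Module F V]

/-- `p ↦ p(g) v`. -/
noncomputable def ev (g : End F V) (v : V) : F[X] →ₗ[F] V :=
  LinearMap.applyₗ v ∘ₗ (aeval g : F[X] →ₐ[F] End F V).toLinearMap

theorem ev_apply (g : End F V) (v : V) (p : F[X]) : ev g v p = aeval g p v := rfl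

/-- The cyclic subspace generated by `v`. -/
noncomputable def cyc (g : End F V) (v : V) : Submodule F V := LinearMap.range (ev g v)

theorem mem_cyc {g : End F V} {v x : V} : x ∈ cyc g v ↔ ∃ p : F[X], aeval g p v = x := Iff.rfl

theorem aeval_mem_cyc (g : End F V) (v : V) (p : F[X]) : aeval g p v ∈ cyc g v := ⟨p, rfl⟩

theorem self_mem_cyc (g : End F V) (v : V) : v ∈ cyc g v := ⟨1, by simp [ev_apply]⟩

theorem apply_mem_cyc {g : End F V} {v x : V} (h : x ∈ cyc g v) : g x ∈ cyc g v := by
  obtain ⟨p, rfl⟩ := h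
  exact ⟨X * p, by simp [ev_apply]⟩

theorem aeval_mem {g : End F V} {W : Submodule F V} (hW : ∀ x ∈ W, g x ∈ W) (p : F[X]) {x : V}
    (hx : x ∈ W) : aeval g p x ∈ W := by
  induction p using Polynomial.induction_on with
  | C a => simpa [Algebra.algebraMap_eq_smul_one] using W.smul_mem a hx
  | add p q hp hq => simpa using W.add_mem hp hq
  | monomial k a h =>
    rw [pow_succ', ← mul_assoc, mul_comm (C a), mul_assoc, map_mul, aeval_X]
    exact hW _ h

theorem cyc_le {g : End F V} {v : V} {W : Submodule F V} (hv : v ∈ W) (hW : ∀ x ∈ W, g x ∈ W) :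
    cyc g v ≤ W := by
  rintro _ ⟨p, rfl⟩
  exact aeval_mem hW p hv

theorem aeval_eigen {g : End F V} {v : V} {β : F} (h : g v = β • v) (p : F[X]) :
    aeval g p v = p.eval β • v := by
  induction p using Polynomial.induction_on with
  | C a => simp [Algebra.algebraMap_eq_smul_one]
  | add p q hp hq => simp [hp, hq, add_smul]
  | monomial k a hk =>
    rw [pow_succ, ← mul_assoc, map_mul, aeval_X, End.mul_apply, h, map_smul, hk, smul_smul]
    congr 1
    simp only [eval_mul, eval_X]; ring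

theorem aeval_comm_apply (g : End F V) (p : F[X]) (x : V) : aeval g p (g x) = g (aeval g p x) :=
  (CL.GLn.aeval_intertwine g (fun _ ↦ rfl) p x).symm

theorem comap_cyc {V' : Type*} [AddCommGroup V'] [Module F V'] {g : End F V} {g' : End F V'}
    (e : V' →ₗ[F] V) (hinj : Function.Injective e) (he : ∀ v, e (g' v) = g (e v)) (v : V') :
    (cyc g (e v)).comap e = cyc g' v := by
  ext x
  simp only [Submodule.mem_comap, mem_cyc, ← CL.GLn.aeval_intertwine e he, hinj.eq_iff]

variable [FiniteDimensional F V]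

theorem exists_order (g : End F V) (v : V) : ∃ f : F[X], f.Monic ∧
    f.natDegree = finrank F (cyc g v) ∧ ∀ p, aeval g p v = 0 ↔ f ∣ p := by
  let I : Ideal F[X] :=
    { carrier := {p | aeval g p v = 0}
      add_mem' := fun {a b} ha hb ↦ by
        simp only [Set.mem_ofPred_eq, map_add, LinearMap.add_apply] at *; rw [ha, hb, add_zero]
      zero_mem' := by simp
      smul_mem' := fun c p hp ↦ by
        simp only [Set.mem_ofPred_eq, smul_eq_mul, map_mul, End.mul_apply] at *; rw [hp, map_zero] }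
  have hI : g.charpoly ∈ I := by
    change aeval g g.charpoly v = 0
    rw [LinearMap.aeval_self_charpoly]; rfl
  obtain ⟨f₀, hf₀⟩ := (IsPrincipalIdealRing.principal I).principal
  have h0 : f₀ ≠ 0 := by
    rintro rfl
    rw [hf₀, Submodule.span_zero_singleton, Submodule.mem_bot] at hI
    exact g.charpoly_monic.ne_zero hI
  have hf : I = Ideal.span {f₀ * C f₀.leadingCoeff⁻¹} := by
    rw [hf₀, Ideal.submodule_span_eq, Ideal.span_singleton_mul_right_unit]
    exact isUnit_C.2 (inv_ne_zero (leadingCoeff_ne_zero.2 h0)).isUnit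
  refine ⟨f₀ * C f₀.leadingCoeff⁻¹, monic_mul_leadingCoeff_inv h0, ?_, fun p ↦ ?_⟩
  · rw [← finrank_quotient_span_eq_natDegree, ← hf]
    have e : LinearMap.ker (ev g v) = I.restrictScalars F := by ext p; rfl
    exact ((Submodule.Quotient.restrictScalarsEquiv F I).symm.trans
      ((Submodule.quotEquivOfEq _ _ e.symm).trans (ev g v).quotKerEquivRange)).finrank_eq
  · rw [← Ideal.mem_span_singleton, ← hf]; rfl

theorem eq_zero_of_aeval {g : End F V} {v : V} {p : F[X]} (h : aeval g p v = 0)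
    (hd : p.natDegree < finrank F (cyc g v)) : p = 0 := by
  obtain ⟨f, -, h1, h2⟩ := exists_order g v
  exact eq_zero_of_dvd_of_natDegree_lt ((h2 p).1 h) (by rwa [h1])

theorem cyc_indep_two {g : End F V} {v : V} (hd : 2 ≤ finrank F (cyc g v)) {a b : F}
    (h : a • v + b • g v = 0) : a = 0 ∧ b = 0 := by
  have := eq_zero_of_aeval (g := g) (v := v) (p := C b * X + C a)
    (by simpa [Algebra.algebraMap_eq_smul_one, add_comm] using h)
    (lt_of_le_of_lt natDegree_linear_le hd)
  exact ⟨by simpa using congrArg (coeff · 0) this, by simpa using congrArg (coeff · 1) this⟩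

theorem cyc_indep_three {g : End F V} {v : V} (hd : 3 ≤ finrank F (cyc g v)) {a b c : F}
    (h : a • v + b • g v + c • g (g v) = 0) : a = 0 ∧ b = 0 ∧ c = 0 := by
  have := eq_zero_of_aeval (g := g) (v := v) (p := C c * X ^ 2 + C b * X + C a)
    (by rw [← h]; simp [Algebra.algebraMap_eq_smul_one, pow_two]; abel)
    (lt_of_le_of_lt natDegree_quadratic_le hd)
  exact ⟨by simpa using congrArg (coeff · 0) this, by simpa using congrArg (coeff · 1) this,
    by simpa using congrArg (coeff · 2) this⟩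

theorem exists_preimage_of_invariant {g : End F V} (hg : Function.Injective g) {W : Submodule F V}
    (hW : ∀ x ∈ W, g x ∈ W) {y : V} (hy : y ∈ W) : ∃ x ∈ W, g x = y := by
  have : Function.Injective (g.restrict hW) := fun a b e ↦
    Subtype.ext (hg (congrArg Subtype.val e))
  obtain ⟨x, hx⟩ := LinearMap.injective_iff_surjective.1 this ⟨y, hy⟩
  exact ⟨x, x.2, congrArg Subtype.val hx⟩

theorem cyc_apply {g : End F V} (hg : Function.Injective g) (v : V) : cyc g (g v) = cyc g v := by
  refine le_antisymm (cyc_le (apply_mem_cyc (self_mem_cyc g v)) fun _ ↦ apply_mem_cyc)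
    (cyc_le ?_ fun _ ↦ apply_mem_cyc)
  obtain ⟨x, hx, e⟩ := exists_preimage_of_invariant hg (fun _ ↦ apply_mem_cyc)
    (self_mem_cyc g (g v))
  exact hg e ▸ hx

/-- A vector whose order is the minimal polynomial. -/
theorem exists_max_vector {g : End F V} {R : Submodule F V} (hR : ∀ x ∈ R, g x ∈ R) :
    ∃ w ∈ R, ∀ p : F[X], aeval g p w = 0 → ∀ x ∈ R, aeval g p x = 0 := by
  obtain ⟨w, hw⟩ := Module.exists_ker_toSpanSingleton_eq_annihilator
    (R := F[X]) (M := Module.AEval' (g.restrict hR))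
  obtain ⟨w, rfl⟩ := (Module.AEval'.of (g.restrict hR)).surjective w
  have key : ∀ (p : F[X]) (x : R), p • Module.AEval'.of (g.restrict hR) x = 0 ↔
      aeval g p (x : V) = 0 := by
    intro p x
    rw [← Module.AEval.of_aeval_smul, LinearEquiv.map_eq_zero_iff, End.smul_def,
      ← R.subtype_injective.eq_iff, map_zero, CL.GLn.aeval_intertwine R.subtype (fun _ ↦ rfl)]
    rfl
  refine ⟨w, w.2, fun p hp x hx ↦ (key p ⟨x, hx⟩).1 ?_⟩
  refine Module.mem_annihilator.1 ?_ _
  rw [← hw, LinearMap.mem_ker, LinearMap.toSpanSingleton_apply]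
  exact (key p w).2 hp

/-- A cyclic direct summand of maximal order, with a functional adapted to it. -/
theorem exists_summand {g : End F V} (hg : Function.Injective g) {C R : Submodule F V}
    (hCR : Disjoint C R) (hR : ∀ x ∈ R, g x ∈ R) (h0 : R ≠ ⊥) :
    ∃ (w : V) (f : F[X]) (ψ : Dual F V) (R' : Submodule F V), w ∈ R ∧ f.Monic ∧ 1 ≤ f.natDegree ∧
      f.natDegree = finrank F (cyc g w) ∧ (∀ x ∈ R, aeval g f x = 0) ∧ (∀ x ∈ C, ψ x = 0) ∧
      (∀ i, 1 ≤ i → i < f.natDegree → ψ ((g ^ i) w) = 0) ∧ ψ ((g ^ f.natDegree) w) = 1 ∧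
      (∀ x ∈ R', g x ∈ R') ∧ (∀ x ∈ R', ψ x = 0) ∧ Disjoint (cyc g w) R' ∧ cyc g w ⊔ R' = R := by
  obtain ⟨u, hu, hmax⟩ := exists_max_vector hR
  obtain ⟨f, hf, hdeg, hord⟩ := exists_order g u
  have hfR : ∀ x ∈ R, aeval g f x = 0 := hmax f ((hord f).2 dvd_rfl)
  have hk : 1 ≤ f.natDegree := by
    by_contra h
    have : f = 1 := hf.natDegree_eq_zero.1 (by omega)
    exact h0 (eq_bot_iff.2 fun x hx ↦ by simpa [this] using hfR x hx)
  obtain ⟨k, hk'⟩ : ∃ k, f.natDegree = k + 1 := ⟨f.natDegree - 1, by omega⟩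
  obtain ⟨ψ, h1, h2⟩ := exists_dual_of_notMem (W := C ⊔ (degreeLT F k).map (ev g u))
    (v := (g ^ k) u) (by
      intro h
      obtain ⟨c, hc, _, ⟨p, hp, rfl⟩, e⟩ := Submodule.mem_sup.1 h
      have e1 : aeval g (X ^ k - p) u = c := by rw [map_sub, LinearMap.sub_apply, map_pow, aeval_X,
        ← e, ev_apply, add_sub_cancel_right]
      have e2 : c = 0 := (Submodule.disjoint_def.1 hCR) c hc (e1 ▸ aeval_mem hR _ hu)
      have hp' : p.degree < k := mem_degreeLT.1 hp
      have hm : (X ^ k - p).Monic := monic_X_pow_sub hp'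
      have := natDegree_le_of_dvd ((hord _).1 (e1.trans e2)) hm.ne_zero
      rw [natDegree_sub_eq_left_of_natDegree_lt, natDegree_X_pow] at this
      · omega
      · by_cases hp0 : p = 0
        · subst hp0
          rw [sub_zero, natDegree_X_pow] at this
          omega
        · rw [natDegree_X_pow]; exact (natDegree_lt_iff_degree_lt hp0).2 hp')
  have h3 : ∀ i < k, ψ ((g ^ i) u) = 0 := fun i hi ↦
    h2 _ (Submodule.mem_sup_right ⟨X ^ i, mem_degreeLT.2 (by
      rw [degree_X_pow]; exact_mod_cast hi), by simp [ev_apply]⟩)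
  have h4 : ∀ (q : F[X]) (x : V), q.natDegree < k + 1 →
      ψ (aeval g q x) = ∑ i ∈ Finset.range (k + 1), q.coeff i * ψ ((g ^ i) x) := by
    intro q x hq
    rw [aeval_eq_sum_range' hq]
    simp
  have h5 : ∀ q : F[X], q.natDegree < k + 1 → ψ (aeval g q u) = q.coeff k := by
    intro q hq
    rw [h4 q u hq, Finset.sum_range_succ, h1, mul_one, Finset.sum_eq_zero, zero_add]
    intro i hi
    rw [h3 i (Finset.mem_range.1 hi), mul_zero]
  have hmod : ∀ (p : F[X]), ∀ x ∈ R, aeval g p x = aeval g (p %ₘ f) x := by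
    intro p x hx
    conv_lhs => rw [← modByMonic_add_div p f, mul_comm]
    simp [hfR x hx]
  have hlt : ∀ p : F[X], (p %ₘ f).natDegree < k + 1 := fun p ↦
    hk' ▸ natDegree_modByMonic_lt p hf (by rintro rfl; simp at hk)
  let T : V →ₗ[F] (Fin (k + 1) → F) := LinearMap.pi fun i ↦ ψ ∘ₗ (g ^ (i : ℕ))
  have hT : ∀ x ∈ R, T x = 0 → ∀ i, ψ ((g ^ i) x) = 0 := by
    intro x hx h i
    have : (g ^ i) x = aeval g (X ^ i : F[X]) x := by simp
    rw [this, hmod _ x hx, h4 _ _ (hlt _)]
    refine Finset.sum_eq_zero fun j hj ↦ ?_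
    have : ψ ((g ^ j) x) = 0 := congrFun h ⟨j, Finset.mem_range.1 hj⟩
    rw [this, mul_zero]
  have hinj : ∀ x ∈ cyc g u, T x = 0 → x = 0 := by
    rintro _ ⟨p, rfl⟩ h
    rw [ev_apply, hmod p u hu] at h ⊢
    have hq := hlt p
    generalize p %ₘ f = q at h hq
    by_cases hq0 : q = 0
    · simp [hq0]
    have h6 : ψ ((g ^ (k - q.natDegree)) (aeval g q u)) = 0 :=
      congrFun h ⟨k - q.natDegree, by omega⟩
    have h7 : (g ^ (k - q.natDegree)) (aeval g q u) = aeval g (X ^ (k - q.natDegree) * q) u := by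
      simp
    rw [h7, h5 _ (by rw [natDegree_X_pow_mul _ hq0]; omega), coeff_X_pow_mul',
      if_pos (by omega), show k - (k - q.natDegree) = q.natDegree by omega] at h6
    exact absurd h6 (leadingCoeff_ne_zero.2 hq0)
  obtain ⟨w, hw, hwu⟩ := exists_preimage_of_invariant hg hR hu
  have hcw : cyc g w = cyc g u := by rw [← hwu, cyc_apply hg]
  refine ⟨w, f, ψ, R ⊓ LinearMap.ker T, hw, hf, hk, by rw [hcw, hdeg], hfR,
    fun x hx ↦ h2 x (Submodule.mem_sup_left hx), fun i hi hi' ↦ ?_, ?_, fun x hx ↦ ⟨hR x hx.1, ?_⟩,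
    fun x hx ↦ by simpa using hT x hx.1 hx.2 0, ?_, ?_⟩
  · obtain ⟨i, rfl⟩ := Nat.exists_eq_add_of_le' hi
    rw [pow_succ, End.mul_apply, hwu]; exact h3 i (by omega)
  · rw [hk', pow_succ, End.mul_apply, hwu, h1]
  · ext i
    simpa [T, pow_succ] using hT x hx.1 hx.2 (i + 1)
  · rw [hcw]
    exact Submodule.disjoint_def.2 fun x hx hx' ↦ hinj x hx hx'.2
  · rw [hcw]
    have hle : cyc g u ≤ R := cyc_le hu hR
    refine le_antisymm (sup_le hle inf_le_left) fun x hx ↦ ?_
    have hs : Function.Surjective (T ∘ₗ (cyc g u).subtype) := by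
      refine (LinearMap.injective_iff_surjective_of_finrank_eq_finrank (by
        rw [← hdeg, hk']; simp)).1 ((injective_iff_map_eq_zero _).2 fun y hy ↦ ?_)
      exact Subtype.ext (hinj y y.2 hy)
    obtain ⟨y, hy⟩ := hs (T x)
    refine Submodule.mem_sup.2 ⟨y, y.2, x - y, ⟨R.sub_mem hx (hle y.2), ?_⟩, by abel⟩
    have : T y = T x := hy
    simp [this]

theorem aeval_eq_zero_iff_of_cyc {k : End F V} {w : V} (hc : cyc k w = ⊤) {P : F[X]} (hP : P ≠ 0)
    (hk : aeval k P = 0) (hdim : P.natDegree = finrank F V) (p : F[X]) :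
    aeval k p w = 0 ↔ P ∣ p := by
  obtain ⟨f, hf, hf1, hf2⟩ := exists_order k w
  rw [hf2]
  have h3 : f ∣ P := (hf2 P).1 (by rw [hk]; rfl)
  have h4 : Associated f P := associated_of_dvd_of_natDegree_le h3 hP
    (by rw [hf1, hc, finrank_top, hdim])
  exact h4.dvd_iff_dvd_left

/-- Two cyclic endomorphisms killed by the same polynomial of degree the dimension are similar. -/
theorem exists_equiv_of_cyc {V' : Type*} [AddCommGroup V'] [Module F V'] [FiniteDimensional F V']
    {g : End F V} {g' : End F V'} {v : V} {v' : V'} (h : cyc g v = ⊤) (h' : cyc g' v' = ⊤)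
    {P : F[X]} (hP : P ≠ 0) (h1 : aeval g P = 0) (h2 : aeval g' P = 0)
    (hd : P.natDegree = finrank F V) (hd' : P.natDegree = finrank F V') :
    ∃ e : V ≃ₗ[F] V', ∀ x, e (g x) = g' (e x) := by
  have e : LinearMap.ker (ev g v) = LinearMap.ker (ev g' v') := by
    ext p
    exact (aeval_eq_zero_iff_of_cyc h hP h1 hd p).trans (aeval_eq_zero_iff_of_cyc h' hP h2 hd' p).symm
  have s1 : Function.Surjective (ev g v) := LinearMap.range_eq_top.1 h
  have s2 : Function.Surjective (ev g' v') := LinearMap.range_eq_top.1 h'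
  let e := ((ev g v).quotKerEquivOfSurjective s1).symm.trans
    ((Submodule.quotEquivOfEq _ _ e).trans ((ev g' v').quotKerEquivOfSurjective s2))
  have he : ∀ p, e (ev g v p) = ev g' v' p := fun p ↦ by
    simp [e, LinearMap.quotKerEquivOfSurjective_symm_apply]
  refine ⟨e, fun x ↦ ?_⟩
  obtain ⟨p, rfl⟩ := s1 x
  have a1 : g (ev g v p) = ev g v (X * p) := by simp [ev_apply]
  rw [a1, he, he]
  simp [ev_apply]

/-- The determinant of a map preserving a hyperplane. -/
theorem det_hyper {φ : Dual F V} {v : V} (hv : φ v = 1) (T : End F V)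
    (hT : ∀ x ∈ LinearMap.ker φ, T x ∈ LinearMap.ker φ) :
    LinearMap.det T = φ (T v) * LinearMap.det (T.restrict hT) := by
  rw [LinearMap.det_eq_det_mul_det (LinearMap.ker φ) T hT, mul_comm]
  congr 1
  have h1 : (LinearMap.ker φ).mapQ (LinearMap.ker φ) T hT = φ (T v) • LinearMap.id := by
    refine Submodule.linearMap_qext _ (LinearMap.ext fun x ↦ ?_)
    simp only [LinearMap.comp_apply, Submodule.mkQ_apply, Submodule.mapQ_apply,
      LinearMap.smul_apply, LinearMap.id_apply, ← Submodule.Quotient.mk_smul,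
      Submodule.Quotient.eq, LinearMap.mem_ker]
    have := hT (x - φ x • v) (by simp [hv])
    simp only [LinearMap.mem_ker, map_sub, map_smul, smul_eq_mul] at this ⊢
    linear_combination this
  have h2 : finrank F (V ⧸ LinearMap.ker φ) = 1 := by
    rw [(φ.quotKerEquivOfSurjective fun c ↦ ⟨c • v, by simp [hv]⟩).finrank_eq, finrank_self]
  rw [h1, LinearMap.det_smul, h2]
  simp

theorem finrank_ker_add_one {φ : Dual F V} {v : V} (hv : φ v = 1) :
    finrank F (LinearMap.ker φ) + 1 = finrank F V := by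
  have := φ.finrank_range_add_finrank_ker
  rw [LinearMap.range_eq_top.2 fun c ↦ ⟨c • v, by simp [hv]⟩, finrank_top, finrank_self] at this
  omega

/-- Cayley–Hamilton in dimension two. -/
theorem exists_ch_two {g : End F V} (h2 : finrank F V = 2) :
    ∃ τ : F, ∀ x, g (g x) = τ • g x - LinearMap.det g • x := by
  have h1 := g.charpoly_monic
  have hd : g.charpoly.natDegree = 2 := by rw [g.charpoly_natDegree, h2]
  have h0 : g.charpoly.coeff 0 = LinearMap.det g := by
    rw [LinearMap.det_eq_sign_charpoly_coeff, h2]; simp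
  refine ⟨-g.charpoly.coeff 1, fun x ↦ ?_⟩
  have h3 := LinearMap.congr_fun g.aeval_self_charpoly x
  have h4 : g.charpoly.coeff 2 = 1 := by rw [← hd]; exact h1
  rw [aeval_eq_sum_range, hd] at h3
  simp only [Finset.sum_range_succ, Finset.range_zero, Finset.sum_empty, h0, h4, pow_succ,
    pow_zero, one_mul, zero_add, one_smul, LinearMap.add_apply, LinearMap.smul_apply,
    End.mul_apply, End.one_apply, LinearMap.zero_apply] at h3
  linear_combination (norm := module) h3

end CL.SLn
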