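/-
Peeling off one dimension (Sourour, Lev): a factorisation of the Schur complement `red` of `g` lifts
to a factorisation `g = X D⁻¹` with `X`, `D` cyclic with the same characteristic polynomial.
-/
import Cfsg.Agent.Cls.ProdCyc

set_option autoImplicit false

namespace CL.SLn

open Module Polynomial

variable {F : Type*} [Field F] {V : Type*} [AddCommGroup V] [Module F V]

/-- The map `x ↦ g x - φ (g x) • g v`. -/
noncomputable def redA (g : End F V) (v : V) (φ : Dual F V) : End F V :=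
  g - (φ ∘ₗ g).smulRight (g v)

theorem redA_apply (g : End F V) (v : V) (φ : Dual F V) (x : V) :
    redA g v φ x = g x - φ (g x) • g v := rfl

theorem redA_mem {g : End F V} {v : V} {φ : Dual F V} (h : φ (g v) = 1) (x : V) :
    redA g v φ x ∈ LinearMap.ker φ := by simp [redA_apply, h]

/-- The Schur complement of `g` on the hyperplane `ker φ`. -/
noncomputable def red {g : End F V} {v : V} {φ : Dual F V} (h : φ (g v) = 1) :
    End F (LinearMap.ker φ) := (redA g v φ).restrict fun x _ ↦ redA_mem h x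

theorem coe_red {g : End F V} {v : V} {φ : Dual F V} (h : φ (g v) = 1) (x : LinearMap.ker φ) :
    (red h x : V) = g x - φ (g x) • g v := rfl

theorem coe_aeval_red {g : End F V} {v : V} {φ : Dual F V} (h : φ (g v) = 1) (p : F[X])
    (x : LinearMap.ker φ) : (aeval (red h) p x : V) = aeval (redA g v φ) p x :=
  CL.GLn.aeval_intertwine (LinearMap.ker φ).subtype (fun _ ↦ rfl) p x

/-- The projection onto `ker φ` along `v`. -/
noncomputable def kprj {v : V} {φ : Dual F V} (h : φ v = 1) : V →ₗ[F] LinearMap.ker φ :=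
  (LinearMap.id - φ.smulRight v).codRestrict _ fun x ↦ by simp [h]

theorem coe_kprj {v : V} {φ : Dual F V} (h : φ v = 1) (x : V) : (kprj h x : V) = x - φ x • v := rfl

theorem kprj_coe {v : V} {φ : Dual F V} (h : φ v = 1) (x : LinearMap.ker φ) : kprj h (x : V) = x :=
  Subtype.ext (by rw [coe_kprj, LinearMap.mem_ker.1 x.2, zero_smul, sub_zero])

theorem kprj_self {v : V} {φ : Dual F V} (h : φ v = 1) : kprj h v = 0 :=
  Subtype.ext (by simp [coe_kprj, h])

theorem det_red [FiniteDimensional F V] {g : End F V} {v : V} {φ : Dual F V} (h0 : φ v = 1)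
    (h : φ (g v) = 1) : LinearMap.det (red h) = LinearMap.det g := by
  let G : End F V := redA g v φ + φ.smulRight v
  have hG : ∀ x ∈ LinearMap.ker φ, G x ∈ LinearMap.ker φ := fun x hx ↦ by
    simp [G, redA_apply, h, LinearMap.mem_ker.1 hx]
  have e1 : G.restrict hG = red h := LinearMap.ext fun x ↦ Subtype.ext (by
    simp [G, coe_red, redA_apply])
  have e2 : G = LinearMap.transvection φ (v - g v) ∘ₗ g ∘ₗ
      LinearMap.transvection (φ - φ ∘ₗ g) v := LinearMap.ext fun x ↦ by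
    simp only [G, LinearMap.add_apply, redA_apply, LinearMap.smulRight_apply, LinearMap.comp_apply,
      LinearMap.transvection.apply, LinearMap.sub_apply, map_add, map_smul, h]
    module
  have := det_hyper h0 G hG
  rw [e1, e2, LinearMap.det_comp, LinearMap.det_comp] at this
  simpa [h0, h, LinearMap.transvection.apply] using this.symm

/-- `g = X D⁻¹` with `X = g D` and `D` cyclic, killed by `P`, in general position with respect to
`c` and `r` at the eigenvalue `β`. -/
def Res (β : F) (P : F[X]) (Δ : F[X] → F) (g : End F V) (c : V) (r : Dual F V) : Prop :=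
  ∃ D : End F V, (∃ u, cyc D u = ⊤) ∧ (∃ u, cyc (g * D) u = ⊤) ∧ aeval D P = 0 ∧
    aeval (g * D) P = 0 ∧ ((∀ y, ∃ x, g (D x) - β • x = y) ∨ ∀ x, g (D x) - β • x ≠ c) ∧
    ((∀ x, D x = β • x → x = 0) ∨ ∃ k, D k = β • k ∧ r k ≠ 0) ∧
    ∀ u, LinearMap.det (aeval (g * D) u) = Δ u

theorem inj_of_eval_ne_zero {T : End F V} {P : F[X]} (h : aeval T P = 0) {β : F}
    (hβ : P.eval β ≠ 0) (x : V) (hx : T x = β • x) : x = 0 := by
  have := aeval_eigen hx P
  rw [h, LinearMap.zero_apply, eq_comm, smul_eq_zero] at this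
  exact this.resolve_left hβ

theorem surj_of_inj [FiniteDimensional F V] {T : End F V} {β : F}
    (h : ∀ x, T x = β • x → x = 0) (y : V) : ∃ x, T x - β • x = y :=
  LinearMap.injective_iff_surjective.1 ((injective_iff_map_eq_zero (T - β • 1)).2 fun x hx ↦
    h x (sub_eq_zero.1 hx)) y

theorem Res.change [FiniteDimensional F V] {β β' : F} {P : F[X]} {Δ : F[X] → F} {g : End F V}
    {c c' : V} {r r' : Dual F V} (h : Res β P Δ g c r) (hβ : P.eval β' ≠ 0) :
    Res β' P Δ g c' r' := by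
  obtain ⟨D, h1, h2, h3, h4, -, -, h7⟩ := h
  exact ⟨D, h1, h2, h3, h4, Or.inl (surj_of_inj (T := g * D) (inj_of_eval_ne_zero h4 hβ)),
    Or.inl (inj_of_eval_ne_zero h3 hβ), h7⟩

theorem exists_smul_add_of_cyc {T : End F V} {w : V} (h : cyc T w = ⊤) (β : F) (y : V) :
    ∃ (s : F) (x : V), y = s • w + (T x - β • x) := by
  obtain ⟨p, rfl⟩ : y ∈ cyc T w := h ▸ Submodule.mem_top
  obtain ⟨q, hq⟩ := X_sub_C_dvd_sub_C_eval (p := p) (a := β)
  refine ⟨p.eval β, aeval T q w, ?_⟩
  rw [ev_apply, eq_add_of_sub_eq hq]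
  simp [Algebra.algebraMap_eq_smul_one, add_comm]

theorem Res.lift [FiniteDimensional F V] {β : F} (hβ : β ≠ 0) {P : F[X]} {Δ : F[X] → F}
    {g : End F V} {v c : V} {φ r : Dual F V} (h0 : φ v = 1) (h1 : φ (g v) = 1) (hc : φ c ≠ 0)
    (hr : r v ≠ 0)
    (h : Res β P Δ (red h1) (kprj h0 (g v)) (φ ∘ₗ g ∘ₗ (LinearMap.ker φ).subtype)) :
    Res β ((X - C β) * P) (fun u ↦ u.eval β * Δ u) g c r := by
  obtain ⟨D', ⟨w₁, hw₁⟩, ⟨w₂, hw₂⟩, h3, h4, h5, h6, h7⟩ := h
  let D : End F V := (β • φ - φ ∘ₗ g ∘ₗ (LinearMap.ker φ).subtype ∘ₗ D' ∘ₗ kprj h0).smulRight v +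
    (LinearMap.ker φ).subtype ∘ₗ D' ∘ₗ kprj h0
  have hD : ∀ x, D x = (β * φ x - φ (g (D' (kprj h0 x)))) • v + D' (kprj h0 x) := fun x ↦ rfl
  have hDv : D v = β • v := by simp [hD, h0, kprj_self]
  have hπD : ∀ x, kprj h0 (D x) = D' (kprj h0 x) := fun x ↦ by
    rw [hD, map_add, map_smul, kprj_self, smul_zero, zero_add, kprj_coe]
  have hX : ∀ x, g (D x) = (β * φ x) • g v + (red h1 * D') (kprj h0 x) := fun x ↦ by
    rw [hD, End.mul_apply, coe_red, map_add, map_smul]; module
  have hXH : ∀ y : LinearMap.ker φ, (((red h1 * D') y : LinearMap.ker φ) : V) = (g * D) y :=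
    fun y ↦ by rw [End.mul_apply (g) D, hX, kprj_coe, LinearMap.mem_ker.1 y.2]; simp
  have hφX : ∀ x, φ (g (D x)) = β * φ x := fun x ↦ by
    rw [hX, map_add, map_smul, h1, LinearMap.mem_ker.1 (Subtype.prop _)]; simp
  have hinv : ∀ p : F[X], ∀ x ∈ LinearMap.ker φ, aeval (g * D) p x ∈ LinearMap.ker φ :=
    fun p x hx ↦ aeval_mem (fun y hy ↦ by
      rw [LinearMap.mem_ker] at hy ⊢; rw [End.mul_apply, hφX, hy, mul_zero]) p hx
  have hae : ∀ (p : F[X]) (y : LinearMap.ker φ),
      ((aeval (red h1 * D') p y : LinearMap.ker φ) : V) = aeval (g * D) p y :=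
    CL.GLn.aeval_intertwine (LinearMap.ker φ).subtype hXH
  have hπ : ∀ (p : F[X]) (x : V), kprj h0 (aeval D p x) = aeval D' p (kprj h0 x) :=
    CL.GLn.aeval_intertwine (kprj h0) hπD
  have top : ∀ U : Submodule F V, v ∈ U → (∀ y, ∃ x ∈ U, kprj h0 x = y) → U = ⊤ := by
    intro U hv hU
    refine eq_top_iff.2 fun x _ ↦ ?_
    obtain ⟨y, hy, e⟩ := hU (kprj h0 x)
    have e' : y - φ y • v = x - φ x • v := congrArg Subtype.val e
    rw [show x = y + (φ x - φ y) • v by linear_combination (norm := module) -e']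
    exact U.add_mem hy (U.smul_mem _ hv)
  have onto : ∀ x : V, cyc D' (kprj h0 x) = ⊤ → ∀ y, ∃ z ∈ cyc D x, kprj h0 z = y := by
    intro x hx y
    obtain ⟨p, rfl⟩ : y ∈ cyc D' (kprj h0 x) := hx ▸ Submodule.mem_top
    exact ⟨_, aeval_mem_cyc D x p, hπ p x⟩
  refine ⟨D, ?_, ?_, ?_, ?_, Or.inr fun x e ↦ hc ?_, Or.inr ⟨v, hDv, hr⟩, fun u ↦ ?_⟩
  · have o1 := onto w₁ (by rwa [kprj_coe])
    by_cases hv : v ∈ cyc D w₁
    · exact ⟨_, top _ hv o1⟩
    rcases h6 with h6 | ⟨k, hk, hk'⟩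
    · refine ⟨w₁ + v, top _ ?_ (onto _ (by rwa [map_add, kprj_self, add_zero, kprj_coe]))⟩
      have e1 : cyc D' (kprj h0 (D w₁ - β • (w₁ : V))) = ⊤ := by
        refine eq_top_iff.2 fun y _ ↦ ?_
        obtain ⟨y', rfl⟩ := surj_of_inj h6 y
        obtain ⟨p, rfl⟩ : y' ∈ cyc D' w₁ := hw₁ ▸ Submodule.mem_top
        exact ⟨p, by simp [ev_apply, hπD, kprj_coe, aeval_comm_apply]⟩
      obtain ⟨z, hz, e⟩ := onto _ e1 w₁
      have e' : z - φ z • v = w₁ := congrArg Subtype.val e
      have m1 : z ∈ cyc D w₁ := cyc_le (Submodule.sub_mem _ (apply_mem_cyc (self_mem_cyc _ _))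
        (Submodule.smul_mem _ _ (self_mem_cyc _ _))) (fun _ ↦ apply_mem_cyc) hz
      have m2 : z ∈ cyc D (w₁ + v) := cyc_le (by
        have := Submodule.sub_mem _ (apply_mem_cyc (self_mem_cyc D (w₁ + v)))
          (Submodule.smul_mem _ β (self_mem_cyc D (w₁ + v)))
        rwa [map_add, hDv, smul_add, add_sub_add_right_eq_sub] at this) (fun _ ↦ apply_mem_cyc) hz
      have e2 : φ z = 0 := by
        by_contra hne
        refine hv ((Submodule.smul_mem_iff _ hne).1 ?_)
        rw [show φ z • v = z - w₁ by rw [← e']; abel]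
        exact Submodule.sub_mem _ m1 (self_mem_cyc _ _)
      rw [e2, zero_smul, sub_zero] at e'
      simpa [e'] using Submodule.sub_mem _ (self_mem_cyc D (w₁ + v)) m2
    · obtain ⟨z, hz, e⟩ := o1 k
      have e' : z - φ z • v = k := congrArg Subtype.val e
      have m1 := Submodule.sub_mem _ (apply_mem_cyc hz) (Submodule.smul_mem _ β hz)
      have e2 : D z - β • z = (-β * φ (g k)) • v := by
        rw [hD, e, hk, Submodule.coe_smul, map_smul, map_smul, smul_eq_mul, ← e']
        module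
      rw [e2] at m1
      exact absurd ((Submodule.smul_mem_iff _ (mul_ne_zero (neg_ne_zero.2 hβ) hk')).1 m1) hv
  · obtain ⟨s, y, hs, e⟩ : ∃ (s : F) (y : LinearMap.ker φ), s ≠ 0 ∧
        kprj h0 (g v) = s • w₂ + (red h1 (D' y) - β • y) := by
      rcases h5 with h5 | h5
      · obtain ⟨y, hy⟩ := h5 (kprj h0 (g v) - w₂)
        exact ⟨1, y, one_ne_zero, by rw [hy]; simp⟩
      · obtain ⟨s, y, e⟩ := exists_smul_add_of_cyc hw₂ β (kprj h0 (g v))
        exact ⟨s, y, fun hs ↦ h5 y (by rw [e, hs, zero_smul, zero_add]; rfl), e⟩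
    have e' : g v - v = s • (w₂ : V) + (g (D y) - β • (y : V)) := by
      have := congrArg Subtype.val e
      rw [coe_kprj, h1, one_smul] at this
      rw [this]
      exact congrArg (fun z ↦ s • (w₂ : V) + (z - β • (y : V))) (hXH y)
    have m1 : (w₂ : V) ∈ cyc (g * D) (v - β • y) := by
      have := Submodule.sub_mem _ (apply_mem_cyc (self_mem_cyc (g * D) (v - β • y)))
        (Submodule.smul_mem _ β (self_mem_cyc (g * D) (v - β • y)))
      rw [show (g * D) (v - β • y) - β • (v - β • (y : V)) = (β * s) • (w₂ : V) by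
        rw [End.mul_apply, map_sub, hDv, map_sub, map_smul, map_smul, map_smul]
        linear_combination (norm := module) β • e'] at this
      exact (Submodule.smul_mem_iff _ (mul_ne_zero hβ hs)).1 this
    have m2 : ∀ z : LinearMap.ker φ, (z : V) ∈ cyc (g * D) (v - β • y) := fun z ↦ by
      obtain ⟨p, rfl⟩ : z ∈ cyc (red h1 * D') w₂ := hw₂ ▸ Submodule.mem_top
      rw [ev_apply, hae]
      exact aeval_mem (fun _ ↦ apply_mem_cyc) p m1
    refine ⟨v - β • y, top _ ?_ fun z ↦ ⟨z, m2 z, kprj_coe _ _⟩⟩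
    simpa using Submodule.add_mem _ (self_mem_cyc (g * D) (v - β • y))
      (Submodule.smul_mem _ β (m2 y))
  · refine LinearMap.ext fun x ↦ ?_
    have e : (kprj h0 (aeval D P x) : V) = 0 := by rw [hπ, h3]; rfl
    rw [coe_kprj, sub_eq_zero] at e
    rw [map_mul, End.mul_apply, e]
    simp [hDv, Algebra.algebraMap_eq_smul_one]
  · refine LinearMap.ext fun x ↦ ?_
    have := hae P ⟨g (D x) - β • x, by simp [hφX]⟩
    rw [h4] at this
    rw [mul_comm, map_mul, End.mul_apply]
    simpa [Algebra.algebraMap_eq_smul_one] using this.symm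
  · rw [← e, map_sub, hφX, map_smul, smul_eq_mul, sub_self]
  · beta_reduce
    rw [det_hyper h0 _ (hinv u), ← h7]
    congr 1
    · have := CL.GLn.aeval_intertwine (f := g * D) (g := (β • 1 : End F F)) φ
        (fun x ↦ by simp [hφX]) u v
      rw [this, h0, aeval_eigen (β := β) (by simp)]
      simp
    · congr 1
      exact LinearMap.ext fun y ↦ Subtype.ext (hae u y).symm

/-- The one-dimensional base case. -/
theorem res_one [FiniteDimensional F V] (hV : finrank F V = 1) {g : End F V}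
    (hg : LinearMap.det g = 1) (β : F) {c : V} (hc : c ≠ 0) {r : Dual F V} (hr : r ≠ 0) :
    Res β (X - C β) (fun u ↦ u.eval β) g c r := by
  have hall : ∀ x, ∃ a : F, a • c = x := (finrank_eq_one_iff_of_nonzero' c hc).1 hV
  have h1 : g = 1 := by
    obtain ⟨a, ha⟩ := hall (g c)
    have : g = a • 1 := LinearMap.ext fun x ↦ by
      obtain ⟨b, rfl⟩ := hall x
      simp [← ha]
    rw [this, LinearMap.det_smul, hV, pow_one, map_one, mul_one] at hg
    rw [this, hg, one_smul]
  subst h1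
  have hc' : cyc (β • 1 : End F V) c = ⊤ := eq_top_iff.2 fun x _ ↦ by
    obtain ⟨b, rfl⟩ := hall x
    exact Submodule.smul_mem _ _ (self_mem_cyc _ _)
  refine ⟨β • 1, ⟨c, hc'⟩, ⟨c, by rwa [one_mul]⟩, by simp [Algebra.algebraMap_eq_smul_one],
    by simp [Algebra.algebraMap_eq_smul_one], Or.inr fun x ↦ by simpa using hc.symm,
    Or.inr ⟨c, by simp, fun h ↦ hr (LinearMap.ext fun x ↦ ?_)⟩, fun u ↦ ?_⟩
  · obtain ⟨b, rfl⟩ := hall x
    simp [h]
  · have : aeval (1 * β • 1 : End F V) u = u.eval β • 1 :=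
      LinearMap.ext fun x ↦ aeval_eigen (by simp) u
    rw [this, LinearMap.det_smul, hV]
    simp

end CL.SLn
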