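/-
The structure of the Schur complement `red` for a cyclic decomposition, and Lev's induction over
fields with at least four elements.
-/
import Cfsg.Agent.Cls.ProdLift

set_option autoImplicit false

namespace CL.SLn

open Module Polynomial

variable {F : Type*} [Field F]

section Step

variable {V : Type*} [AddCommGroup V] [Module F V]

theorem le_sup_of_red {g : End F V} {v : V} {φ : Dual F V} {U : Submodule F V}
    (hU : ∀ x ∈ U, redA g v φ x ∈ U) (hc : g v - v ∈ U) :
    ∀ x ∈ U ⊔ Submodule.span F {v}, g x ∈ U ⊔ Submodule.span F {v} := by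
  have hv : g v ∈ U ⊔ Submodule.span F {v} :=
    Submodule.mem_sup.2 ⟨_, hc, v, Submodule.mem_span_singleton_self v, by abel⟩
  intro x hx
  obtain ⟨y, hy, z, hz, rfl⟩ := Submodule.mem_sup.1 hx
  obtain ⟨a, rfl⟩ := Submodule.mem_span_singleton.1 hz
  rw [map_add, map_smul, show g y = redA g v φ y + φ (g y) • g v by simp [redA_apply]]
  exact Submodule.add_mem _ (Submodule.add_mem _ (Submodule.mem_sup_left (hU y hy))
    (Submodule.smul_mem _ _ hv)) (Submodule.smul_mem _ _ hv)

theorem mem_of_mem_sup_span {v : V} {φ : Dual F V} (h0 : φ v = 1) {U : Submodule F V}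
    (hU : U ≤ LinearMap.ker φ) {x : V} (hx : x ∈ U ⊔ Submodule.span F {v}) (h : φ x = 0) :
    x ∈ U := by
  obtain ⟨y, hy, z, hz, rfl⟩ := Submodule.mem_sup.1 hx
  obtain ⟨a, rfl⟩ := Submodule.mem_span_singleton.1 hz
  have : a = 0 := by simpa [h0, LinearMap.mem_ker.1 (hU hy)] using h
  simpa [this] using hy

theorem cyc_red_top {g : End F V} {v : V} {φ : Dual F V} (h0 : φ v = 1) (h1 : φ (g v) = 1)
    (hv : cyc g v = ⊤) : cyc (red h1) (kprj h0 (g v)) = ⊤ := by
  rw [← comap_cyc (g := redA g v φ) (LinearMap.ker φ).subtype (Submodule.subtype_injective _)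
    (fun _ ↦ rfl)]
  refine eq_top_iff.2 fun x _ ↦ mem_of_mem_sup_span h0
    (cyc_le (Subtype.prop _) fun x _ ↦ redA_mem h1 x) ?_ x.2
  have : cyc g v ≤ cyc (redA g v φ) (kprj h0 (g v)) ⊔ Submodule.span F {v} :=
    cyc_le (Submodule.mem_sup_right (Submodule.mem_span_singleton_self v))
      (le_sup_of_red (fun _ ↦ apply_mem_cyc) (by simpa [coe_kprj, h1] using self_mem_cyc _ _))
  exact this (hv ▸ Submodule.mem_top)

theorem glue_step [FiniteDimensional F V] {g : End F V} {v w : V} {φ : Dual F V} (h0 : φ v = 1)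
    (h1 : φ (g v) = 1) {R R' : Submodule F V} (hC : IsCompl (cyc g v) R) {f : F[X]} (hf : f.Monic)
    (hk : 1 ≤ f.natDegree) (hd : f.natDegree = finrank F (cyc g w)) (hw : aeval g f w = 0)
    (h2 : ∀ i, 1 ≤ i → i < f.natDegree → φ ((g ^ i) w) = 0) (h3 : φ ((g ^ f.natDegree) w) = 1)
    (hR' : ∀ x ∈ R', g x ∈ R') (h4 : ∀ x ∈ R', φ x = 0) (h5 : Disjoint (cyc g w) R')
    (h6 : cyc g w ⊔ R' = R) :
    IsCompl (cyc (red h1) (kprj h0 w)) (R'.comap (LinearMap.ker φ).subtype) ∧
      (∀ x ∈ R'.comap (LinearMap.ker φ).subtype, (red h1 x : V) = g x) ∧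
      finrank F (cyc (red h1) (kprj h0 w)) + 1 = finrank F (cyc g v) + f.natDegree ∧
      kprj h0 (g v) = -aeval (red h1) f (kprj h0 w) ∧ f.coeff 0 * φ w = -1 ∧
      (red h1 (kprj h0 w) : V) = g w - φ (g w) • g v := by
  obtain ⟨k, hk'⟩ : ∃ k, f.natDegree = k + 1 := ⟨f.natDegree - 1, by omega⟩
  have e0 : redA g v φ (w - φ w • v) = g w - φ (g w) • g v := by
    simp only [redA_apply, map_sub, map_smul, h1]; module
  have e1 : ∀ i ≤ k, (redA g v φ ^ (i + 1)) (w - φ w • v) =
      (g ^ (i + 1)) w - φ ((g ^ (i + 1)) w) • g v := by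
    intro i
    induction i with
    | zero => intro _; simpa using e0
    | succ i ih =>
      intro hi
      rw [pow_succ', End.mul_apply, ih (by omega), h2 _ (by omega) (by omega), zero_smul, sub_zero,
        redA_apply, pow_succ' g (i + 1), End.mul_apply]
  have hsum : ∑ i ∈ Finset.range (k + 1), f.coeff (i + 1) • (g ^ (i + 1)) w + f.coeff 0 • w = 0 := by
    rw [← hw, aeval_eq_sum_range, hk', Finset.sum_range_succ' _ (k + 1)]
    simp
  have hsum' : ∑ i ∈ Finset.range (k + 1), f.coeff (i + 1) * φ ((g ^ (i + 1)) w) = 1 := by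
    rw [Finset.sum_range_succ, ← hk', h3, hf.coeff_natDegree, mul_one, Finset.sum_eq_zero, zero_add]
    intro i hi
    rw [h2 _ (by omega) (by have := Finset.mem_range.1 hi; omega), mul_zero]
  have e2 : f.coeff 0 * φ w = -1 := by
    have := congrArg φ hsum
    simp only [map_add, map_sum, map_smul, smul_eq_mul, hsum', map_zero] at this
    linear_combination this
  have e3 : aeval (redA g v φ) f (w - φ w • v) = v - g v := by
    rw [aeval_eq_sum_range, hk', Finset.sum_range_succ' _ (k + 1), LinearMap.add_apply,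
      LinearMap.sum_apply, Finset.sum_congr rfl (g := fun i ↦ f.coeff (i + 1) • (g ^ (i + 1)) w -
        (f.coeff (i + 1) * φ ((g ^ (i + 1)) w)) • g v) fun i hi ↦ by
          rw [LinearMap.smul_apply, e1 i (by have := Finset.mem_range.1 hi; omega), smul_sub,
            smul_smul],
      Finset.sum_sub_distrib, ← Finset.sum_smul, hsum']
    simp only [pow_zero, LinearMap.smul_apply, End.one_apply]
    linear_combination (norm := module) hsum - e2 • v
  set U := cyc (redA g v φ) (w - φ w • v) with hU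
  have hUc : cyc (red h1) (kprj h0 w) = U.comap (LinearMap.ker φ).subtype :=
    (comap_cyc (g := redA g v φ) (LinearMap.ker φ).subtype (Submodule.subtype_injective _)
      (fun _ ↦ rfl) _).symm
  have hUk : U ≤ LinearMap.ker φ := cyc_le (kprj h0 w).2 fun x _ ↦ redA_mem h1 x
  have hinv := le_sup_of_red (φ := φ) (U := U) (fun _ ↦ apply_mem_cyc)
    (by rw [← neg_sub, ← e3]; exact U.neg_mem (aeval_mem_cyc _ _ _))
  have hv : v ∈ U ⊔ Submodule.span F {v} :=
    Submodule.mem_sup_right (Submodule.mem_span_singleton_self v)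
  have hle : cyc g v ⊔ cyc g w ≤ U ⊔ Submodule.span F {v} := sup_le (cyc_le hv hinv) (cyc_le (by
    simpa using Submodule.add_mem _ (Submodule.mem_sup_left (self_mem_cyc _ _))
      (Submodule.smul_mem _ (φ w) hv)) hinv)
  have hle' : U ≤ cyc g v ⊔ cyc g w := by
    refine cyc_le (Submodule.sub_mem _ (Submodule.mem_sup_right (self_mem_cyc _ _))
      (Submodule.smul_mem _ _ (Submodule.mem_sup_left (self_mem_cyc _ _)))) fun x hx ↦ ?_
    refine Submodule.sub_mem _ ?_
      (Submodule.smul_mem _ _ (Submodule.mem_sup_left (apply_mem_cyc (self_mem_cyc _ _))))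
    obtain ⟨y, hy, z, hz, rfl⟩ := Submodule.mem_sup.1 hx
    rw [map_add]
    exact Submodule.add_mem_sup (apply_mem_cyc hy) (apply_mem_cyc hz)
  have hcompl : IsCompl (cyc (red h1) (kprj h0 w)) (R'.comap (LinearMap.ker φ).subtype) := by
    rw [hUc]
    refine ⟨Submodule.disjoint_def.2 fun x hx hx' ↦ Subtype.ext ?_,
      codisjoint_iff.2 (eq_top_iff.2 fun x _ ↦ ?_)⟩
    · obtain ⟨y, hy, z, hz, e⟩ := Submodule.mem_sup.1 (hle' hx)
      have e' : y = x - z := eq_sub_of_add_eq e
      have : y = 0 := Submodule.disjoint_def.1 hC.disjoint y hy (by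
        rw [e', ← h6]
        exact Submodule.sub_mem _ (Submodule.mem_sup_right hx') (Submodule.mem_sup_left hz))
      rw [this, zero_add] at e
      exact Submodule.disjoint_def.1 h5 ((LinearMap.ker φ).subtype x) (e ▸ hz) hx'
    · have : (x : V) ∈ (cyc g v ⊔ cyc g w) ⊔ R' := by
        rw [sup_assoc, h6, hC.sup_eq_top]; trivial
      obtain ⟨y, hy, z, hz, e⟩ := Submodule.mem_sup.1 this
      have hy0 : φ y = 0 := by
        have := congrArg φ e
        rwa [map_add, h4 z hz, add_zero, LinearMap.mem_ker.1 x.2] at this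
      exact Submodule.mem_sup.2 ⟨⟨y, hy0⟩, mem_of_mem_sup_span h0 hUk (hle hy) hy0,
        ⟨z, h4 z hz⟩, hz, Subtype.ext e⟩
  refine ⟨hcompl, fun x hx ↦ ?_, ?_, Subtype.ext ?_, e2, e0⟩
  · rw [coe_red, h4 _ (hR' (x : V) hx), zero_smul, sub_zero]
  · have a1 := Submodule.finrank_add_eq_of_isCompl hcompl
    have a2 := Submodule.finrank_add_eq_of_isCompl hC
    have a3 := finrank_ker_add_one h0
    have a4 := Submodule.finrank_sup_add_finrank_inf_eq (cyc g w) R'
    rw [h6, h5.eq_bot, finrank_bot] at a4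
    have a5 := (Submodule.comapSubtypeEquivOfLe (p := R') (q := LinearMap.ker φ) h4).finrank_eq
    omega
  · rw [Submodule.coe_neg, coe_aeval_red, coe_kprj, coe_kprj, e3, h1]; simp

theorem exists_line_param {a b : F} (h : a ≠ 0 ∨ b ≠ 0) :
    ∃ t₀ : F, ∀ t, t ≠ t₀ → (1 - t) * a + t * b ≠ 0 := by
  by_cases e : a = b
  · subst e
    exact ⟨0, fun t _ ↦ by rw [show (1 - t) * a + t * a = a by ring]; simpa using h⟩
  · refine ⟨a / (a - b), fun t ht h' ↦ ht ?_⟩
    rw [eq_div_iff (sub_ne_zero.2 e)]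
    linear_combination -h'

theorem exists_dual_one {S : Submodule F V} {v u : V} (hv : v ∉ S) (hu : u ∉ S) :
    ∃ φ : Dual F V, φ v = 1 ∧ (∀ x ∈ S, φ x = 0) ∧ φ u ≠ 0 := by
  obtain ⟨φ, h1, h2, h3⟩ := exists_dual_of_notMem₂ hv hu
  exact ⟨(φ v)⁻¹ • φ, by simp [h1], fun x hx ↦ by simp [h3 x hx], by simp [h1, h2]⟩

theorem exists_dual_three (h4 : ∀ a b c : F, ∃ x, x ≠ a ∧ x ≠ b ∧ x ≠ c) {S : Submodule F V}
    {v u₁ u₂ u₃ : V} (hv : v ∉ S) (h1 : u₁ ∉ S) (h2 : u₂ ∉ S) (h3 : u₃ ∉ S) :
    ∃ φ : Dual F V, φ v = 1 ∧ (∀ x ∈ S, φ x = 0) ∧ φ u₁ ≠ 0 ∧ φ u₂ ≠ 0 ∧ φ u₃ ≠ 0 := by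
  obtain ⟨φ₁, a1, a2, a3⟩ := exists_dual_one hv h1
  obtain ⟨φ₂, b1, b2, b3⟩ := exists_dual_one hv h2
  obtain ⟨φ₃, c1, c2, c3⟩ := exists_dual_one hv h3
  obtain ⟨s₁, hs₁⟩ := exists_line_param (b := φ₂ u₁) (Or.inl a3)
  obtain ⟨s₂, hs₂⟩ := exists_line_param (a := φ₁ u₂) (Or.inr b3)
  obtain ⟨s, e1, e2, -⟩ := h4 s₁ s₂ s₂
  obtain ⟨t₁, ht₁⟩ := exists_line_param (b := φ₃ u₁) (Or.inl (hs₁ s e1))
  obtain ⟨t₂, ht₂⟩ := exists_line_param (b := φ₃ u₂) (Or.inl (hs₂ s e2))
  obtain ⟨t₃, ht₃⟩ := exists_line_param (a := (1 - s) * φ₁ u₃ + s * φ₂ u₃) (Or.inr c3)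
  obtain ⟨t, f1, f2, f3⟩ := h4 t₁ t₂ t₃
  exact ⟨(1 - t) • ((1 - s) • φ₁ + s • φ₂) + t • φ₃, by simp [a1, b1, c1]; ring,
    fun x hx ↦ by simp [a2 x hx, b2 x hx, c2 x hx], ht₁ t f1, ht₂ t f2, ht₃ t f3⟩

/-- Membership in `span {g v - v} ⊔ R` for elements of the cyclic part. -/
theorem notMem_span_sup {g : End F V} {v : V} {R : Submodule F V} (hC : Disjoint (cyc g v) R)
    {x : V} (hx : x ∈ cyc g v) (h : ∀ a : F, a • (g v - v) ≠ x) :
    x ∉ Submodule.span F {g v - v} ⊔ R := by
  intro hm
  obtain ⟨y, hy, z, hz, e⟩ := Submodule.mem_sup.1 hm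
  obtain ⟨a, rfl⟩ := Submodule.mem_span_singleton.1 hy
  have : z = 0 := Submodule.disjoint_def.1 hC z (by
    rw [eq_sub_of_add_eq' e]
    exact Submodule.sub_mem _ hx (Submodule.smul_mem _ _ (Submodule.sub_mem _
      (apply_mem_cyc (self_mem_cyc _ _)) (self_mem_cyc _ _)))) hz
  exact h a (by rwa [this, add_zero] at e)

theorem inj_of_det [FiniteDimensional F V] {g : End F V} (hg : LinearMap.det g = 1) :
    Function.Injective g :=
  (LinearMap.isUnit_iff_ker_eq_bot g).1 ((LinearMap.isUnit_iff_isUnit_det g).2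
    (hg ▸ isUnit_one)) |> LinearMap.ker_eq_bot.1

/-- A vector whose non-vanishing makes `red - 1` injective. -/
theorem exists_test_vector [FiniteDimensional F V] {g : End F V} {v : V} (hv : cyc g v = ⊤)
    (hd : 3 ≤ finrank F (cyc g v)) : ∃ u, (∀ a : F, a • (g v - v) ≠ u) ∧
      ∀ (φ : Dual F V) (h1 : φ (g v) = 1), φ u ≠ 0 → ∀ x, red h1 x = x → x = 0 := by
  by_cases hN : ∀ x, g x = (1 : F) • x → x = 0
  · obtain ⟨u, hu⟩ := surj_of_inj hN (g v)
    refine ⟨u, fun a e ↦ ?_, fun φ h1 hφ x hx ↦ ?_⟩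
    · have := (cyc_indep_three hd (a := a) (b := -2 * a - 1) (c := a) (by
        rw [← e] at hu
        simp only [map_smul, map_sub] at hu
        linear_combination (norm := module) hu))
      simp [this.1] at this
    · have e : g x - φ (g x) • g v = x := congrArg Subtype.val hx
      have e2 : (x : V) - φ (g x) • u = 0 := hN _ (by
        rw [map_sub, map_smul]
        linear_combination (norm := module) e - φ (g x) • hu)
      have e3 : φ (g x) = 0 := by
        have := congrArg φ e2
        simpa [hφ] using this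
      rw [e3, zero_smul, sub_zero] at e2
      exact Subtype.ext e2
  · push Not at hN
    obtain ⟨u, hu, hu0⟩ := hN
    rw [one_smul] at hu
    have hker : ∀ x, g x = x → ∃ a : F, x = a • u := by
      let N : End F V := g - 1
      have a1 : finrank F V ≤ finrank F (LinearMap.range N) + 1 := by
        have : (⊤ : Submodule F V) ≤ LinearMap.range N ⊔ Submodule.span F {v} := fun y _ ↦ by
          obtain ⟨s, x, rfl⟩ := exists_smul_add_of_cyc hv 1 y
          rw [add_comm]
          exact Submodule.add_mem_sup ⟨x, by simp [N]⟩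
            (Submodule.smul_mem _ _ (Submodule.mem_span_singleton_self v))
        have b1 := Submodule.finrank_mono this
        have b2 := Submodule.finrank_add_le_finrank_add_finrank (LinearMap.range N)
          (Submodule.span F {v})
        have b3 := finrank_span_le_card (R := F) ({v} : Set V)
        simp only [finrank_top, Set.toFinset_singleton, Finset.card_singleton] at b1 b3
        omega
      have a2 := N.finrank_range_add_finrank_ker
      have a3 : Submodule.span F {u} = LinearMap.ker N := by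
        refine Submodule.eq_of_le_of_finrank_le ?_ ?_
        · simp [N, hu]
        · rw [finrank_span_singleton hu0]; omega
      intro x hx
      obtain ⟨a, ha⟩ := Submodule.mem_span_singleton.1 (a3 ▸ (by simp [N, hx] :
        x ∈ LinearMap.ker N))
      exact ⟨a, ha.symm⟩
    have hns : ∀ y, g y - y ≠ v := by
      intro y hy
      have hs : Function.Surjective (g - 1 : End F V) := fun z ↦ by
        obtain ⟨s, x, rfl⟩ := exists_smul_add_of_cyc hv 1 z
        exact ⟨s • y + x, by simp [← hy, smul_sub]; abel⟩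
      exact hu0 (LinearMap.injective_iff_surjective.2 hs (by simp [hu]))
    refine ⟨u, fun a e ↦ ?_, fun φ h1 hφ x hx ↦ ?_⟩
    · have := (cyc_indep_three hd (a := a) (b := -2 * a) (c := a) (by
        rw [← e] at hu
        simp only [map_smul, map_sub] at hu
        linear_combination (norm := module) hu))
      exact hu0 (by rw [← e, this.1, zero_smul])
    · have e : g x - φ (g x) • g v = x := congrArg Subtype.val hx
      by_cases e3 : φ (g x) = 0
      · rw [e3, zero_smul, sub_zero] at e
        obtain ⟨a, ha⟩ := hker x e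
        have : a = 0 := by simpa [hφ] using (congrArg φ ha).symm.trans x.2
        exact Subtype.ext (by rw [ha, this, zero_smul]; rfl)
      · refine absurd ?_ (hns ((φ (g x))⁻¹ • (x : V) - v))
        rw [map_sub, map_smul]
        have := mul_inv_cancel₀ e3
        linear_combination (norm := module) (φ (g x))⁻¹ • e + this • g v

end Step

universe u

/-- Lev's induction. -/
theorem res_of_four (h4 : ∀ a b c : F, ∃ x, x ≠ a ∧ x ≠ b ∧ x ≠ c) {P : F[X]} {Δ : F[X] → F}
    (base : ∀ (V : Type u) [AddCommGroup V] [Module F V] [FiniteDimensional F V] (g : End F V)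
      (v c : V) (r : Dual F V), finrank F V = 2 → LinearMap.det g = 1 → cyc g v = ⊤ → r v ≠ 0 →
      (∀ a : F, a • (g v - v) ≠ c) → (∃ x, g (g x - x) ≠ g x - x) → Res 1 P Δ g c r) (m : ℕ) :
    ∀ (V : Type u) [AddCommGroup V] [Module F V] [FiniteDimensional F V] (g : End F V)
      (v c : V) (r : Dual F V) (R : Submodule F V), finrank F V = m + 2 → LinearMap.det g = 1 →
      IsCompl (cyc g v) R → (∀ x ∈ R, g x ∈ R) → r v ≠ 0 → c ∈ cyc g v →
      (∀ a : F, a • (g v - v) ≠ c) → 2 ≤ finrank F (cyc g v) →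
      (3 ≤ finrank F (cyc g v) ∨ R = ⊥ ∨ ∃ x ∈ R, g x ≠ x) →
      (m = 0 → ∃ x, g (g x - x) ≠ g x - x) →
      Res 1 ((X - C 1) ^ m * P) (fun u ↦ u.eval 1 ^ m * Δ u) g c r := by
  induction m with
  | zero =>
    intro V _ _ _ g v c r R hV hg hC hR hr hc hc' hd _ hB
    have : cyc g v = ⊤ := Submodule.eq_top_of_finrank_eq
      (le_antisymm (Submodule.finrank_le _) (by omega))
    simpa using base V g v c r hV hg this hr hc' (hB rfl)
  | succ m ih =>
    intro V _ _ _ g v c r R hV hg hC hR hr hc hc' hd hinv _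
    have fin : ∀ (φ : Dual F V) (h0 : φ v = 1) (h1 : φ (g v) = 1), φ c ≠ 0 →
        Res 1 ((X - C 1) ^ m * P) (fun u ↦ u.eval 1 ^ m * Δ u) (red h1) (kprj h0 (g v))
          (φ ∘ₗ g ∘ₗ (LinearMap.ker φ).subtype) →
        Res 1 ((X - C 1) ^ (m + 1) * P) (fun u ↦ u.eval 1 ^ (m + 1) * Δ u) g c r := by
      intro φ h0 h1 hφ h
      simpa only [pow_succ', mul_assoc] using h.lift one_ne_zero h0 h1 hφ hr
    have hdim : ∀ (φ : Dual F V), φ v = 1 → finrank F (LinearMap.ker φ) = m + 2 := fun φ h0 ↦ by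
      have := finrank_ker_add_one h0; omega
    have hv0 : ∀ a : F, a • (g v - v) ≠ v := fun a e ↦ by
      have := cyc_indep_two hd (a := -a - 1) (b := a) (by linear_combination (norm := module) e)
      simp [this.2] at this
    have hvS := notMem_span_sup hC.disjoint (self_mem_cyc g v) hv0
    have hcS := notMem_span_sup hC.disjoint hc hc'
    have hN2 : 3 ≤ finrank F (cyc g v) → g (g v) - g v ∉ Submodule.span F {g v - v} ⊔ R :=
      fun h3 ↦ notMem_span_sup hC.disjoint (Submodule.sub_mem _
        (apply_mem_cyc (apply_mem_cyc (self_mem_cyc _ _))) (apply_mem_cyc (self_mem_cyc _ _)))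
        fun a e ↦ by
          have := cyc_indep_three h3 (a := -a) (b := a + 1) (c := -1)
            (by linear_combination (norm := module) e)
          simp at this
    have hone : ∀ φ : Dual F V, φ v = 1 → (∀ x ∈ Submodule.span F {g v - v} ⊔ R, φ x = 0) →
        φ (g v) = 1 := fun φ h0 h ↦ by
      have := h _ (Submodule.mem_sup_left (Submodule.mem_span_singleton_self _))
      rwa [map_sub, h0, sub_eq_zero] at this
    by_cases hR0 : R = ⊥
    · subst hR0
      have htop : cyc g v = ⊤ := by simpa using hC.sup_eq_top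
      have h3 : 3 ≤ finrank F (cyc g v) := by rw [htop, finrank_top]; omega
      obtain ⟨u, hu, hu'⟩ := exists_test_vector htop h3
      obtain ⟨φ, h0, hS, a1, a2, a3⟩ := exists_dual_three h4 hvS hcS (hN2 h3)
        (notMem_span_sup hC.disjoint (htop ▸ Submodule.mem_top) hu)
      have h1 := hone φ h0 hS
      have ht := cyc_red_top h0 h1 htop
      have hd' : 2 ≤ finrank F (cyc (red h1) (kprj h0 (g v))) := by
        rw [ht, finrank_top, hdim φ h0]; omega
      refine fin φ h0 h1 a1 (ih _ _ (kprj h0 (g v)) _ _ ⊥ (hdim φ h0) (by rwa [det_red h0])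
        (by rw [ht]; exact isCompl_top_bot) (by simp) (by simpa [coe_kprj, h1] using a2)
        (self_mem_cyc _ _) (fun a e ↦ ?_) hd' (Or.inr (Or.inl rfl)) fun _ ↦ ⟨kprj h0 (g v), ?_⟩)
      · have := cyc_indep_two hd' (a := -a - 1) (b := a) (by linear_combination (norm := module) e)
        simp [this.2] at this
      · intro e
        have := cyc_indep_two hd' (a := -1) (b := 1)
          (by linear_combination (norm := module) hu' φ h1 a3 _ e)
        simp at this
    obtain ⟨w, f, ψ, R', hw, hf, hk, hfd, hfR, b1, b2, b3, b4, b5, b6, b7⟩ :=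
      exists_summand (inj_of_det hg) hC.disjoint hR hR0
    obtain ⟨φ₀, c0, hS, c1, c2⟩ : ∃ φ₀ : Dual F V, φ₀ v = 1 ∧
        (∀ x ∈ Submodule.span F {g v - v} ⊔ R, φ₀ x = 0) ∧ φ₀ c ≠ 0 ∧
        (3 ≤ finrank F (cyc g v) → φ₀ (g (g v) - g v) ≠ 0) := by
      by_cases h3 : 3 ≤ finrank F (cyc g v)
      · obtain ⟨φ, h0, hS, a1, a2, -⟩ := exists_dual_three h4 hvS hcS (hN2 h3) hcS
        exact ⟨φ, h0, hS, a1, fun _ ↦ a2⟩
      · obtain ⟨φ, h0, hS, a1⟩ := exists_dual_one hvS hcS
        exact ⟨φ, h0, hS, a1, fun h ↦ absurd h h3⟩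
    have hRR : R' ≤ R := b7 ▸ le_sup_right
    have eC : ∀ x ∈ cyc g v, (φ₀ + ψ) x = φ₀ x := fun x hx ↦ by simp [b1 x hx]
    have eR : ∀ x ∈ R, (φ₀ + ψ) x = ψ x := fun x hx ↦ by simp [hS x (Submodule.mem_sup_right hx)]
    have hpow : ∀ i, (g ^ i) w ∈ R := fun i ↦ by simpa using aeval_mem hR (X ^ i) hw
    generalize φ₀ + ψ = φ at eC eR
    have h0 : φ v = 1 := by rw [eC _ (self_mem_cyc _ _), c0]
    have h1 : φ (g v) = 1 := by rw [eC _ (apply_mem_cyc (self_mem_cyc _ _)), hone φ₀ c0 hS]
    obtain ⟨d1, d2, d3, d4, d5, d6⟩ := glue_step h0 h1 hC hf hk hfd (hfR w hw)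
      (fun i hi hi' ↦ by rw [eR _ (hpow i), b2 i hi hi']) (by rw [eR _ (hpow _), b3]) b4
      (fun x hx ↦ by rw [eR _ (hRR hx), b5 x hx]) b6 b7
    have d7 : ∀ x ∈ R'.comap (LinearMap.ker φ).subtype,
        red h1 x ∈ R'.comap (LinearMap.ker φ).subtype := fun x hx ↦ by
      change (red h1 x : V) ∈ R'
      rw [d2 x hx]; exact b4 _ hx
    have hdet : LinearMap.det (red h1) = 1 := by rwa [det_red h0]
    have hle := Submodule.finrank_le (cyc (red h1) (kprj h0 w))
    rw [hdim φ h0] at hle
    refine fin φ h0 h1 (by rwa [eC c hc]) ?_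
    rcases hk.eq_or_lt with hk1 | hk2
    · obtain ⟨β, rfl⟩ : ∃ β, f = X - C β := ⟨-f.coeff 0, by
        rw [map_neg, sub_neg_eq_add]; exact hf.eq_X_add_C hk1.symm⟩
      have hβ : ∀ x ∈ R, g x = β • x := fun x hx ↦ by
        simpa [Algebra.algebraMap_eq_smul_one, sub_eq_zero] using hfR x hx
      have hφw : β * φ w = 1 := by simpa using d5
      have hφg : φ (g w) = 1 := by rw [hβ w hw, map_smul, smul_eq_mul, hφw]
      have d4' : kprj h0 (g v) = β • kprj h0 w - red h1 (kprj h0 w) := by
        rw [d4]; simp [Algebra.algebraMap_eq_smul_one]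
      rw [natDegree_X_sub_C] at d3
      by_cases hβ1 : β = 1
      · subst hβ1
        have h3 : 3 ≤ finrank F (cyc g v) := by
          rcases hinv with h | h | ⟨x, hx, h⟩
          · exact h
          · exact absurd h hR0
          · exact absurd (by simpa using hβ x hx) h
        have hca := cyc_apply (inj_of_det hdet) (kprj h0 w)
        refine ih _ _ (red h1 (kprj h0 w)) _ _ _ (hdim φ h0) hdet (by rwa [hca]) d7 ?_ ?_
          (fun a e ↦ ?_) (by rw [hca]; omega) (Or.inl (by rw [hca]; omega)) fun hm ↦ by omega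
        · have := c2 h3
          rw [← eC _ (Submodule.sub_mem _ (apply_mem_cyc (apply_mem_cyc (self_mem_cyc _ _)))
            (apply_mem_cyc (self_mem_cyc _ _))), map_sub, h1] at this
          simp only [LinearMap.comp_apply, Submodule.subtype_apply, d6, hφg, one_smul, map_sub]
          rw [hβ w hw, one_smul, hφg]
          exact fun e ↦ this (by linear_combination -e)
        · rw [hca, d4']
          exact Submodule.sub_mem _ (Submodule.smul_mem _ _ (self_mem_cyc _ _))
            (apply_mem_cyc (self_mem_cyc _ _))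
        · have := cyc_indep_three (g := red h1) (v := kprj h0 w) (by omega) (a := -1)
            (b := 1 - a) (c := a) (by rw [d4'] at e; linear_combination (norm := module) e)
          simp at this
      · refine ih _ _ (kprj h0 w) _ _ _ (hdim φ h0) hdet d1 d7 ?_ ?_
          (fun a e ↦ ?_) (by omega) ?_ fun hm ↦ ⟨kprj h0 w, fun e ↦ ?_⟩
        · simp only [LinearMap.comp_apply, Submodule.subtype_apply, coe_kprj, map_sub, map_smul, hφg,
            h1, smul_eq_mul, mul_one]
          exact fun e ↦ hβ1 (by linear_combination hφw + β * e)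
        · rw [d4']
          exact Submodule.sub_mem _ (Submodule.smul_mem _ _ (self_mem_cyc _ _))
            (apply_mem_cyc (self_mem_cyc _ _))
        · have := cyc_indep_two (g := red h1) (v := kprj h0 w) (by omega) (a := -a - β)
            (b := a + 1) (by rw [d4'] at e; linear_combination (norm := module) e)
          exact hβ1 (by linear_combination -this.1 - this.2)
        · by_cases h : R'.comap (LinearMap.ker φ).subtype = ⊥
          · exact Or.inr (Or.inl h)
          · obtain ⟨x, hx, hx0⟩ := Submodule.exists_mem_ne_zero_of_ne_bot h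
            refine Or.inr (Or.inr ⟨x, hx, fun e ↦ hx0 (Subtype.ext ?_)⟩)
            have := congrArg Subtype.val e
            rw [d2 x hx, hβ (x : V) (hRR hx)] at this
            have e2 : (β - 1) • (x : V) = 0 := by linear_combination (norm := module) this
            exact (smul_eq_zero.1 e2).resolve_left (sub_ne_zero.2 hβ1)
        · have e1 := congrArg Subtype.val e
          rw [map_sub, Submodule.coe_sub, Submodule.coe_sub, coe_red h1 (red h1 _), d6, coe_kprj,
            hφg, one_smul, map_sub, hβ w hw, map_smul, hβ w hw] at e1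
          have hw0 : ((β - 1) * (β - 1)) • w = 0 := Submodule.disjoint_def.1 hC.disjoint _ (by
            rw [show ((β - 1) * (β - 1)) • w = g (g v) + (φ (β • β • w - g (g v)) - 2) • g v +
              φ w • v by linear_combination (norm := module) e1]
            exact Submodule.add_mem _ (Submodule.add_mem _
              (apply_mem_cyc (apply_mem_cyc (self_mem_cyc _ _)))
              (Submodule.smul_mem _ _ (apply_mem_cyc (self_mem_cyc _ _))))
              (Submodule.smul_mem _ _ (self_mem_cyc _ _))) (R.smul_mem _ hw)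
          have : w = 0 := (smul_eq_zero.1 hw0).resolve_left (by simp [sub_ne_zero.2 hβ1])
          simp [this] at hφw
    · refine ih _ _ (kprj h0 w) _ _ _ (hdim φ h0) hdet d1 d7 ?_ ?_
        (fun a e ↦ ?_) (by omega) (Or.inl (by omega)) fun hm ↦ by omega
      · have : φ (g w) = 0 := by simpa [eR _ (hR w hw)] using b2 1 le_rfl hk2
        simp only [LinearMap.comp_apply, Submodule.subtype_apply, coe_kprj, map_sub, map_smul, this,
          h1, smul_eq_mul, mul_one]
        intro e
        have : φ w = 0 := by linear_combination -e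
        simp [this] at d5
      · rw [d4]; exact Submodule.neg_mem _ (aeval_mem_cyc _ _ _)
      · have hm : (f + (C a * X + C (-a))).Monic :=
          hf.add_of_left (lt_of_le_of_lt degree_linear_le (by
            rw [degree_eq_natDegree hf.ne_zero]; exact_mod_cast hk2))
        refine hm.ne_zero (eq_zero_of_aeval (g := red h1) (v := kprj h0 w) ?_ ?_)
        · rw [d4] at e
          simp only [map_add, map_mul, aeval_C, aeval_X, Algebra.algebraMap_eq_smul_one,
            LinearMap.add_apply, End.mul_apply, LinearMap.smul_apply, End.one_apply]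
          linear_combination (norm := module) e
        · rw [natDegree_add_eq_left_of_natDegree_lt (lt_of_le_of_lt natDegree_linear_le hk2)]
          omega

end CL.SLn
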