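/-
Lev's theorem: a non-scalar matrix of determinant one over a field with at least four elements is a
product of two regular unipotent matrices (`n ≥ 3`).
-/
import Cfsg.Agent.Cls.ProdStep
import Cfsg.Agent.Cls.GenJordan
import Cfsg.Agent.Known.GLTv

set_option autoImplicit false

namespace CL.SLn

open Module Polynomial

variable {F : Type*} [Field F]

section Base

variable {V : Type*} [AddCommGroup V] [Module F V] [FiniteDimensional F V]

theorem ne_smul_sub {g : End F V} {v : V} (hd : 2 ≤ finrank F (cyc g v)) (a : F) :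
    a • (g v - v) ≠ v := fun e ↦ by
  have := cyc_indep_two hd (a := -a - 1) (b := a) (by linear_combination (norm := module) e)
  simp [this.2] at this

theorem exists_dual_base {g : End F V} {v c : V} (hd : 2 ≤ finrank F (cyc g v))
    (hc : ∀ a : F, a • (g v - v) ≠ c) : ∃ φ : Dual F V, φ v = 1 ∧ φ (g v) = 1 ∧ φ c ≠ 0 := by
  obtain ⟨φ, h0, hS, h1⟩ := exists_dual_one (S := Submodule.span F {g v - v}) (v := v) (u := c)
    (fun h ↦ by obtain ⟨a, e⟩ := Submodule.mem_span_singleton.1 h; exact ne_smul_sub hd a e)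
    (fun h ↦ by obtain ⟨a, e⟩ := Submodule.mem_span_singleton.1 h; exact hc a e)
  have := hS _ (Submodule.mem_span_singleton_self _)
  rw [map_sub, h0, sub_eq_zero] at this
  exact ⟨φ, h0, this, h1⟩

theorem kprj_ne_zero {g : End F V} {v : V} (hd : 2 ≤ finrank F (cyc g v)) {φ : Dual F V}
    (h0 : φ v = 1) (h1 : φ (g v) = 1) : kprj h0 (g v) ≠ 0 := fun e ↦ by
  have e' : g v - φ (g v) • v = 0 := congrArg Subtype.val e
  have := cyc_indep_two hd (a := -1) (b := 1) (by rw [h1] at e'; linear_combination (norm := module) e')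
  simp at this

theorem res_two_unip {g : End F V} {v c : V} {r : Dual F V} (h2 : finrank F V = 2)
    (hg : LinearMap.det g = 1) (hv : cyc g v = ⊤) (hr : r v ≠ 0)
    (hc : ∀ a : F, a • (g v - v) ≠ c) (hB : ∃ x, g (g x - x) ≠ g x - x) :
    Res 1 ((X - C 1) * (X - C 1)) (fun u ↦ u.eval 1 * u.eval 1) g c r := by
  have hd : 2 ≤ finrank F (cyc g v) := by rw [hv, finrank_top, h2]
  obtain ⟨φ, h0, h1, hφ⟩ := exists_dual_base hd hc
  refine Res.lift one_ne_zero h0 h1 hφ hr (res_one (by have := finrank_ker_add_one h0; omega)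
    (by rwa [det_red h0]) 1 (kprj_ne_zero hd h0 h1) fun e ↦ ?_)
  obtain ⟨τ, hτ⟩ := exists_ch_two (g := g) h2
  obtain ⟨x, hx⟩ := hB
  have := LinearMap.congr_fun e (kprj h0 (g v))
  simp only [LinearMap.comp_apply, Submodule.subtype_apply, coe_kprj, map_sub, map_smul, hτ, h0, h1,
    hg, smul_eq_mul, LinearMap.zero_apply] at this
  refine hx ?_
  rw [map_sub, hτ, hg, show τ = 2 by linear_combination this]
  module

theorem res_two_split {l : F} (hl : l ≠ 0) (hl1 : l * l ≠ 1) {g : End F V} {v c : V}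
    {r : Dual F V} (h2 : finrank F V = 2) (hg : LinearMap.det g = 1) (hv : cyc g v = ⊤) :
    Res 1 ((X - C l) * (X - C l⁻¹)) (fun u ↦ u.eval l * u.eval l⁻¹) g c r := by
  have hd : 2 ≤ finrank F (cyc g v) := by rw [hv, finrank_top, h2]
  obtain ⟨φ, h0, h1, hφ⟩ := exists_dual_base hd (ne_smul_sub hd)
  obtain ⟨ψ, hψ⟩ := exists_dual_eq_one (F := F) (kprj_ne_zero hd h0 h1)
  have e1 : l ≠ 1 := by rintro rfl; simp at hl1
  have := (res_one (by have := finrank_ker_add_one h0; omega) ((det_red h0 h1).trans hg) l⁻¹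
    (kprj_ne_zero hd h0 h1) (r := ψ) (by rintro rfl; simp at hψ)).change (β' := l)
    (c' := kprj h0 (g v)) (r' := φ ∘ₗ g ∘ₗ (LinearMap.ker φ).subtype) (by
      simp only [eval_sub, eval_X, eval_C]
      intro e; apply hl1; rw [sub_eq_zero] at e; nth_rw 2 [e]; exact mul_inv_cancel₀ hl)
  refine (this.lift hl h0 h1 hφ hφ).change ?_
  simp [sub_eq_zero, e1.symm, e1]

/-- The initial state of the induction. -/
theorem exists_state {g : End F V} (hg : LinearMap.det g = 1) (hns : ∀ a : F, g ≠ a • 1) :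
    ∃ (v : V) (R : Submodule F V), IsCompl (cyc g v) R ∧ (∀ x ∈ R, g x ∈ R) ∧
      2 ≤ finrank F (cyc g v) ∧ ∃ f : F[X], f.Monic ∧ f.natDegree = finrank F (cyc g v) ∧
        aeval g f = 0 := by
  have h0 : (⊤ : Submodule F V) ≠ ⊥ := fun h ↦ hns 1 (LinearMap.ext fun x ↦ by
    have : x = 0 := by rw [← Submodule.mem_bot F, ← h]; trivial
    simp [this])
  obtain ⟨w, f, ψ, R, -, hf, hk, hfd, hfR, -, -, -, b4, -, b6, b7⟩ :=
    exists_summand (inj_of_det hg) (C := ⊥) (R := ⊤) disjoint_bot_left (by simp) h0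
  have hf0 : aeval g f = 0 := LinearMap.ext fun x ↦ hfR x trivial
  refine ⟨w, R, ⟨b6, codisjoint_iff.2 b7⟩, b4, ?_, f, hf, hfd, hf0⟩
  by_contra h
  have := hf.eq_X_add_C (by omega)
  rw [this, map_add, aeval_X, aeval_C, Algebra.algebraMap_eq_smul_one] at hf0
  exact hns (-f.coeff 0) (by rw [neg_smul]; exact eq_neg_of_add_eq_zero_left hf0)

omit [FiniteDimensional F V] in
theorem exists_quadratic {g : End F V} {f : F[X]} (hf : f.Monic) (h2 : f.natDegree = 2)
    (h : aeval g f = 0) : ∃ a b : F, ∀ x, g (g x) = a • g x + b • x := by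
  refine ⟨-f.coeff 1, -f.coeff 0, fun x ↦ ?_⟩
  have h3 := LinearMap.congr_fun h x
  have h4 : f.coeff 2 = 1 := by rw [← h2]; exact hf
  rw [aeval_eq_sum_range, h2] at h3
  simp only [Finset.sum_range_succ, Finset.range_zero, Finset.sum_empty, h4, pow_succ,
    pow_zero, one_mul, zero_add, one_smul, LinearMap.add_apply, LinearMap.smul_apply,
    End.mul_apply, End.one_apply, LinearMap.zero_apply] at h3
  linear_combination (norm := module) h3

omit [FiniteDimensional F V] in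
theorem mem_cyc_of_quadratic {g : End F V} {a b : F} {v : V} (h : g (g v) = a • g v + b • v)
    {x : V} (hx : x ∈ cyc g v) : ∃ s t : F, s • v + t • g v = x := by
  refine Submodule.mem_span_pair.1 (cyc_le (W := Submodule.span F {v, g v})
    (Submodule.subset_span (by simp)) (fun y hy ↦ ?_) hx)
  obtain ⟨s, t, rfl⟩ := Submodule.mem_span_pair.1 hy
  exact Submodule.mem_span_pair.2 ⟨t * b, s + t * a, by rw [map_add, map_smul, map_smul, h]; module⟩

/-- The exceptional initial state is a transvection. -/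
theorem exists_tv_of_state {g : End F V} (hg : LinearMap.det g = 1) {v : V} {R : Submodule F V}
    (hC : IsCompl (cyc g v) R) (hd : 2 ≤ finrank F (cyc g v)) {a b : F}
    (h : ∀ x, g (g x) = a • g x + b • x) (hR : R ≠ ⊥) (h1 : ∀ x ∈ R, g x = x) :
    ∃ (u : V) (ρ : Dual F V), u ≠ 0 ∧ ρ ≠ 0 ∧ ρ u = 0 ∧ ∀ x, g x = x + ρ x • u := by
  obtain ⟨y, hy, hy0⟩ := Submodule.exists_mem_ne_zero_of_ne_bot hR
  have hab : a + b = 1 := by
    have := h y
    rw [h1 y hy, h1 y hy, ← add_smul] at this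
    have e : (a + b - 1) • y = 0 := by linear_combination (norm := module) -this
    exact sub_eq_zero.1 ((smul_eq_zero.1 e).resolve_right hy0)
  have hu : g v - v ≠ 0 := fun e ↦ by
    have := cyc_indep_two hd (a := -1) (b := 1) (by linear_combination (norm := module) e)
    simp at this
  obtain ⟨χ, hχ⟩ := exists_dual_eq_one (F := F) hu
  have key : ∀ x, g x = x + (χ ∘ₗ (g - 1)) x • (g v - v) := by
    intro x
    obtain ⟨y, hy, z, hz, rfl⟩ := Submodule.mem_sup.1 (hC.sup_eq_top ▸ Submodule.mem_top (x := x))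
    obtain ⟨s, t, rfl⟩ := mem_cyc_of_quadratic (h v) hy
    have e : (g - 1 : End F V) (s • v + t • g v + z) = (s - t * b) • (g v - v) := by
      simp only [LinearMap.sub_apply, map_add, map_smul, h v, h1 z hz, End.one_apply]
      linear_combination (norm := module) hab • (t • g v)
    rw [LinearMap.comp_apply, e, map_smul, hχ, smul_eq_mul, mul_one, ← e]
    simp
  refine ⟨g v - v, χ ∘ₗ (g - 1), hu, fun e ↦ ?_, ?_, key⟩
  · have := LinearMap.congr_fun e v
    simp [hχ] at this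
  · have : g = LinearMap.transvection (χ ∘ₗ (g - 1)) (g v - v) := LinearMap.ext key
    have e := congrArg LinearMap.det this
    rw [LinearMap.transvection.det, hg] at e
    linear_combination -e

theorem isUnit_of_aeval {D : End F V} {P : F[X]} (h : aeval D P = 0)
    (h0 : P.eval 0 ≠ 0) : IsUnit D :=
  (LinearMap.isUnit_iff_ker_eq_bot D).2 (LinearMap.ker_eq_bot'.2 fun x hx ↦
    inj_of_eval_ne_zero h h0 x (by simpa using hx))

theorem cyc_inv {D E : End F V} (h : D * E = 1) {u : V} (hu : cyc D u = ⊤) : cyc E u = ⊤ := by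
  refine eq_top_iff.2 (hu ▸ cyc_le (self_mem_cyc _ _) fun y hy ↦ ?_)
  have hE : Function.Injective E := fun a b e ↦ by
    simpa [← End.mul_apply, h] using congrArg D e
  have h' : E * D = 1 := mul_eq_one_comm.1 h
  obtain ⟨x, hx, e⟩ := exists_preimage_of_invariant hE (fun _ ↦ apply_mem_cyc) hy
  rwa [← e, ← End.mul_apply, h]

end Base

universe u

theorem res_top (h4 : ∀ a b c : F, ∃ x, x ≠ a ∧ x ≠ b ∧ x ≠ c) {P : F[X]} {Δ : F[X] → F}
    (base : ∀ (V : Type u) [AddCommGroup V] [Module F V] [FiniteDimensional F V] (g : End F V)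
      (v c : V) (r : Dual F V), finrank F V = 2 → LinearMap.det g = 1 → cyc g v = ⊤ → r v ≠ 0 →
      (∀ a : F, a • (g v - v) ≠ c) → (∃ x, g (g x - x) ≠ g x - x) → Res 1 P Δ g c r) {m : ℕ}
    {V : Type u} [AddCommGroup V] [Module F V] [FiniteDimensional F V] {g : End F V}
    (hV : finrank F V = m + 1 + 2) (hg : LinearMap.det g = 1) (hns : ∀ a : F, g ≠ a • 1) :
    (∃ c r, Res 1 ((X - C 1) ^ (m + 1) * P) (fun u ↦ u.eval 1 ^ (m + 1) * Δ u) g c r) ∨
    ∃ (u : V) (ρ : Dual F V), u ≠ 0 ∧ ρ ≠ 0 ∧ ρ u = 0 ∧ ∀ x, g x = x + ρ x • u := by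
  obtain ⟨v, R, hC, hR, hd, f, hf, hfd, hf0⟩ := exists_state hg hns
  by_cases h : 3 ≤ finrank F (cyc g v) ∨ R = ⊥ ∨ ∃ x ∈ R, g x ≠ x
  · obtain ⟨φ, h0, -, -⟩ := exists_dual_base hd (ne_smul_sub hd)
    exact Or.inl ⟨v, φ, res_of_four h4 base (m + 1) V g v v φ R hV hg hC hR (by simp [h0])
      (self_mem_cyc _ _) (ne_smul_sub hd) hd h (by simp)⟩
  · push Not at h
    obtain ⟨a, b, hab⟩ := exists_quadratic hf (by omega) hf0
    exact Or.inr (exists_tv_of_state hg hC hd hab h.2.1 h.2.2)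

section Matrices

open Matrix

variable {n : ℕ}

theorem exists_conj_of_cyc {A B : Matrix (Fin n) (Fin n) F} {u v : Fin n → F}
    (hA : cyc (toLin' A) u = ⊤) (hB : cyc (toLin' B) v = ⊤) {P : F[X]} (hP : P ≠ 0)
    (h1 : aeval (toLin' A) P = 0) (h2 : aeval (toLin' B) P = 0) (hd : P.natDegree = n) :
    ∃ x : GL (Fin n) F, x.val * A * (x⁻¹).val = B := by
  obtain ⟨e, he⟩ := exists_equiv_of_cyc hA hB hP h1 h2 (by simp [hd]) (by simp [hd])
  exact CL.GLn.isConj_matrix_iff.1 (CL.GLn.isConj_iff_sim.2 ⟨e, he⟩)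

theorem cyc_top_of_bv {T : End F (Fin n → F)} {u : Fin n → F} (h : ∀ j, bv F n j ∈ cyc T u) :
    cyc T u = ⊤ := by
  rw [eq_top_iff, ← (Pi.basisFun F (Fin n)).span_eq, Submodule.span_le]
  rintro _ ⟨j, rfl⟩
  rw [Pi.basisFun_apply, ← bv_eq_single]
  exact h j

theorem aeval_unip {V : Type*} [AddCommGroup V] [Module F V] (T : End F V) (k : ℕ) :
    aeval T ((X - C 1 : F[X]) ^ k) = (T - 1) ^ k := by simp

theorem shT_bv {j : ℕ} (h : j + 1 < n) : (sh F n)ᵀ *ᵥ bv F n (j + 1) = bv F n j := by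
  ext i
  rw [show j + 1 = (⟨j + 1, h⟩ : Fin n).val from rfl, bv_eq_single, mulVec_single_one]
  simp [sh, bv_apply, eq_comm]

theorem cyc_upper : cyc (toLin' (1 + (sh F n)ᵀ)) (bv F n (n - 1)) = ⊤ := by
  have key : ∀ k, k < n → bv F n (n - 1 - k) ∈ cyc (toLin' (1 + (sh F n)ᵀ)) (bv F n (n - 1)) := by
    intro k
    induction k with
    | zero => intro _; exact self_mem_cyc _ _
    | succ k ih =>
      intro hk
      have h1 := ih (by omega)
      have h2 := Submodule.sub_mem _ (apply_mem_cyc h1) h1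
      rwa [toLin'_apply, add_mulVec, one_mulVec, add_sub_cancel_left,
        show n - 1 - k = (n - 1 - (k + 1)) + 1 by omega, shT_bv (by omega)] at h2
  refine cyc_top_of_bv fun j ↦ ?_
  by_cases hj : j < n
  · simpa [show n - 1 - (n - 1 - j) = j by omega] using key (n - 1 - j) (by omega)
  · rw [bv_of_le (j := j) (by omega)]; exact Submodule.zero_mem _

/-- A cyclic unipotent matrix is conjugate to the upper Jordan block. -/
theorem exists_conj_upper {A : Matrix (Fin n) (Fin n) F} {u : Fin n → F}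
    (hA : cyc (toLin' A) u = ⊤) (h : (toLin' A - 1) ^ n = 0) :
    ∃ x : GL (Fin n) F, x.val * (1 + (sh F n)ᵀ) * (x⁻¹).val = A := by
  refine exists_conj_of_cyc cyc_upper hA (P := (X - C 1) ^ n)
    (pow_ne_zero _ (X_sub_C_ne_zero _)) ?_ (by rwa [aeval_unip]) (by rw [natDegree_pow, natDegree_X_sub_C, mul_one])
  rw [aeval_unip, map_add, toLin'_one, ← End.one_eq_id, add_sub_cancel_left, ← toLin'_pow,
    ← transpose_pow, sh_pow_self, transpose_zero, map_zero]

theorem inv_sub_one_pow {A : Type*} [Ring A] (D : Aˣ) {k : ℕ} (h : (D.val - 1) ^ k = 0) :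
    ((D⁻¹).val - 1) ^ k = 0 := by
  rw [show (D⁻¹).val - 1 = -(D⁻¹).val * (D.val - 1) by
    rw [neg_mul, mul_sub, Units.inv_mul, mul_one, neg_sub], Commute.mul_pow, h, mul_zero]
  exact (((Commute.refl D.val).units_inv_left).sub_right (Commute.one_right _)).neg_left

theorem exists_prod_of_cyc {g : End F (Fin n → F)} {D : End F (Fin n → F)} {u w : Fin n → F}
    (h1 : cyc D u = ⊤) (h2 : cyc (g * D) w = ⊤) (h3 : (D - 1) ^ n = 0) (h4 : (g * D - 1) ^ n = 0) :
    ∃ x y : GL (Fin n) F, LinearMap.toMatrix' g = x.val * (1 + (sh F n)ᵀ) * (x⁻¹).val *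
      (y.val * (1 + (sh F n)ᵀ) * (y⁻¹).val) := by
  obtain ⟨D, rfl⟩ := isUnit_of_aeval (D := D) (P := (X - C 1) ^ n) (by rwa [aeval_unip]) (by simp)
  obtain ⟨x, hx⟩ := exists_conj_upper (A := LinearMap.toMatrix' (g * D.val)) (u := w)
    (by rwa [toLin'_toMatrix']) (by rwa [toLin'_toMatrix'])
  obtain ⟨y, hy⟩ := exists_conj_upper (A := LinearMap.toMatrix' (D⁻¹).val) (u := u)
    (by rw [toLin'_toMatrix']; exact cyc_inv D.mul_inv h1) (by
      rw [toLin'_toMatrix']; exact inv_sub_one_pow D h3)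
  exact ⟨x, y, by rw [hx, hy, ← LinearMap.toMatrix'_mul, Units.mul_inv_cancel_right]⟩

theorem tv_prod (hn : 3 ≤ n) : ∃ x y : GL (Fin n) F,
    1 + vecMulVec (bv F n (n - 1)) (bv F n 0) = x.val * (1 + (sh F n)ᵀ) * (x⁻¹).val *
      (y.val * (1 + (sh F n)ᵀ) * (y⁻¹).val) := by
  obtain ⟨r, rfl⟩ : ∃ r, n = r + 1 := ⟨n - 1, by omega⟩
  rw [Nat.add_sub_cancel]
  set t := toLin' (1 + vecMulVec (bv F (r + 1) r) (bv F (r + 1) 0)) with ht
  set D := toLin' (1 + sh F (r + 1)) with hD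
  have hDb : ∀ j, D (bv F (r + 1) j) = bv F (r + 1) j + bv F (r + 1) (j + 1) := fun j ↦ by
    simp [hD, sh_bv]
  have htx : ∀ x, t x = x + x 0 • bv F (r + 1) r := fun x ↦ by
    have : bv F (r + 1) 0 ⬝ᵥ x = x 0 := by
      rw [show bv F (r + 1) 0 = Pi.single 0 1 from bv_eq_single (0 : Fin (r + 1))]; simp
    simp [ht, vecMulVec_mulVec, this]
  have hS : ∀ j, (t * D - 1) (bv F (r + 1) (j + 1)) = bv F (r + 1) (j + 2) := fun j ↦ by
    simp [hDb, htx, bv_apply]
  have hS0 : (t * D - 1) (bv F (r + 1) 0) = bv F (r + 1) 1 + bv F (r + 1) r := by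
    simp [hDb, htx, bv_apply]; abel
  have hSk : ∀ k j, ((t * D - 1) ^ k) (bv F (r + 1) (j + 1)) = bv F (r + 1) (j + 1 + k) := by
    intro k
    induction k with
    | zero => simp
    | succ k ih => intro j; rw [pow_succ, End.mul_apply, hS, ih]; congr 1; omega
  have hSl : ∀ k : ℕ, ((t * D - 1) ^ (k + 1)) (bv F (r + 1) r) = 0 := fun k ↦ by
    have := hSk (k + 1) (r - 1)
    rwa [show r - 1 + 1 = r by omega, bv_of_le (j := r + (k + 1)) (by omega)] at this
  have := exists_prod_of_cyc (g := t) (D := D) (u := bv F (r + 1) 0) (w := bv F (r + 1) 0)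
    (eq_top_of_jor (self_mem_cyc _ _) fun x hx ↦ apply_mem_cyc hx) ?_ ?_ ?_
  · rwa [ht, LinearMap.toMatrix'_toLin'] at this
  · have hm : ∀ x ∈ cyc (t * D) (bv F (r + 1) 0), (t * D - 1) x ∈ cyc (t * D) (bv F (r + 1) 0) :=
      fun x hx ↦ Submodule.sub_mem _ (apply_mem_cyc hx) hx
    have h1 := hm _ (self_mem_cyc _ _)
    rw [hS0] at h1
    have h2 : ∀ j, bv F (r + 1) (j + 2) ∈ cyc (t * D) (bv F (r + 1) 0) := by
      intro j
      induction j with
      | zero =>
        have := hm _ h1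
        rwa [map_add, hS 0, show (t * D - 1) (bv F (r + 1) r) = 0 by simpa using hSl 0,
          add_zero] at this
      | succ j ih => simpa only [hS] using hm _ ih
    refine cyc_top_of_bv fun j ↦ ?_
    match j with
    | 0 => exact self_mem_cyc _ _
    | 1 =>
      have := h2 (r - 2)
      rw [show r - 2 + 2 = r by omega] at this
      simpa using Submodule.sub_mem _ h1 this
    | j + 2 => exact h2 j
  · rw [hD, map_add, toLin'_one, ← End.one_eq_id, add_sub_cancel_left, ← toLin'_pow, sh_pow_self,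
      map_zero]
  · refine (Pi.basisFun F (Fin (r + 1))).ext fun j ↦ ?_
    rw [Pi.basisFun_apply, ← bv_eq_single, LinearMap.zero_apply]
    obtain ⟨j, hj⟩ := j
    rcases j with _ | j
    · have := hSl (r - 1)
      rw [show r - 1 + 1 = r by omega] at this
      rw [pow_succ, End.mul_apply, hS0, map_add, hSk r 0, this, bv_of_le (by omega), add_zero]
    · rw [hSk, bv_of_le (by omega)]

/-- Lev's theorem for the regular unipotent class. -/
theorem lev_unipotent (h4 : ∀ a b c : F, ∃ x, x ≠ a ∧ x ≠ b ∧ x ≠ c) (hn : 3 ≤ n)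
    {g : Matrix (Fin n) (Fin n) F} (hg : g.det = 1) (hns : ∀ c : F, g ≠ c • 1) :
    ∃ x y : GL (Fin n) F, g = x.val * (1 + (sh F n)ᵀ) * (x⁻¹).val *
      (y.val * (1 + (sh F n)ᵀ) * (y⁻¹).val) := by
  obtain ⟨m, rfl⟩ : ∃ m, n = m + 1 + 2 := ⟨n - 3, by omega⟩
  rcases res_top h4 (fun V _ _ _ g v c r ↦ res_two_unip) (m := m) (g := toLin' g) (by simp)
    (by rwa [LinearMap.det_toLin']) (fun a e ↦ hns a (toLin'.injective (by
      rw [e, map_smul, toLin'_one]; rfl))) with
    ⟨c, r, D, ⟨u, h1⟩, ⟨w, h2⟩, h3, h4, -⟩ | ⟨u, ρ, hu, hρ, h0, h⟩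
  · rw [← pow_two, ← pow_add, aeval_unip] at h3 h4
    simpa using exists_prod_of_cyc h1 h2 h3 h4
  · let φ : Fin (m + 1 + 2) → F := fun j ↦ ρ (Pi.single j 1)
    have hφ : ∀ x, φ ⬝ᵥ x = ρ x := fun x ↦ by
      conv_rhs => rw [pi_eq_sum_univ' x]
      simp [φ, dotProduct, mul_comm]
    have e : g = 1 + vecMulVec u φ := toLin'.injective (LinearMap.ext fun x ↦ by
      rw [h]; simp [vecMulVec_mulVec, hφ])
    have d0 : bv F (m + 1 + 2) 0 ⬝ᵥ bv F (m + 1 + 2) (m + 1 + 2 - 1) = 0 := by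
      rw [show bv F (m + 1 + 2) 0 = Pi.single 0 1 from bv_eq_single (0 : Fin (m + 1 + 2))]
      simp [bv_apply]
    obtain ⟨k, hk⟩ := CL.GLn.exists_slConj_tv (v := bv F (m + 1 + 2) (m + 1 + 2 - 1))
      (φ := bv F (m + 1 + 2) 0) (w := u) (ψ := φ)
      (fun e ↦ by simpa [bv_apply] using congrFun e (Fin.last _))
      (fun e ↦ by simpa [bv_apply] using congrFun e 0) d0 hu
      (fun e ↦ hρ (LinearMap.ext fun x ↦ by simp [← hφ, e])) (by rwa [hφ])
    have hk' := congrArg Subtype.val hk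
    rw [CL.GLn.coe_slConj, CL.GLn.coe_tv d0, CL.GLn.coe_tv (by rwa [hφ]), ← e] at hk'
    obtain ⟨x, y, hxy⟩ := tv_prod (F := F) hn
    refine ⟨k * x, k * y, ?_⟩
    rw [← hk', hxy]
    simp only [Units.val_mul, _root_.mul_inv_rev, mul_assoc, Units.inv_mul_cancel_left]

end Matrices

end CL.SLn
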