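/-
The peeling induction for arbitrary (in particular very small) fields.
-/
import Cfsg.Agent.Cls.ProdLev

set_option autoImplicit false

namespace CL.SLn

open Module Polynomial

variable {F : Type*} [Field F]

section Step

variable {V : Type*} [AddCommGroup V] [Module F V]

theorem exists_dual_extend {S : Submodule F V} (φ : Dual F V) {x : V} (hx : x ∉ S) (s : F) :
    ∃ φ' : Dual F V, φ' x = s ∧ ∀ y ∈ S, φ' y = φ y := by
  obtain ⟨χ, h1, h2⟩ := exists_dual_of_notMem hx
  exact ⟨φ + (s - φ x) • χ, by simp [h1], fun y hy ↦ by simp [h2 y hy]⟩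

theorem mem_of_mem_sup_disjoint {C R U : Submodule F V} (h : Disjoint C R) (hU : U ≤ C) {x : V}
    (hx : x ∈ C) (hm : x ∈ U ⊔ R) : x ∈ U := by
  obtain ⟨y, hy, z, hz, e⟩ := Submodule.mem_sup.1 hm
  have : z = 0 := Submodule.disjoint_def.1 h z (by
    rw [eq_sub_of_add_eq' e]; exact C.sub_mem hx (hU hy)) hz
  rwa [← e, this, add_zero]

theorem exists_quadratic_vec {g : End F V} {v : V} {f : F[X]} (hf : f.Monic) (h2 : f.natDegree = 2)
    (h : aeval g f v = 0) : ∃ a b : F, g (g v) = a • g v + b • v := by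
  refine ⟨-f.coeff 1, -f.coeff 0, ?_⟩
  have h4 : f.coeff 2 = 1 := by rw [← h2]; exact hf
  rw [aeval_eq_sum_range, h2] at h
  simp only [Finset.sum_range_succ, Finset.range_zero, Finset.sum_empty, h4, pow_succ,
    pow_zero, one_mul, zero_add, one_smul, LinearMap.add_apply, LinearMap.smul_apply,
    End.mul_apply, End.one_apply] at h
  linear_combination (norm := module) h

theorem exists_cubic_vec {g : End F V} {v : V} {f : F[X]} (hf : f.Monic) (h3 : f.natDegree = 3)
    (h : aeval g f v = 0) : ∃ a b c : F, g (g (g v)) = a • g (g v) + b • g v + c • v := by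
  refine ⟨-f.coeff 2, -f.coeff 1, -f.coeff 0, ?_⟩
  have h4 : f.coeff 3 = 1 := by rw [← h3]; exact hf
  rw [aeval_eq_sum_range, h3] at h
  simp only [Finset.sum_range_succ, Finset.range_zero, Finset.sum_empty, h4, pow_succ,
    pow_zero, one_mul, zero_add, one_smul, LinearMap.add_apply, LinearMap.smul_apply,
    End.mul_apply, End.one_apply] at h
  linear_combination (norm := module) h

theorem mem_cyc_of_cubic {g : End F V} {a b c : F} {v : V}
    (h : g (g (g v)) = a • g (g v) + b • g v + c • v) {x : V} (hx : x ∈ cyc g v) :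
    ∃ s t u : F, s • v + t • g v + u • g (g v) = x := by
  refine Submodule.mem_span_triple.1 (cyc_le (W := Submodule.span F {v, g v, g (g v)})
    (Submodule.subset_span (by simp)) (fun y hy ↦ ?_) hx)
  obtain ⟨s, t, u, rfl⟩ := Submodule.mem_span_triple.1 hy
  exact Submodule.mem_span_triple.2 ⟨u * c, s + u * b, t + u * a, by
    rw [map_add, map_add, map_smul, map_smul, map_smul, h]; module⟩

variable [FiniteDimensional F V]

theorem exists_dual_vals {g : End F V} {v : V} (hd : 3 ≤ finrank F (cyc g v)) (s : F) :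
    ∃ φ : Dual F V, φ v = 1 ∧ φ (g v) = 1 ∧ φ (g (g v)) = s := by
  obtain ⟨φ, h0, h1, -⟩ := exists_dual_base (by omega : 2 ≤ finrank F (cyc g v))
    (ne_smul_sub (by omega))
  obtain ⟨φ', h2, h3⟩ := exists_dual_extend (S := Submodule.span F {v, g v}) φ (x := g (g v))
    (fun h ↦ by
      obtain ⟨a, b, e⟩ := Submodule.mem_span_pair.1 h
      have := cyc_indep_three hd (a := a) (b := b) (c := -1)
        (by linear_combination (norm := module) e)
      simp at this) s
  exact ⟨φ', by rw [h3 _ (Submodule.subset_span (by simp)), h0],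
    by rw [h3 _ (Submodule.subset_span (by simp)), h1], h2⟩

/-- The state of the induction. -/
structure PeelSt (g : End F V) (v c : V) (r : Dual F V) (R : Submodule F V) : Prop where
  det : LinearMap.det g = 1
  compl : IsCompl (cyc g v) R
  inv : ∀ x ∈ R, g x ∈ R
  rv : r v ≠ 0
  cmem : c ∈ cyc g v
  two : 2 ≤ finrank F (cyc g v)
  noFix : ∀ x ∈ R, g x = x → ∃ y ∈ R, g y - y = x
  big : 3 ≤ finrank F (cyc g v) ∨ ∀ β : F, ∃ x ∈ R, g x ≠ β • x
  typ : (∃ a b : F, a + b ≠ 0 ∧ c = a • v + b • g v) ∨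
    (∀ a b e : F, a • v + b • g v + e • g (g v) ≠ c) ∨
    (finrank F (cyc g v) = 3 ∧ c ≠ 0 ∧ ∃ μ : F, g c = μ • c)

omit [FiniteDimensional F V] in
theorem noFix_of_sup {g : End F V} {R W R' : Submodule F V} (hW : ∀ x ∈ W, g x ∈ W)
    (hR' : ∀ x ∈ R', g x ∈ R') (hd : Disjoint W R') (hs : W ⊔ R' = R)
    (h : ∀ x ∈ R, g x = x → ∃ y ∈ R, g y - y = x) : ∀ x ∈ R', g x = x → ∃ y ∈ R', g y - y = x := by
  intro x hx e
  obtain ⟨y, hy, e'⟩ := h x (hs ▸ Submodule.mem_sup_right hx) e
  obtain ⟨a, ha, b, hb, rfl⟩ := Submodule.mem_sup.1 (hs ▸ hy)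
  have : g a - a = 0 := Submodule.disjoint_def.1 hd _ (W.sub_mem (hW a ha) ha) (by
    rw [show g a - a = x - (g b - b) by rw [← e', map_add]; abel]
    exact R'.sub_mem hx (R'.sub_mem (hR' b hb) hb))
  exact ⟨b, hb, by rw [← e', map_add]; linear_combination (norm := module) -this⟩

theorem PeelSt.glue {g : End F V} {v c : V} {r : Dual F V} {R : Submodule F V}
    (h : PeelSt g v c r R) (hR0 : R ≠ ⊥) :
    ∃ (φ : Dual F V) (h0 : φ v = 1) (h1 : φ (g v) = 1), φ c ≠ 0 ∧ ∃ v' R',
      PeelSt (red h1) v' (kprj h0 (g v)) (φ ∘ₗ g ∘ₗ (LinearMap.ker φ).subtype) R' ∧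
        3 ≤ finrank F (cyc (red h1) v') := by
  obtain ⟨hg, hC, hR, hr, hc, hd, hP, hQ, hT⟩ := h
  have hc' : ∀ a : F, a • (g v - v) ≠ c := by
    intro a e
    rcases hT with ⟨s, t, h1, h2⟩ | h1 | ⟨h1, h2, μ, h3⟩
    · have := cyc_indep_two hd (a := s + a) (b := t - a)
        (by linear_combination (norm := module) -h2 - e)
      exact h1 (by linear_combination this.1 + this.2)
    · exact h1 (-a) a 0 (by linear_combination (norm := module) e)
    · have := cyc_indep_three h1.ge (a := μ * a) (b := -a - μ * a) (c := a) (by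
        rw [← e, map_smul, map_sub] at h3; linear_combination (norm := module) h3)
      exact h2 (by rw [← e, this.2.2, zero_smul])
  obtain ⟨w, f, ψ, R', hw, hf, hk, hfd, hfR, b1, b2, b3, b4, b5, b6, b7⟩ :=
    exists_summand (inj_of_det hg) hC.disjoint hR hR0
  obtain ⟨φ₀, c0, hS, c1⟩ := exists_dual_one
    (notMem_span_sup hC.disjoint (self_mem_cyc g v) (ne_smul_sub hd))
    (notMem_span_sup hC.disjoint hc hc')
  have c2 : φ₀ (g v) = 1 := by
    have := hS _ (Submodule.mem_sup_left (Submodule.mem_span_singleton_self _))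
    rwa [map_sub, c0, sub_eq_zero] at this
  have hRR : R' ≤ R := b7 ▸ le_sup_right
  have eC : ∀ x ∈ cyc g v, (φ₀ + ψ) x = φ₀ x := fun x hx ↦ by simp [b1 x hx]
  have eR : ∀ x ∈ R, (φ₀ + ψ) x = ψ x := fun x hx ↦ by simp [hS x (Submodule.mem_sup_right hx)]
  have hpow : ∀ i, (g ^ i) w ∈ R := fun i ↦ by simpa using aeval_mem hR (X ^ i) hw
  generalize φ₀ + ψ = φ at eC eR
  have h0 : φ v = 1 := by rw [eC _ (self_mem_cyc _ _), c0]
  have h1 : φ (g v) = 1 := by rw [eC _ (apply_mem_cyc (self_mem_cyc _ _)), c2]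
  obtain ⟨d1, d2, d3, d4, d5, d6⟩ := glue_step h0 h1 hC hf hk hfd (hfR w hw)
    (fun i hi hi' ↦ by rw [eR _ (hpow i), b2 i hi hi']) (by rw [eR _ (hpow _), b3]) b4
    (fun x hx ↦ by rw [eR _ (hRR hx), b5 x hx]) b6 b7
  have d7 : ∀ x ∈ R'.comap (LinearMap.ker φ).subtype,
      red h1 x ∈ R'.comap (LinearMap.ker φ).subtype := fun x hx ↦ by
    change (red h1 x : V) ∈ R'
    rw [d2 x hx]; exact b4 _ hx
  have d8 : ∀ x ∈ R'.comap (LinearMap.ker φ).subtype, red h1 x = x →
      ∃ y ∈ R'.comap (LinearMap.ker φ).subtype, red h1 y - y = x := by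
    intro x hx e
    obtain ⟨y, hy, e'⟩ := noFix_of_sup (fun _ ↦ apply_mem_cyc) b4 b6 b7 hP x hx
      ((d2 x hx).symm.trans (congrArg Subtype.val e))
    have hy' : y ∈ LinearMap.ker φ := by rw [LinearMap.mem_ker, eR _ (hRR hy), b5 y hy]
    exact ⟨⟨y, hy'⟩, hy, Subtype.ext (by rw [Submodule.coe_sub, d2 ⟨y, hy'⟩ hy]; exact e')⟩
  have hdet : LinearMap.det (red h1) = 1 := by rwa [det_red h0]
  have hcm : kprj h0 (g v) ∈ cyc (red h1) (kprj h0 w) := by
    rw [d4]; exact Submodule.neg_mem _ (aeval_mem_cyc _ _ _)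
  refine ⟨φ, h0, h1, by rwa [eC c hc], ?_⟩
  rcases hk.eq_or_lt with hk1 | hk2
  · obtain ⟨β, rfl⟩ : ∃ β, f = X - C β := ⟨-f.coeff 0, by
      rw [map_neg, sub_neg_eq_add]; exact hf.eq_X_add_C hk1.symm⟩
    have hβ : ∀ x ∈ R, g x = β • x := fun x hx ↦ by
      simpa [Algebra.algebraMap_eq_smul_one, sub_eq_zero] using hfR x hx
    have hφw : β * φ w = 1 := by simpa using d5
    have hφg : φ (g w) = 1 := by rw [hβ w hw, map_smul, smul_eq_mul, hφw]
    rw [natDegree_X_sub_C] at d3
    have hβ1 : β ≠ 1 := by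
      rintro rfl
      obtain ⟨y, hy, e⟩ := hP w hw (by simpa using hβ w hw)
      rw [hβ y hy, one_smul, sub_self] at e
      simp [← e] at hφw
    have h3 : 3 ≤ finrank F (cyc g v) := hQ.resolve_right fun h ↦ by
      obtain ⟨x, hx, e⟩ := h β
      exact e (hβ x hx)
    refine ⟨kprj h0 w, _, ⟨hdet, d1, d7, ?_, hcm, by omega, d8, Or.inl (by omega),
      Or.inl ⟨β, -1, by rwa [← sub_eq_add_neg, sub_ne_zero], ?_⟩⟩, by omega⟩
    · simp only [LinearMap.comp_apply, Submodule.subtype_apply, coe_kprj, map_sub, map_smul, hφg,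
        h1, smul_eq_mul, mul_one]
      exact fun e ↦ hβ1 (by linear_combination hφw + β * e)
    · rw [d4]; simp [Algebra.algebraMap_eq_smul_one, sub_eq_add_neg]
  have hgw : φ (g w) = 0 := by simpa [eR _ (hR w hw)] using b2 1 le_rfl hk2
  have hφw : φ w ≠ 0 := fun e ↦ by simp [e] at d5
  have hrw : (φ ∘ₗ g ∘ₗ (LinearMap.ker φ).subtype) (kprj h0 w) ≠ 0 := by
    simpa [coe_kprj, hgw, h1] using hφw
  by_cases hk3 : 3 ≤ f.natDegree
  · refine ⟨kprj h0 w, _, ⟨hdet, d1, d7, hrw, hcm, by omega, d8, Or.inl (by omega),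
      Or.inr (Or.inl fun a b e he ↦ ?_)⟩, by omega⟩
    have hm : (f + (C e * X ^ 2 + C b * X + C a)).Monic :=
      hf.add_of_left (lt_of_le_of_lt degree_quadratic_le (by
        rw [degree_eq_natDegree hf.ne_zero]; exact_mod_cast hk3))
    refine hm.ne_zero (eq_zero_of_aeval (g := red h1) (v := kprj h0 w) ?_ ?_)
    · rw [d4] at he
      simp only [map_add, map_mul, aeval_C, aeval_X, Algebra.algebraMap_eq_smul_one, pow_two,
        LinearMap.add_apply, End.mul_apply, LinearMap.smul_apply, End.one_apply]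
      linear_combination (norm := module) he
    · rw [natDegree_add_eq_left_of_natDegree_lt (lt_of_le_of_lt natDegree_quadratic_le hk3)]
      omega
  have hk2' : f.natDegree = 2 := by omega
  by_cases h3 : 3 ≤ finrank F (cyc g v)
  · have hca := cyc_apply (inj_of_det hdet) (kprj h0 w)
    refine ⟨red h1 (kprj h0 w), _, ⟨hdet, by rwa [hca], d7, ?_, by rwa [hca], by rw [hca]; omega, d8,
      Or.inl (by rw [hca]; omega), Or.inr (Or.inl fun a b e he ↦ ?_)⟩, by rw [hca]; omega⟩
    · have : φ (g (g w)) = 1 := by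
        rw [eR _ (hR _ (hR w hw))]; simpa [hk2', pow_two] using b3
      simp [d6, hgw, this]
    · have := eq_zero_of_aeval (g := red h1) (v := kprj h0 w)
        (p := f + X * (C e * X ^ 2 + C b * X + C a)) (by
          rw [d4] at he
          simp only [map_add, map_mul, aeval_C, aeval_X, Algebra.algebraMap_eq_smul_one, pow_two,
            LinearMap.add_apply, End.mul_apply, LinearMap.smul_apply, End.one_apply, map_smul]
          linear_combination (norm := module) he) (by
          refine lt_of_le_of_lt (natDegree_add_le_of_degree_le (n := 3) (by omega)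
            (natDegree_mul_le.trans ?_)) (by omega)
          have := natDegree_quadratic_le (a := e) (b := b) (c := a)
          rw [natDegree_X]; omega)
      have h5 : f.coeff 0 = 0 := by simpa using congrArg (coeff · 0) this
      simp [h5] at d5
  · refine ⟨kprj h0 w, _, ⟨hdet, d1, d7, hrw, hcm, by omega, d8, Or.inl (by omega),
      Or.inr (Or.inr ⟨by omega, kprj_ne_zero hd h0 h1, ?_⟩)⟩, by omega⟩
    obtain ⟨f', hf', e1, e2⟩ := exists_order g v
    obtain ⟨a, b, hab⟩ := exists_quadratic_vec hf' (by omega) ((e2 f').2 dvd_rfl)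
    refine ⟨-b, Subtype.ext ?_⟩
    simp only [coe_red, coe_kprj, h1, h0, one_smul, map_sub, hab, map_add, map_smul, smul_eq_mul,
      Submodule.coe_smul]
    module

end Step

universe u

/-- The peeling induction over an arbitrary field. -/
theorem res_of_peelSt {t : F} (ht : ∀ μ : F, μ * μ - t * μ + 1 ≠ 0) {P : F[X]} {Δ : F[X] → F}
    (base : ∀ (V : Type u) [AddCommGroup V] [Module F V] [FiniteDimensional F V] (g : End F V)
      (c : V) (r : Dual F V), finrank F V = 2 → (∀ x, g (g x) = t • g x - x) → Res 1 P Δ g c r)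
    (m : ℕ) : ∀ (V : Type u) [AddCommGroup V] [Module F V] [FiniteDimensional F V] (g : End F V)
      (v c : V) (r : Dual F V) (R : Submodule F V), finrank F V = m + 3 → PeelSt g v c r R →
      Res 1 ((X - C 1) ^ (m + 1) * P) (fun u ↦ u.eval 1 ^ (m + 1) * Δ u) g c r := by
  induction m with
  | zero =>
    intro V _ _ _ g v c r R hV h
    by_cases hR0 : R = ⊥
    swap
    · obtain ⟨φ, h0, h1, -, v', R', -, h3⟩ := h.glue hR0
      have := Submodule.finrank_le (cyc (red h1) v')
      have := finrank_ker_add_one h0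
      omega
    subst hR0
    have htop : cyc g v = ⊤ := by simpa using h.compl.sup_eq_top
    have h3 : finrank F (cyc g v) = 3 := by rw [htop, finrank_top, hV]
    obtain ⟨f, hf, e1, e2⟩ := exists_order g v
    obtain ⟨a₂, a₁, a₀, ha⟩ := exists_cubic_vec hf (by omega) ((e2 f).2 dvd_rfl)
    obtain ⟨φ, h0, h1, h2⟩ := exists_dual_vals h3.ge (a₂ - t)
    have hdim : finrank F (LinearMap.ker φ) = 2 := by have := finrank_ker_add_one h0; omega
    obtain ⟨τ, hτ⟩ := exists_ch_two (g := red h1) hdim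
    rw [det_red h0, h.det] at hτ
    obtain ⟨k1, -, k2⟩ := cyc_indep_three h3.ge (a := a₀ - 1)
      (b := a₁ - φ (g (g (g v)) - (a₂ - t) • g (g v)) + τ * (a₂ - t) + 1) (c := t - τ) (by
        have := congrArg Subtype.val (hτ (kprj h0 (g v)))
        have e : (red h1 (kprj h0 (g v)) : V) = g (g v) - (a₂ - t) • g v := by
          simp only [coe_red, coe_kprj, h1, one_smul, map_sub, h2]; module
        rw [coe_red, Submodule.coe_sub, Submodule.coe_smul, Submodule.coe_smul, e, coe_kprj, h1,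
          map_sub, map_smul] at this
        linear_combination (norm := module) this - ha)
    have hφ : φ c ≠ 0 := by
      obtain ⟨p₀, p₁, p₂, hp⟩ := mem_cyc_of_cubic ha h.cmem
      rcases h.typ with ⟨a, b, k3, k4⟩ | k3 | ⟨-, k3, μ, k4⟩
      · simpa [k4, h0, h1] using k3
      · exact absurd hp (k3 _ _ _)
      · intro e
        obtain ⟨l1, l2, l3⟩ := cyc_indep_three h3.ge (a := p₂ * a₀ - μ * p₀)
          (b := p₀ + p₂ * a₁ - μ * p₁) (c := p₁ + p₂ * a₂ - μ * p₂) (by
            rw [← hp, map_add, map_add, map_smul, map_smul, map_smul, ha] at k4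
            linear_combination (norm := module) k4)
        simp only [← hp, map_add, map_smul, h0, h1, h2, smul_eq_mul] at e
        have l4 : p₂ = 0 := (mul_eq_zero.1 (show p₂ * (μ * μ - t * μ + 1) = 0 by
          linear_combination μ * e - μ * l3 + l1 - p₂ * k1)).resolve_right (ht μ)
        have l5 : p₁ = 0 := by simpa [l4] using l3
        have l6 : p₀ = 0 := by simpa [l4, l5] using l2
        exact k3 (by simp [← hp, l4, l5, l6])
    simpa using (base _ (red h1) _ _ hdim (by
      simpa [show t = τ by linear_combination k2] using hτ)).lift one_ne_zero h0 h1 hφ h.rv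
  | succ m ih =>
    intro V _ _ _ g v c r R hV h
    have fin : ∀ (φ : Dual F V) (h0 : φ v = 1) (h1 : φ (g v) = 1), φ c ≠ 0 → ∀ v' R',
        PeelSt (red h1) v' (kprj h0 (g v)) (φ ∘ₗ g ∘ₗ (LinearMap.ker φ).subtype) R' →
        Res 1 ((X - C 1) ^ (m + 1 + 1) * P) (fun u ↦ u.eval 1 ^ (m + 1 + 1) * Δ u) g c r := by
      intro φ h0 h1 hφ v' R' h'
      simpa only [pow_succ' _ (m + 1), mul_assoc] using
        (ih _ _ _ _ _ _ (by have := finrank_ker_add_one h0; omega) h').lift one_ne_zero h0 h1 hφ h.rv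
    by_cases hR0 : R = ⊥
    swap
    · obtain ⟨φ, h0, h1, hφ, v', R', h', -⟩ := h.glue hR0
      exact fin φ h0 h1 hφ v' R' h'
    subst hR0
    have htop : cyc g v = ⊤ := by simpa using h.compl.sup_eq_top
    have h3 : finrank F (cyc g v) = m + 1 + 3 := by rw [htop, finrank_top, hV]
    obtain ⟨φ, h0, h1, h2, hφ⟩ : ∃ φ : Dual F V, φ v = 1 ∧ φ (g v) = 1 ∧ φ (g (g v)) = 0 ∧
        φ c ≠ 0 := by
      obtain ⟨φ, h0, h1, h2⟩ := exists_dual_vals (g := g) (v := v) (by omega) 0
      rcases h.typ with ⟨a, b, k3, k4⟩ | k3 | ⟨k3, -⟩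
      · exact ⟨φ, h0, h1, h2, by simpa [k4, h0, h1] using k3⟩
      · obtain ⟨φ', k4, k5⟩ := exists_dual_extend (S := Submodule.span F {v, g v, g (g v)}) φ
          (x := c) (fun hm ↦ by
            obtain ⟨a, b, e, he⟩ := Submodule.mem_span_triple.1 hm
            exact k3 a b e he) 1
        exact ⟨φ', by rw [k5 _ (Submodule.subset_span (by simp)), h0],
          by rw [k5 _ (Submodule.subset_span (by simp)), h1],
          by rw [k5 _ (Submodule.subset_span (by simp)), h2], by simp [k4]⟩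
      · omega
    have ht := cyc_red_top h0 h1 htop
    have hd' : finrank F (cyc (red h1) (kprj h0 (g v))) = m + 3 := by
      rw [ht, finrank_top]; have := finrank_ker_add_one h0; omega
    exact fin φ h0 h1 hφ (kprj h0 (g v)) ⊥ ⟨(det_red h0 h1).trans h.det,
      by rw [ht]; exact isCompl_top_bot, by simp, by simp [coe_kprj, h1, h2], self_mem_cyc _ _,
      by omega, by simp, Or.inl (by omega), Or.inl ⟨1, 0, by simp, by simp⟩⟩

end CL.SLn
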