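/-
Commutators in `SL(V)`: direct sums, scalars, transvections and the consequences of `Res`.
-/
import Cfsg.Agent.Cls.ProdSmall
import Cfsg.Agent.Known.GLSim2

set_option autoImplicit false

namespace CL.SLn

open Module Polynomial

variable {F : Type*} [Field F]

section Comm

variable {V W : Type*} [AddCommGroup V] [Module F V] [AddCommGroup W] [Module F W]

/-- `g = a b a⁻¹ b⁻¹` with `det a = δ` and `det b = 1`. -/
def IsComm (δ : F) (g : End F V) : Prop :=
  ∃ a b : End F V, LinearMap.det a = δ ∧ LinearMap.det b = 1 ∧ ∀ x, g (b (a x)) = a (b x)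

theorem IsComm.of_equiv {δ : F} {g : End F V} {g' : End F W} (e : V ≃ₗ[F] W)
    (he : ∀ x, e (g x) = g' (e x)) (h : IsComm δ g) : IsComm δ g' := by
  obtain ⟨a, b, h1, h2, h3⟩ := h
  refine ⟨e.conj a, e.conj b, ?_, ?_, fun x ↦ ?_⟩
  · rw [LinearEquiv.conj_apply, LinearMap.comp_assoc, LinearMap.det_conj, h1]
  · rw [LinearEquiv.conj_apply, LinearMap.comp_assoc, LinearMap.det_conj, h2]
  · simp [LinearEquiv.conj_apply, ← he, h3]

variable [FiniteDimensional F V] [FiniteDimensional F W]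

theorem IsComm.prod {δ δ' : F} {g : End F V} {g' : End F W} (h : IsComm δ g) (h' : IsComm δ' g') :
    IsComm (δ * δ') (g.prodMap g' : End F (V × W)) := by
  obtain ⟨a, b, h1, h2, h3⟩ := h
  obtain ⟨a', b', h1', h2', h3'⟩ := h'
  exact ⟨a.prodMap a', b.prodMap b', by rw [LinearMap.det_prodMap, h1, h1'],
    by rw [LinearMap.det_prodMap, h2, h2', mul_one], fun x ↦ by simp [h3, h3']⟩

theorem IsComm.of_isCompl {δ δ' : F} {g : End F V} {A B : Submodule F V} (hAB : IsCompl A B)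
    (hA : ∀ x ∈ A, g x ∈ A) (hB : ∀ x ∈ B, g x ∈ B) (h : IsComm δ (g.restrict hA))
    (h' : IsComm δ' (g.restrict hB)) : IsComm (δ * δ') g :=
  (h.prod h').of_equiv (Submodule.prodEquivOfIsCompl A B hAB) fun x ↦ by simp

theorem det_of_isCompl {g : End F V} {A B : Submodule F V} (hAB : IsCompl A B)
    (hA : ∀ x ∈ A, g x ∈ A) (hB : ∀ x ∈ B, g x ∈ B) :
    LinearMap.det g = LinearMap.det (g.restrict hA) * LinearMap.det (g.restrict hB) := by
  rw [← LinearMap.det_prodMap]
  exact (CL.GLn.Sim.det ⟨Submodule.prodEquivOfIsCompl A B hAB, fun x ↦ by simp⟩).symm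

theorem Res.isComm {β : F} {P : F[X]} {Δ : F[X] → F} {g : End F V} {c : V} {r : Dual F V}
    (h : Res β P Δ g c r) (hP : P ≠ 0) (hd : P.natDegree = finrank F V) (hg : LinearMap.det g = 1)
    (h1 : Δ X = 1) (h2 : ∀ δ : F, δ ≠ 0 → ∃ u, Δ u = δ) {δ : F} (hδ : δ ≠ 0) : IsComm δ g := by
  obtain ⟨D, ⟨u₁, a1⟩, ⟨u₂, a2⟩, a3, a4, -, -, a5⟩ := h
  obtain ⟨e, he⟩ := exists_equiv_of_cyc a1 a2 hP a3 a4 hd hd
  have he0 : LinearMap.det (e : End F V) ≠ 0 := (LinearEquiv.isUnit_det' e).ne_zero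
  obtain ⟨u, hu⟩ := h2 _ (div_ne_zero hδ he0)
  refine ⟨aeval (g * D) u * e, D, by rw [map_mul, a5, hu, div_mul_cancel₀ _ he0], ?_, fun x ↦ ?_⟩
  · simpa [hg, h1] using a5 X
  · simp only [End.mul_apply, LinearEquiv.coe_coe, he]
    exact (aeval_comm_apply (g * D) u (e x)).symm

theorem isComm_tv (h3 : 3 ≤ finrank F V) {g : End F V} {u : V} {ρ : Dual F V} (hρ : ρ ≠ 0)
    (h0 : ρ u = 0) (h : ∀ x, g x = x + ρ x • u) : IsComm 1 g := by
  obtain ⟨z, hz⟩ : ∃ z, ρ z = 1 := by
    obtain ⟨z, hz⟩ := DFunLike.ne_iff.1 hρ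
    exact ⟨(ρ z)⁻¹ • z, by simp [show ρ z ≠ 0 from hz]⟩
  obtain ⟨y, hy, hy'⟩ : ∃ y ∈ LinearMap.ker ρ, y ∉ Submodule.span F {u} := by
    by_contra hcon
    push Not at hcon
    have a1 := Submodule.finrank_mono (show LinearMap.ker ρ ≤ Submodule.span F {u} from hcon)
    have a2 := finrank_ker_add_one hz
    have a3 := finrank_span_le_card (R := F) ({u} : Set V)
    simp only [Set.toFinset_singleton, Finset.card_singleton] at a3
    omega
  obtain ⟨χ, h1, h2⟩ := exists_dual_of_notMem hy'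
  have h4 := h2 u (Submodule.mem_span_singleton_self u)
  have h5 : ρ y = 0 := hy
  refine ⟨LinearMap.transvection χ u, LinearMap.transvection ρ y, by simp [h4], by simp [h5],
    fun x ↦ ?_⟩
  simp only [h, LinearMap.transvection.apply, map_add, map_smul, h0, h1, h5, smul_eq_mul]
  module

theorem isComm_shift {ω δ : F} (k : ℕ) {B s : End F W} (hs : ∀ x, s (B x) = ω ^ (k + 1) • B (s x))
    (hB : ∏ j : Fin (k + 1), (ω ^ (j : ℕ)) ^ finrank F W * LinearMap.det B = 1)
    (hδ : LinearMap.det s * LinearMap.det (LinearEquiv.funCongrLeft F W (finRotate (k + 1)) :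
      End F (Fin (k + 1) → W)) = δ) : IsComm δ (ω • 1 : End F (Fin (k + 1) → W)) := by
  classical
  let d : Fin (k + 1) → End F W := fun j ↦ if j = 0 then s else 1
  refine ⟨(LinearEquiv.funCongrLeft F W (finRotate (k + 1)) : End F (Fin (k + 1) → W)) *
    LinearMap.pi fun j ↦ d j ∘ₗ LinearMap.proj j,
    LinearMap.pi fun j ↦ (ω ^ (j : ℕ) • B) ∘ₗ LinearMap.proj j, ?_, ?_, fun x ↦ ?_⟩
  · rw [map_mul, CL.GLn.det_pi_of_apply d (LinearMap.pi fun j ↦ d j ∘ₗ LinearMap.proj j)
      (fun _ _ ↦ rfl), ← hδ, mul_comm,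
      Finset.prod_eq_single 0 (fun j _ hj ↦ by simp [d, hj]) (by simp)]
    simp [d]
  · rw [CL.GLn.det_pi_of_apply (fun j : Fin (k + 1) ↦ ω ^ (j : ℕ) • B) _ (fun _ _ ↦ rfl), ← hB]
    simp [LinearMap.det_smul]
  · ext j
    change ω • ω ^ (j : ℕ) • B (d (finRotate _ j) (x (finRotate _ j))) =
      d (finRotate _ j) (ω ^ ((finRotate _ j : Fin (k + 1)) : ℕ) • B (x (finRotate _ j)))
    refine Fin.lastCases ?_ (fun j ↦ ?_) j
    · simp [d, hs, smul_smul, pow_succ']
    · rw [finRotate_apply, Fin.coeSucc_eq_succ]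
      simp [d, Fin.succ_ne_zero, smul_smul, pow_succ']

theorem exists_sq_sub_mul_sq [Finite F] {ζ : F} (hζ : ζ ≠ 0) (δ : F) :
    ∃ a b : F, a * a - ζ * (b * b) = δ := by
  have := Fintype.ofFinite F
  by_cases h2 : ringChar F = 2
  · obtain ⟨a, ha⟩ := FiniteField.isSquare_of_char_two h2 δ
    exact ⟨a, 0, by simp [ha]⟩
  · obtain ⟨a, b, h⟩ := FiniteField.exists_root_sum_quadratic (f := X ^ 2 - C δ)
      (g := C (-ζ) * X ^ 2) (degree_X_pow_sub_C (by norm_num) _)
      (degree_C_mul_X_pow 2 (neg_ne_zero.2 hζ)) (FiniteField.odd_card_of_char_ne_two h2)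
    exact ⟨a, b, by simp at h; linear_combination h⟩

/-- Scalars of determinant one are commutators. -/
theorem isComm_scalar [Finite F] {ω δ : F} (h0 : finrank F V ≠ 0) (hω : ω ^ finrank F V = 1) :
    IsComm δ (ω • 1 : End F V) := by
  have hu : ∀ (W : Type _) [AddCommGroup W] [Module F W] (k : ℕ),
      LinearMap.det (LinearEquiv.funCongrLeft F W (finRotate (k + 1)) :
        End F (Fin (k + 1) → W)) ≠ 0 := fun W _ _ k ↦ (LinearEquiv.isUnit_det' _).ne_zero
  have hω0 : ω ≠ 0 := by rintro rfl; simp [h0] at hω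
  rcases Nat.even_or_odd' (finrank F V) with ⟨h, hn | hn⟩
  · obtain ⟨k, rfl⟩ : ∃ k, h = k + 1 := ⟨h - 1, by omega⟩
    have hsum : ∏ j : Fin (k + 1), (ω ^ (j : ℕ)) ^ finrank F (Fin 2 → F) = (ω ^ (k + 1)) ^ k := by
      simp only [finrank_fintype_fun_eq_card, Fintype.card_fin, ← pow_mul]
      rw [Finset.prod_pow_eq_pow_sum, ← Finset.sum_mul, Fin.sum_univ_eq_sum_range (fun i ↦ i),
        Finset.sum_range_id_mul_two, Nat.add_sub_cancel]
    let e : (Fin (k + 1) → Fin 2 → F) ≃ₗ[F] V := LinearEquiv.ofFinrankEq _ _ (by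
      simp [finrank_pi_fintype, hn, mul_comm])
    refine IsComm.of_equiv e (fun x ↦ by simp) (g := ω • 1) ?_
    have hsq : ω ^ (k + 1) * ω ^ (k + 1) = 1 := by rw [← pow_add, ← two_mul, ← hn, hω]
    rcases mul_self_eq_one_iff.1 hsq with h1 | h1
    · obtain ⟨a, b, hab⟩ := exists_sq_sub_mul_sq (ζ := (-1 : F)) (by simp)
        (δ / LinearMap.det (LinearEquiv.funCongrLeft F (Fin 2 → F) (finRotate (k + 1)) :
          End F (Fin (k + 1) → Fin 2 → F)))
      refine isComm_shift k (B := Matrix.toLin' !![0, -1; 1, 0])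
        (s := Matrix.toLin' !![a, -b; b, a]) (fun x ↦ ?_) ?_ ?_
      · ext i; fin_cases i <;> simp [h1, Matrix.mulVec, dotProduct, Fin.sum_univ_two]; ring
      · rw [Finset.prod_mul_distrib, hsum, h1]; simp
      · rw [← eq_div_iff (hu _ k), ← hab]; simp
    · obtain ⟨a, b, hab⟩ := exists_sq_sub_mul_sq hω0
        (-(δ / LinearMap.det (LinearEquiv.funCongrLeft F (Fin 2 → F) (finRotate (k + 1)) :
          End F (Fin (k + 1) → Fin 2 → F))))
      refine isComm_shift k (B := Matrix.toLin' !![0, ω; 1, 0])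
        (s := Matrix.toLin' !![a, b * ω; -b, -a]) (fun x ↦ ?_) ?_ ?_
      · ext i; fin_cases i <;> simp [h1, Matrix.mulVec, dotProduct, Fin.sum_univ_two] <;> ring
      · rw [Finset.prod_mul_distrib, hsum, h1]
        simp only [LinearMap.det_toLin', Matrix.det_fin_two_of, Finset.prod_const, Finset.card_univ,
          Fintype.card_fin]
        rw [mul_zero, mul_one, zero_sub, neg_pow ω, h1, ← pow_succ, ← pow_add]
        exact Even.neg_one_pow ⟨k + 1, by ring⟩
      · rw [← eq_div_iff (hu _ k), ← neg_inj, ← hab]; simp; ring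
  · let e : (Fin (2 * h + 1) → F) ≃ₗ[F] V := LinearEquiv.ofFinrankEq _ _ (by simp [hn])
    refine IsComm.of_equiv e (fun x ↦ by simp) (g := ω • 1) ?_
    rw [hn] at hω
    refine isComm_shift (W := F) (2 * h) (B := 1) (s := (δ / LinearMap.det
      (LinearEquiv.funCongrLeft F F (finRotate (2 * h + 1)) : End F (Fin (2 * h + 1) → F))) • 1)
      (fun x ↦ by simp [hω]) ?_ (by simp [hu])
    simp only [finrank_self, pow_one, map_one, mul_one]
    have := Finset.sum_range_id_mul_two (2 * h + 1)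
    rw [Finset.prod_pow_eq_pow_sum, Fin.sum_univ_eq_sum_range (fun i ↦ i),
      show ∑ i ∈ Finset.range (2 * h + 1), i = (2 * h + 1) * h by
        rw [Nat.add_sub_cancel] at this; nlinarith, pow_mul, hω, one_pow]

theorem isComm_of_forall_eq [Finite F] {g : End F V} {R : Submodule F V} (hR : ∀ x ∈ R, g x ∈ R)
    {ω δ : F} (h : ∀ x ∈ R, g x = ω • x) (h0 : R ≠ ⊥) (hω : ω ^ finrank F R = 1) :
    IsComm δ (g.restrict hR) := by
  rw [show g.restrict hR = ω • 1 from LinearMap.ext fun x ↦ Subtype.ext (h x x.2)]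
  exact isComm_scalar (by rwa [Ne, Submodule.finrank_eq_zero]) hω

end Comm

section Two

variable {V : Type*} [AddCommGroup V] [Module F V] [FiniteDimensional F V]

/-- The companion matrix of `X² - t X + 1`. -/
noncomputable def cmp (t : F) : End F (Fin 2 → F) := Matrix.toLin' !![0, -1; 1, t]

theorem cmp_apply (t : F) (x : Fin 2 → F) : cmp t x = ![-x 1, x 0 + t * x 1] := by
  ext i; fin_cases i <;> simp [cmp, Matrix.mulVec, dotProduct, Fin.sum_univ_two]

/-- The polynomial `X² - t X + 1`. -/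
noncomputable def qp (t : F) : F[X] := C 1 * X ^ 2 + C (-t) * X + C 1

theorem natDegree_qp (t : F) : (qp t).natDegree = 2 := natDegree_quadratic one_ne_zero

theorem qp_ne_zero (t : F) : qp t ≠ 0 := fun h ↦ by simpa [h] using natDegree_qp t

theorem eval_qp (t a : F) : (qp t).eval a = a * a - t * a + 1 := by simp [qp]; ring

omit [FiniteDimensional F V] in
theorem aeval_qp {t : F} {T : End F V} : aeval T (qp t) = 0 ↔ ∀ x, T (T x) = t • T x - x := by
  rw [LinearMap.ext_iff]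
  refine forall_congr' fun x ↦ ?_
  simp only [qp, map_add, map_mul, aeval_C, aeval_X, Algebra.algebraMap_eq_smul_one, pow_two,
    LinearMap.add_apply, End.mul_apply, LinearMap.smul_apply, End.one_apply, LinearMap.zero_apply]
  exact ⟨fun h ↦ by linear_combination (norm := module) h,
    fun h ↦ by linear_combination (norm := module) h⟩

theorem cmp_cmp (t : F) (x : Fin 2 → F) : cmp t (cmp t x) = t • cmp t x - x := by
  ext i; fin_cases i <;> simp [cmp_apply] <;> ring

theorem cyc_top_of_two (h2 : finrank F V = 2) {T : End F V} {u : V} (h : ∀ a : F, a • u ≠ T u)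
    (hu : u ≠ 0) : cyc T u = ⊤ := by
  have hli : LinearIndependent F ![u, T u] := (LinearIndependent.pair_iff' hu).2 h
  rw [eq_top_iff, ← hli.span_eq_top_of_card_eq_finrank' (by simp [h2]), Submodule.span_le]
  rintro _ ⟨i, rfl⟩
  fin_cases i
  exacts [self_mem_cyc _ _, apply_mem_cyc (self_mem_cyc _ _)]

theorem cyc_cmp (t : F) : cyc (cmp t) ![1, 0] = ⊤ :=
  cyc_top_of_two (by simp) (fun a h ↦ by simpa [cmp_apply] using congrFun h 1)
    (fun h ↦ by simpa using congrFun h 0)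

theorem exists_equiv_cmp {t : F} (h2 : finrank F V = 2) {T : End F V} {u : V} (hu : cyc T u = ⊤)
    (h : ∀ x, T (T x) = t • T x - x) : ∃ e : V ≃ₗ[F] (Fin 2 → F), ∀ x, e (T x) = cmp t (e x) :=
  exists_equiv_of_cyc hu (cyc_cmp t) (qp_ne_zero t) (aeval_qp.2 h) (aeval_qp.2 (cmp_cmp t))
    (by rw [natDegree_qp, h2]) (by simp [natDegree_qp])

theorem exists_cyc_of_irred {t : F} (ht : ∀ μ : F, μ * μ - t * μ + 1 ≠ 0) (h2 : finrank F V = 2)
    {T : End F V} (h : ∀ x, T (T x) = t • T x - x) : ∃ u, cyc T u = ⊤ := by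
  have : Nontrivial V := nontrivial_of_finrank_eq_succ h2
  obtain ⟨u, hu⟩ := exists_ne (0 : V)
  exact ⟨u, cyc_top_of_two h2 (fun a e ↦ hu (inj_of_eval_ne_zero (aeval_qp.2 h)
    (by rw [eval_qp]; exact ht a) u e.symm)) hu⟩

theorem res_of_irred {t : F} (ht : ∀ μ : F, μ * μ - t * μ + 1 ≠ 0) (h2 : finrank F V = 2)
    {g D : End F V} (hD : ∀ x, D (D x) = t • D x - x)
    (hX : ∀ x, g (D (g (D x))) = t • g (D x) - x) (c : V) (r : Dual F V) :
    Res 1 (qp t) (fun u ↦ LinearMap.det (aeval (cmp t) u)) g c r := by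
  have h1 : (qp t).eval 1 ≠ 0 := by rw [eval_qp]; exact ht 1
  obtain ⟨u, hu⟩ := exists_cyc_of_irred ht h2 (T := g * D) hX
  exact ⟨D, exists_cyc_of_irred ht h2 hD, ⟨u, hu⟩, aeval_qp.2 hD, aeval_qp.2 hX,
    Or.inl (surj_of_inj (T := g * D) (inj_of_eval_ne_zero (aeval_qp.2 hX) h1)),
    Or.inl (inj_of_eval_ne_zero (aeval_qp.2 hD) h1),
    fun p ↦ (CL.GLn.Sim.aeval (exists_equiv_cmp h2 hu hX) p).det⟩

theorem exists_model (h2 : finrank F V = 2) (t : F) : ∃ T : End F V, LinearMap.det T = 1 ∧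
    (∀ x, T (T x) = t • T x - x) ∧ ∃ u, cyc T u = ⊤ := by
  let e : (Fin 2 → F) ≃ₗ[F] V := LinearEquiv.ofFinrankEq _ _ (by simp [h2])
  refine ⟨e.conj (cmp t), ?_, fun x ↦ by simp [LinearEquiv.conj_apply, cmp_cmp], e ![1, 0], ?_⟩
  · rw [LinearEquiv.conj_apply, LinearMap.comp_assoc, LinearMap.det_conj]; simp [cmp]
  · rw [← Submodule.comap_injective_of_surjective (f := (e : (Fin 2 → F) →ₗ[F] V)) e.surjective
      |>.eq_iff, Submodule.comap_top, ← cyc_cmp t]
    exact comap_cyc (e : (Fin 2 → F) →ₗ[F] V) e.injective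
      (fun x ↦ by simp [LinearEquiv.conj_apply]) _

theorem Res.one {β β' : F} {P : F[X]} {Δ : F[X] → F} {g : End F V} {c c' : V} {r r' : Dual F V}
    (h : Res β P Δ g c r) (hβ : P.eval β' ≠ 0) : Res β' P Δ 1 c' r' := by
  obtain ⟨D, -, h2, -, h4, -, -, h7⟩ := h
  exact ⟨g * D, h2, by rwa [one_mul], h4, by rwa [one_mul],
    Or.inl (surj_of_inj (T := g * D) (inj_of_eval_ne_zero h4 hβ)),
    Or.inl (inj_of_eval_ne_zero h4 hβ), by rwa [one_mul]⟩

/-- The base case over the field with two elements. -/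
theorem res_base_two (h : ∀ x : F, x = 0 ∨ x = 1) (h2 : finrank F V = 2) {g : End F V}
    (hg : ∀ x, g (g x) = (1 : F) • g x - x) (c : V) (r : Dual F V) :
    Res 1 (qp 1) (fun u ↦ LinearMap.det (aeval (cmp (1 : F)) u)) g c r := by
  have h3 : (2 : F) = 0 := (h 2).resolve_right fun e ↦ one_ne_zero (α := F) (by linear_combination e)
  refine res_of_irred (fun μ ↦ by rcases h μ with rfl | rfl <;> simp) h2 hg (fun x ↦ ?_) c r
  simp only [hg, map_sub, map_smul]
  linear_combination (norm := module) h3 • (x - g x)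

theorem no_root_three (h : ∀ x : F, x = 0 ∨ x = 1 ∨ x = -1) (h2 : (2 : F) ≠ 0) (μ : F) :
    μ * μ - 0 * μ + 1 ≠ 0 := by
  rcases h μ with rfl | rfl | rfl
  · simp
  · exact fun e ↦ h2 (by linear_combination e)
  · exact fun e ↦ h2 (by linear_combination e)

theorem three_eq_zero (h : ∀ x : F, x = 0 ∨ x = 1 ∨ x = -1) (h2 : (2 : F) ≠ 0) : (3 : F) = 0 := by
  rcases h 2 with e | e | e
  · exact absurd e h2
  · exact absurd (by linear_combination e) (one_ne_zero (α := F))
  · linear_combination e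

/-- The base case over the field with three elements. -/
theorem res_base_three (h : ∀ x : F, x = 0 ∨ x = 1 ∨ x = -1) (h2' : (2 : F) ≠ 0)
    (h2 : finrank F V = 2) {g : End F V} (hg : ∀ x, g (g x) = (0 : F) • g x - x) (c : V)
    (r : Dual F V) : Res 1 (qp 0) (fun u ↦ LinearMap.det (aeval (cmp (0 : F)) u)) g c r := by
  have h3 := three_eq_zero h h2'
  obtain ⟨u, hu⟩ := exists_cyc_of_irred (no_root_three h h2') h2 hg
  obtain ⟨e, he⟩ := exists_equiv_cmp h2 hu hg
  let D : End F (Fin 2 → F) := Matrix.toLin' !![1, 1; 1, -1]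
  have hD : ∀ x, D x = ![x 0 + x 1, x 0 - x 1] := fun x ↦ by
    ext i; fin_cases i <;> simp [D, Matrix.mulVec, dotProduct, Fin.sum_univ_two, sub_eq_add_neg]
  refine res_of_irred (no_root_three h h2') h2 (D := e.symm.conj D) (fun x ↦ e.injective ?_)
    (fun x ↦ e.injective ?_) c r
  · simp only [LinearEquiv.conj_apply, LinearMap.comp_apply, LinearEquiv.coe_coe,
      LinearEquiv.symm_symm, LinearEquiv.apply_symm_apply, hD, zero_smul, zero_sub, map_neg]
    ext i; fin_cases i <;> simp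
    · linear_combination e x 0 * h3
    · linear_combination e x 1 * h3
  · simp only [LinearEquiv.conj_apply, LinearMap.comp_apply, LinearEquiv.coe_coe, he, cmp_apply,
      LinearEquiv.symm_symm, LinearEquiv.apply_symm_apply, hD, zero_smul, zero_sub, map_neg]
    ext i; fin_cases i <;> simp
    · linear_combination e x 0 * h3
    · linear_combination e x 1 * h3

/-- `-J₂` over the field with three elements. -/
theorem isComm_neg_jordan (h3 : (3 : F) = 0) (h2 : finrank F V = 2) {g : End F V} {u : V}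
    (hu : cyc g u = ⊤) (hg : ∀ x, g (g x) = (-2 : F) • g x - x) : IsComm (-1) g := by
  obtain ⟨e, he⟩ := exists_equiv_cmp h2 hu hg
  refine IsComm.of_equiv e.symm (g := cmp (-2)) (fun x ↦ e.injective (by simp [he])) ?_
  refine ⟨Matrix.toLin' !![0, 1; 1, 0], Matrix.toLin' !![1, 0; -1, 1], by simp, by simp,
    fun x ↦ ?_⟩
  ext i
  fin_cases i <;> simp [cmp_apply, Matrix.mulVec, dotProduct, Fin.sum_univ_two]
  linear_combination (x 1 - x 0) * h3

end Two

end CL.SLn
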