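/-
Lev's covering number of `PSL_n(q)`: definitions and the interface statements.
-/
import Cfsg.Agent.Cls.ProdComm

set_option autoImplicit false

namespace CL.Lv

open Module Polynomial CL.SLn

section Defs

variable {F : Type*} [Field F] {V : Type*} [AddCommGroup V] [Module F V]

/-- The field has at least four elements. -/
def H4 (F : Type*) : Prop := ∀ a b c : F, ∃ x, x ≠ a ∧ x ≠ b ∧ x ≠ c

/-- `X` is conjugate to `A` by an element of determinant one. -/
def Cj (A X : End F V) : Prop := ∃ g : End F V, LinearMap.det g = 1 ∧ g * A = X * g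

/-- `X` is conjugate to `A`. -/
def Cg (A X : End F V) : Prop := ∃ g : End F V, LinearMap.det g ≠ 0 ∧ g * A = X * g

/-- The centraliser of `A` has all non-zero determinants. -/
def Donto (A : End F V) : Prop :=
  ∀ s : F, s ≠ 0 → ∃ z : End F V, LinearMap.det z = s ∧ z * A = A * z

/-- The split polynomial with roots `s`. -/
noncomputable def spl (s : Multiset F) : F[X] := (s.map fun a ↦ X - C a).prod

/-- `M` has a cyclic vector. -/
def Cyc (M : End F V) : Prop := ∃ v, cyc M v = ⊤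

/-- All eigenspaces have dimension at most one. -/
def E1 (M : End F V) : Prop :=
  ∀ (β : F) (x y : V), M x = β • x → M y = β • y → x ≠ 0 → ∃ a : F, y = a • x

/-- `M` is cyclic with non-zero eigenvalues `s`. -/
def SC (M : End F V) (s : Multiset F) : Prop :=
  Cyc M ∧ aeval M (spl s) = 0 ∧ s.card = finrank F V ∧ (0 : F) ∉ s

/-- Not a scalar. -/
def NSc (T : End F V) : Prop := ∀ c : F, T ≠ c • 1

/-- `T - κ` has rank at least two. -/
def Rk2 (T : End F V) (κ : F) : Prop := ∀ u : V, ∃ x : V, ∀ a : F, T x - κ • x ≠ a • u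

/-- No eigenvector. -/
def NoEig (A : End F V) : Prop := ∀ (c : F) (x : V), A x = c • x → x = 0

/-- `μ + u ⊗ φ`. -/
noncomputable def rk1 (μ : F) (u : V) (φ : Dual F V) : End F V := μ • 1 + φ.smulRight u

theorem rk1_apply (μ : F) (u : V) (φ : Dual F V) (x : V) : rk1 μ u φ x = μ • x + φ x • u := rfl

/-- `T` is a product of `N` elements satisfying `R`, without common `ν`-eigenvector when `np ν`. -/
def Tup (R : End F V → Prop) (N : ℕ) (T : End F V) (np : F → Prop) : Prop :=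
  ∃ L : List (End F V), L.length = N ∧ (∀ X ∈ L, R X) ∧ L.prod = T ∧
    ∀ ν, np ν → ∀ y : V, (∀ X ∈ L, X y = ν • y) → y = 0

/-- The map induced on a quotient. -/
def qm (A : End F V) (W : Submodule F V) (h : ∀ x ∈ W, A x ∈ W) : End F (V ⧸ W) := W.mapQ W A h

theorem qm_mk (A : End F V) (W : Submodule F V) (h : ∀ x ∈ W, A x ∈ W) (x : V) :
    qm A W h (W.mkQ x) = W.mkQ (A x) := rfl

/-- `wt [a₁, …, a_k] = a₁ ^ k * a₂ ^ (k - 1) * ⋯ * a_k`. -/
def wt : List F → F
  | [] => 1
  | a :: l => a ^ (l.length + 1) * wt l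

end Defs

universe u

variable (F : Type*) [Field F]

/-- Lev's induction for arbitrary split cyclic classes. -/
def ResS : Prop := H4 F → ∀ (V : Type u) [AddCommGroup V] [Module F V] [FiniteDimensional F V]
  (g : End F V) (v : V) (R : Submodule F V) (s t : Multiset F), 3 ≤ finrank F V →
  LinearMap.det g ≠ 0 → IsCompl (cyc g v) R → (∀ x ∈ R, g x ∈ R) → 2 ≤ finrank F (cyc g v) →
  (3 ≤ finrank F (cyc g v) ∨ ∀ β : F, ∃ x ∈ R, g x ≠ β • x) → s.card = finrank F V →
  t.card = finrank F V → (0 : F) ∉ s → (0 : F) ∉ t → LinearMap.det g * s.prod = t.prod →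
  ∃ D : End F V, SC D s ∧ SC (g * D) t

/-- Rank one update. -/
def RUS : Prop := ∀ (V : Type u) [AddCommGroup V] [Module F V] [FiniteDimensional F V]
  (B : End F V) (μ : F) (u : V) (φ : Dual F V) (P : F[X]), Cyc B → LinearMap.det B ≠ 0 → μ ≠ 0 →
  u ≠ 0 → φ ≠ 0 → P.Monic → P.natDegree = finrank F V →
  (-1) ^ finrank F V * P.eval 0 = LinearMap.det (rk1 μ u φ) * LinearMap.det B →
  (φ u ≠ 0 ∨ aeval (μ • B) P ≠ 0) →
  ∃ B', Cg B B' ∧ Cyc (rk1 μ u φ * B') ∧ aeval (rk1 μ u φ * B') P = 0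

/-- Lev's theorem on two split cyclic classes. -/
def T1S : Prop := H4 F → ∀ (V : Type u) [AddCommGroup V] [Module F V] [FiniteDimensional F V]
  (T D X : End F V) (s t : Multiset F), 3 ≤ finrank F V → NSc T → SC D s → SC X t →
  LinearMap.det T * s.prod = t.prod → ∃ D', Cg D D' ∧ Cg X (T * D')

/-- Pole placement: two cyclic classes multiply onto a split class with a simple eigenvalue. -/
def T5S : Prop := ∀ (V : Type u) [AddCommGroup V] [Module F V] [FiniteDimensional F V]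
  (A Y : End F V) (l : List F) (x : F), Cyc A → Cyc Y → LinearMap.det A ≠ 0 →
  LinearMap.det Y ≠ 0 → l.length + 1 = finrank F V → x ∉ l →
  l.prod * x = LinearMap.det A * LinearMap.det Y →
  ∃ X, Cg A X ∧ SC (X * Y) (x ::ₘ (l : Multiset F)) ∧
    (∀ (y : V) (ν a : F), y ≠ 0 → Y y = ν • y → X (Y y) = a • y → a = x) ∧
    (A = Y → ∃ g : End F V, LinearMap.det g * wt (l.map fun a ↦ -a) = 1 ∧ g * A = X * g)

/-- One cyclic block. -/
def BLS : Prop := H4 F → ∀ (V : Type u) [AddCommGroup V] [Module F V] [FiniteDimensional F V]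
  (A : End F V), Cyc A → LinearMap.det A ≠ 0 → 2 ≤ finrank F V →
  ∃ (X : End F V) (s : Multiset F) (x : F), x ∉ s ∧ SC (X * A) (x ::ₘ s) ∧ Cg A X ∧
    (4 ≤ finrank F V → Cj A X ∧ (LinearMap.det A ^ 2 = 1 →
      ∃ X', Cj A X' ∧ SC (X' * A) ((x ::ₘ s).map fun a ↦ a⁻¹)))

/-- Surjectivity of the norm. -/
def DNS : Prop := ∀ (V : Type u) [AddCommGroup V] [Module F V] [FiniteDimensional F V]
  (A : End F V), NoEig A → 1 ≤ finrank F V → finrank F V ≤ 3 → Cyc A ∧ Donto A

/-- Gluing the blocks. -/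
def T3S : Prop := H4 F → ∀ (V : Type u) [AddCommGroup V] [Module F V] [FiniteDimensional F V]
  (A : End F V) (a : V) (R : Submodule F V), LinearMap.det A ≠ 0 → IsCompl (cyc A a) R →
  (∀ x ∈ R, A x ∈ R) → (∀ c : F, ∀ x ∈ R, A x = c • x → x = 0) → 2 ≤ finrank F (cyc A a) →
  ∃ (X : End F V) (s : Multiset F), SC (X * A) s ∧ Cg A X ∧ (4 ≤ finrank F (cyc A a) → Cj A X)

/-- An extra factor. -/
def XFS : Prop := ∀ (V : Type u) [AddCommGroup V] [Module F V] [FiniteDimensional F V]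
  (A : End F V) (k N : ℕ), 3 ≤ finrank F V → LinearMap.det A ≠ 0 → NSc A → k < N →
  (∀ T, NSc T → LinearMap.det T = LinearMap.det A ^ k → Tup (Cj A) k T fun _ ↦ False) →
  ∀ T, LinearMap.det T = LinearMap.det A ^ N → Tup (Cj A) N T fun _ ↦ False

/-- The case where all blocks but the largest have no eigenvalue. -/
def ITS : Prop := H4 F → ∀ (V : Type u) [AddCommGroup V] [Module F V] [FiniteDimensional F V]
  (A : End F V) (a : V) (R : Submodule F V), 4 ≤ finrank F V → LinearMap.det A ≠ 0 →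
  IsCompl (cyc A a) R → (∀ x ∈ R, A x ∈ R) → (∀ c : F, ∀ x ∈ R, A x = c • x → x = 0) →
  (∀ x ∈ R, finrank F (cyc A x) ≤ finrank F (cyc A a)) →
  (∀ T, NSc T → LinearMap.det T = LinearMap.det A ^ finrank F V →
    Tup (Cj A) (finrank F V) T fun _ ↦ False) ∧
  (LinearMap.det A = 1 → (R = ⊥ ∨ 5 ≤ finrank F V) → Tup (Cj A) (finrank F V) 1 fun _ ↦ False)

/-- Non-split cyclic classes in dimension three. -/
def B3S : Prop := H4 F → ∀ (V : Type u) [AddCommGroup V] [Module F V] [FiniteDimensional F V]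
  (A T : End F V) (ν : F), finrank F V = 3 → Cyc A → LinearMap.det A ≠ 0 →
  (∀ s : Multiset F, aeval A (spl s) ≠ 0) → (∀ (c : F) (x : V), A x = c • x → x ≠ 0 → c = ν) →
  NSc T → LinearMap.det T = LinearMap.det A ^ 3 → Tup (Cg A) 3 T fun _ ↦ True

/-- Lifting a factorisation over an eigenline. -/
def AS1S : Prop := ∀ (V : Type u) [AddCommGroup V] [Module F V] [FiniteDimensional F V]
  (A S : End F V) (w : V) (l : F) (N : ℕ) (np : F → Prop)
  (hA : ∀ x ∈ Submodule.span F {w}, A x ∈ Submodule.span F {w})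
  (hS : ∀ x ∈ Submodule.span F {w}, S x ∈ Submodule.span F {w}), w ≠ 0 → l ≠ 0 → A w = l • w →
  S w = l ^ N • w → np l → Tup (Cg (qm A _ hA)) N (qm S _ hS) np →
  ∃ L : List (End F V), L.length = N ∧ (∀ X ∈ L, Cj A X) ∧ L.prod = S ∧
    ∀ ν, np ν → ∀ y : V, (∀ X ∈ L, X y = ν • y) → y ∈ Submodule.span F {w}

/-- Lifting a factorisation over a triangular invariant plane. -/
def AS2S : Prop := ∀ (V : Type u) [AddCommGroup V] [Module F V] [FiniteDimensional F V]
  (A S : End F V) (w₁ w₂ : V) (l m : F) (N : ℕ)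
  (hA : ∀ x ∈ Submodule.span F {w₁, w₂}, A x ∈ Submodule.span F {w₁, w₂})
  (hS : ∀ x ∈ Submodule.span F {w₁, w₂}, S x ∈ Submodule.span F {w₁, w₂}), l ≠ 0 → m ≠ 0 →
  A w₁ = l • w₁ → A w₂ - m • w₂ ∈ Submodule.span F {w₁} →
  (∀ x ∈ Submodule.span F {w₁, w₂}, S x = (A ^ N) x) →
  Tup (Cj (qm A _ hA)) N (qm S _ hS) (fun _ ↦ True) → Tup (Cj A) N S fun _ ↦ False

/-- The classes of rank at least two. -/
def GS : Prop := H4 F → ∀ (V : Type u) [AddCommGroup V] [Module F V] [FiniteDimensional F V]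
  (A T : End F V), 3 ≤ finrank F V → LinearMap.det A ≠ 0 → (∀ ν, Rk2 A ν) → NSc T →
  LinearMap.det T = LinearMap.det A ^ finrank F V → Tup (Cj A) (finrank F V) T fun _ ↦ True

/-- The classes of rank one. -/
def R1S : Prop := H4 F → ∀ (V : Type u) [AddCommGroup V] [Module F V] [FiniteDimensional F V]
  (T : End F V) (μ : F) (u : V) (φ : Dual F V), 3 ≤ finrank F V → u ≠ 0 → φ ≠ 0 →
  LinearMap.det (rk1 μ u φ) ≠ 0 → NSc T →
  LinearMap.det T = LinearMap.det (rk1 μ u φ) ^ finrank F V →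
  (φ u = 0 → Rk2 T (μ ^ finrank F V)) → Tup (Cj (rk1 μ u φ)) (finrank F V) T fun ν ↦ ν = μ

/-- Scalars as products, explicit cases: quadratic with distinct roots, square zero with a
summand, dimension four quadratic, dimension three cyclic, dimension four of type `(1, 3)`. -/
def ScES : Prop := H4 F → ∀ (V : Type u) [AddCommGroup V] [Module F V] [FiniteDimensional F V]
  (A : End F V), 3 ≤ finrank F V → LinearMap.det A = 1 →
  (∀ l m : F, l ≠ m → (∀ x, A (A x - l • x) = m • (A x - l • x)) →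
    Tup (Cj A) (finrank F V) 1 fun _ ↦ False) ∧
  (∀ (l s : F) (N : End F V), A = l • 1 + N → N * N = 0 → (∃ x, N x = 0 ∧ ∀ y, N y ≠ x) →
    Tup (Cj A) (finrank F V) (l ^ finrank F V • 1 + s • N) fun _ ↦ False) ∧
  (∀ (a b : V) (t d : F), finrank F V = 4 → LinearIndependent F ![a, A a, b, A b] →
    (∀ x, A (A x) = t • A x - d • x) → Tup (Cj A) (finrank F V) 1 fun _ ↦ False) ∧
  (finrank F V = 3 → Cyc A → Tup (Cj A) (finrank F V) 1 fun _ ↦ False) ∧
  (∀ (a e : V) (l : F), finrank F V = 4 → LinearIndependent F ![a, A a, A (A a), e] →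
    A e = l • e → A (A (A a)) ∈ Submodule.span F {a, A a, A (A a)} →
    Tup (Cj A) (finrank F V) 1 fun _ ↦ False)

/-- Scalars as products: peeling off a plane. -/
def P2S : Prop := H4 F → ∀ (V : Type u) [AddCommGroup V] [Module F V] [FiniteDimensional F V]
  (A : End F V) (a e : V) (R : Submodule F V) (l : F), 5 ≤ finrank F V → LinearMap.det A = 1 →
  IsCompl (cyc A a) R → (∀ x ∈ R, A x ∈ R) → 3 ≤ finrank F (cyc A a) →
  (∀ p : F[X], aeval A p a = 0 → aeval A p = 0) → e ∈ R → e ≠ 0 → A e = l • e →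
  Tup (Cj A) (finrank F V) 1 fun _ ↦ False

/-- Some scalar is a product of `n` conjugates. -/
def ScS : Prop := H4 F → ∀ (V : Type u) [AddCommGroup V] [Module F V] [FiniteDimensional F V]
  (A : End F V), 3 ≤ finrank F V → LinearMap.det A = 1 → NSc A →
  ∃ c : F, Tup (Cj A) (finrank F V) (c • 1) fun _ ↦ False

/-- The main theorem. -/
def MainS : Prop := H4 F → ∀ (V : Type u) [AddCommGroup V] [Module F V] [FiniteDimensional F V]
  (A T : End F V), 3 ≤ finrank F V → LinearMap.det A = 1 → NSc A → LinearMap.det T = 1 →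
  ∃ c : F, Tup (Cj A) (finrank F V) (c • T) fun _ ↦ False

end CL.Lv
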