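/-
Lev's covering number: elementary properties of conjugacy, tuples and split cyclic maps.
-/
import Cfsg.Agent.Cls.LvDefs
import Cfsg.Agent.Cls.ProdLev

set_option autoImplicit false

namespace CL.Lv

open Module Polynomial CL.SLn

variable {F : Type*} [Field F] {V : Type*} [AddCommGroup V] [Module F V]

section Tuples

theorem Tup.mono {R R' : End F V → Prop} {N : ℕ} {T : End F V} {np np' : F → Prop}
    (h : Tup R N T np) (hR : ∀ X, R X → R' X) (hn : ∀ ν, np' ν → np ν) : Tup R' N T np' := by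
  obtain ⟨L, h1, h2, h3, h4⟩ := h
  exact ⟨L, h1, fun X hX ↦ hR X (h2 X hX), h3, fun ν hν ↦ h4 ν (hn ν hν)⟩

theorem Tup.weak {R : End F V → Prop} {N : ℕ} {T : End F V} {np : F → Prop}
    (h : Tup R N T np) : Tup R N T fun _ ↦ False := h.mono (fun _ h ↦ h) fun _ h ↦ h.elim

theorem Tup.nil (R : End F V → Prop) : Tup R 0 1 fun _ ↦ False :=
  ⟨[], rfl, by simp, rfl, fun _ h ↦ h.elim⟩

theorem Tup.single {R : End F V → Prop} {X : End F V} (h : R X) : Tup R 1 X fun _ ↦ False :=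
  ⟨X :: [], rfl, by simpa using h, by simp, fun _ h ↦ h.elim⟩

theorem Tup.append {R : End F V → Prop} {N N' : ℕ} {T T' : End F V} {np np' : F → Prop}
    (h : Tup R N T np) (h' : Tup R N' T' np') : Tup R (N + N') (T * T') fun ν ↦ np ν ∨ np' ν := by
  obtain ⟨L, h1, h2, h3, h4⟩ := h
  obtain ⟨L', k1, k2, k3, k4⟩ := h'
  refine ⟨L ++ L', by simp [h1, k1], fun X hX ↦ (List.mem_append.1 hX).elim (h2 X) (k2 X),
    by rw [List.prod_append, h3, k3], fun ν hν y hy ↦ ?_⟩
  exact hν.elim (fun e ↦ h4 ν e y fun X hX ↦ hy X (List.mem_append_left _ hX))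
    fun e ↦ k4 ν e y fun X hX ↦ hy X (List.mem_append_right _ hX)

theorem Tup.mul {R : End F V → Prop} {N N' : ℕ} {T T' : End F V}
    (h : Tup R N T fun _ ↦ False) (h' : Tup R N' T' fun _ ↦ False) :
    Tup R (N + N') (T * T') fun _ ↦ False := (h.append h').weak

theorem Tup.snoc {R : End F V → Prop} {N : ℕ} {T X : End F V} {np : F → Prop}
    (h : Tup R N T np) (hX : R X) : Tup R (N + 1) (T * X) np :=
  (h.append (Tup.single hX)).mono (fun _ h ↦ h) fun _ h ↦ Or.inl h

theorem Tup.cons {R : End F V → Prop} {N : ℕ} {T X : End F V} {np : F → Prop}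
    (h : Tup R N T np) (hX : R X) : Tup R (N + 1) (X * T) np := by
  rw [add_comm]
  exact ((Tup.single hX).append h).mono (fun _ h ↦ h) fun _ h ↦ Or.inr h

/-- Substituting tuples for the factors. -/
theorem Tup.bind {R R' : End F V → Prop} {N k : ℕ} {T : End F V} {np : F → Prop}
    (h : Tup R N T np) (hR : ∀ X, R X → Tup R' k X fun _ ↦ False) :
    Tup R' (k * N) T fun _ ↦ False := by
  obtain ⟨L, rfl, h2, rfl, -⟩ := h
  induction L with
  | nil => exact Tup.nil R'
  | cons X L ih =>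
    rw [List.length_cons, mul_add, mul_one, add_comm, List.prod_cons]
    exact (hR X (h2 X (by simp))).mul (ih fun Y hY ↦ h2 Y (by simp [hY]))

theorem prod_map_conj {W : Type*} [AddCommGroup W] [Module F W] (e : V →ₗ[F] W) (e' : W →ₗ[F] V)
    (h1 : ∀ x, e (e' x) = x) (h2 : ∀ x, e' (e x) = x) (L : List (End F V)) :
    (L.map fun X ↦ (e ∘ₗ X ∘ₗ e' : End F W)).prod = e ∘ₗ L.prod ∘ₗ e' := by
  induction L with
  | nil => ext x; simp [h1]
  | cons X L ih => ext x; simp [ih, h2]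

/-- Transport of tuples. -/
theorem Tup.transport {W : Type*} [AddCommGroup W] [Module F W] {R : End F V → Prop}
    {R' : End F W → Prop} {N : ℕ} {T : End F V} {np : F → Prop} (h : Tup R N T np)
    (e : V →ₗ[F] W) (e' : W →ₗ[F] V) (h1 : ∀ x, e (e' x) = x) (h2 : ∀ x, e' (e x) = x)
    (hR : ∀ X, R X → R' (e ∘ₗ X ∘ₗ e')) : Tup R' N (e ∘ₗ T ∘ₗ e') np := by
  obtain ⟨L, k1, k2, k3, k4⟩ := h
  refine ⟨L.map fun X ↦ (e ∘ₗ X ∘ₗ e' : End F W), by simpa using k1, ?_,
    by rw [prod_map_conj e e' h1 h2, k3], fun ν hν y hy ↦ ?_⟩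
  · intro X hX
    obtain ⟨Y, hY, rfl⟩ := List.mem_map.1 hX
    exact hR Y (k2 Y hY)
  · have : e' y = 0 := k4 ν hν _ fun X hX ↦ by
      have := congrArg e' (hy _ (List.mem_map_of_mem hX))
      simpa [h2] using this
    rw [← h1 y, this, map_zero]

end Tuples

section Spl

theorem spl_monic (s : Multiset F) : (spl s).Monic := monic_multisetProd_X_sub_C s

theorem spl_ne_zero (s : Multiset F) : spl s ≠ 0 := (spl_monic s).ne_zero

theorem natDegree_spl (s : Multiset F) : (spl s).natDegree = s.card :=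
  natDegree_multiset_prod_X_sub_C_eq_card s

theorem spl_cons (a : F) (s : Multiset F) : spl (a ::ₘ s) = (X - C a) * spl s := by simp [spl]

theorem spl_add (s t : Multiset F) : spl (s + t) = spl s * spl t := by simp [spl]

theorem spl_zero : spl (0 : Multiset F) = 1 := rfl

theorem eval_spl_ne_zero {s : Multiset F} {a : F} : (spl s).eval a ≠ 0 ↔ a ∉ s := by
  induction s using Multiset.induction_on with
  | empty => simp [spl_zero]
  | cons b s ih => simp [spl_cons, sub_eq_zero, not_or, ← ih]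

theorem eval_zero_spl (s : Multiset F) : (-1) ^ s.card * (spl s).eval 0 = s.prod := by
  induction s using Multiset.induction_on with
  | empty => simp [spl_zero]
  | cons b s ih => simp [spl_cons, pow_succ, ← ih]; ring

theorem aeval_spl_cons (T : End F V) (a : F) (s : Multiset F) (x : V) :
    aeval T (spl (a ::ₘ s)) x = aeval T (spl s) (T x - a • x) := by
  rw [spl_cons, mul_comm]; simp [Algebra.algebraMap_eq_smul_one]

/-- A non-zero invariant subspace killed by a split polynomial contains an eigenvector. -/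
theorem exists_eig {T : End F V} {s : Multiset F} {U : Submodule F V} (hU : ∀ x ∈ U, T x ∈ U)
    {x : V} (hx : x ∈ U) (h0 : x ≠ 0) (h : aeval T (spl s) x = 0) :
    ∃ a ∈ s, ∃ y ∈ U, y ≠ 0 ∧ T y = a • y := by
  induction s using Multiset.induction_on generalizing x with
  | empty => exact absurd (by simpa [spl_zero] using h) h0
  | cons b s ih =>
    by_cases e : T x - b • x = 0
    · exact ⟨b, by simp, x, hx, h0, sub_eq_zero.1 e⟩
    · obtain ⟨a, ha, r⟩ := ih (U.sub_mem (hU x hx) (U.smul_mem _ hx)) e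
        (by rwa [aeval_spl_cons] at h)
      exact ⟨a, by simp [ha], r⟩

end Spl

variable [FiniteDimensional F V]

theorem exists_inv {A : End F V} (h : LinearMap.det A ≠ 0) : ∃ B, A * B = 1 ∧ B * A = 1 := by
  obtain ⟨u, rfl⟩ := (LinearMap.isUnit_iff_isUnit_det A).2 h.isUnit
  exact ⟨(u⁻¹).val, u.mul_inv, u.inv_mul⟩

theorem inj_of_det_ne {A : End F V} (h : LinearMap.det A ≠ 0) : Function.Injective A := by
  obtain ⟨B, -, hB⟩ := exists_inv h
  exact fun x y e ↦ by simpa [← End.mul_apply, hB] using congrArg B e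

theorem det_ne_of_inj {A : End F V} (h : ∀ x, A x = 0 → x = 0) : LinearMap.det A ≠ 0 :=
  ((LinearMap.isUnit_iff_isUnit_det A).1 ((LinearMap.isUnit_iff_ker_eq_bot A).2
    (LinearMap.ker_eq_bot'.2 h))).ne_zero

omit [FiniteDimensional F V] in
theorem det_mul_of_inv {A B : End F V} (h : A * B = 1) : LinearMap.det A * LinearMap.det B = 1 := by
  rw [← map_mul, h, map_one]

omit [FiniteDimensional F V] in
theorem eig_ne_zero {A : End F V} (h : Function.Injective A) {x : V} {c : F} (hx : x ≠ 0)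
    (e : A x = c • x) : c ≠ 0 := by
  rintro rfl
  exact hx (h (by simpa using e))

omit [FiniteDimensional F V] in
theorem Cj.cg {A X : End F V} (h : Cj A X) : Cg A X :=
  let ⟨g, h1, h2⟩ := h; ⟨g, h1 ▸ one_ne_zero, h2⟩

omit [FiniteDimensional F V] in
theorem Cj.refl (A : End F V) : Cj A A := ⟨1, map_one _, by simp⟩

omit [FiniteDimensional F V] in
theorem Cg.refl (A : End F V) : Cg A A := (Cj.refl A).cg

omit [FiniteDimensional F V] in
theorem Cj.trans {A X Y : End F V} (h : Cj A X) (h' : Cj X Y) : Cj A Y := by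
  obtain ⟨g, h1, h2⟩ := h
  obtain ⟨k, k1, k2⟩ := h'
  exact ⟨k * g, by rw [map_mul, h1, k1, one_mul], by rw [mul_assoc, h2, ← mul_assoc, k2, mul_assoc]⟩

omit [FiniteDimensional F V] in
theorem Cg.trans {A X Y : End F V} (h : Cg A X) (h' : Cg X Y) : Cg A Y := by
  obtain ⟨g, h1, h2⟩ := h
  obtain ⟨k, k1, k2⟩ := h'
  exact ⟨k * g, by rw [map_mul]; exact mul_ne_zero k1 h1,
    by rw [mul_assoc, h2, ← mul_assoc, k2, mul_assoc]⟩

/-- The conjugating element with its inverse. -/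
theorem Cg.exists_conj {A X : End F V} (h : Cg A X) :
    ∃ g g' : End F V, g * g' = 1 ∧ g' * g = 1 ∧ X = g * A * g' := by
  obtain ⟨g, h1, h2⟩ := h
  obtain ⟨g', k1, k2⟩ := exists_inv h1
  exact ⟨g, g', k1, k2, by rw [h2, mul_assoc, k1, mul_one]⟩

theorem Cj.exists_conj {A X : End F V} (h : Cj A X) :
    ∃ g g' : End F V, LinearMap.det g = 1 ∧ g * g' = 1 ∧ g' * g = 1 ∧ X = g * A * g' := by
  obtain ⟨g, h1, h2⟩ := h
  obtain ⟨g', k1, k2⟩ := exists_inv (h1 ▸ one_ne_zero : LinearMap.det g ≠ 0)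
  exact ⟨g, g', h1, k1, k2, by rw [h2, mul_assoc, k1, mul_one]⟩

omit [FiniteDimensional F V] in
theorem cg_conj (A : End F V) {g g' : End F V} (h : g' * g = 1) : Cg A (g * A * g') :=
  ⟨g, right_ne_zero_of_mul_eq_one (det_mul_of_inv h), by rw [mul_assoc _ g', h, mul_one]⟩

omit [FiniteDimensional F V] in
theorem cj_conj (A : End F V) {g g' : End F V} (hg : LinearMap.det g = 1) (h : g' * g = 1) :
    Cj A (g * A * g') := ⟨g, hg, by rw [mul_assoc _ g', h, mul_one]⟩

theorem Cg.symm {A X : End F V} (h : Cg A X) : Cg X A := by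
  obtain ⟨g, g', h1, h2, rfl⟩ := h.exists_conj
  refine ⟨g', right_ne_zero_of_mul_eq_one (det_mul_of_inv h1), ?_⟩
  rw [← mul_assoc, ← mul_assoc, h2, one_mul]

theorem Cj.symm {A X : End F V} (h : Cj A X) : Cj X A := by
  obtain ⟨g, g', h0, h1, h2, rfl⟩ := h.exists_conj
  refine ⟨g', by simpa [h0] using det_mul_of_inv h1, ?_⟩
  rw [← mul_assoc, ← mul_assoc, h2, one_mul]

omit [FiniteDimensional F V] in
theorem Cg.of_sim {A X : End F V} (h : CL.GLn.Sim A X) : Cg A X :=
  let ⟨e, he⟩ := h; ⟨e, e.isUnit_det'.ne_zero, LinearMap.ext he⟩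

theorem Cg.sim {A X : End F V} (h : Cg A X) : CL.GLn.Sim A X := by
  obtain ⟨g, h1, h2⟩ := h
  exact ⟨LinearEquiv.ofInjectiveEndo g (inj_of_det_ne h1), LinearMap.congr_fun h2⟩

omit [FiniteDimensional F V] in
theorem Cg.cj {A X : End F V} (h : Cg A X) (hD : Donto A) : Cj A X := by
  obtain ⟨g, h1, h2⟩ := h
  obtain ⟨z, k1, k2⟩ := hD _ (inv_ne_zero h1)
  exact ⟨g * z, by rw [map_mul, k1, mul_inv_cancel₀ h1],
    by rw [mul_assoc, k2, ← mul_assoc, h2, mul_assoc]⟩

omit [FiniteDimensional F V] in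
theorem Cg.det_eq {A X : End F V} (h : Cg A X) : LinearMap.det X = LinearMap.det A := by
  obtain ⟨g, h1, h2⟩ := h
  have := congrArg LinearMap.det h2
  rw [map_mul, map_mul, mul_comm] at this
  exact (mul_right_cancel₀ h1 this).symm

theorem Cg.aeval_zero {A X : End F V} (h : Cg A X) {P : F[X]} (hP : aeval A P = 0) :
    aeval X P = 0 := (h.sim.aeval_eq_zero_iff P).1 hP

theorem Cyc.of_surj {W : Type*} [AddCommGroup W] [Module F W] {A : End F V} {X : End F W}
    (h : Cyc A) (e : V →ₗ[F] W) (he : Function.Surjective e) (h' : ∀ x, e (A x) = X (e x)) :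
    Cyc X := by
  obtain ⟨v, hv⟩ := h
  refine ⟨e v, eq_top_iff.2 fun y _ ↦ ?_⟩
  obtain ⟨x, rfl⟩ := he y
  obtain ⟨p, rfl⟩ : x ∈ cyc A v := hv ▸ Submodule.mem_top
  exact ⟨p, (CL.GLn.aeval_intertwine e h' p v).symm⟩

theorem Cg.cyc {A X : End F V} (h : Cg A X) (hA : Cyc A) : Cyc X :=
  let ⟨e, he⟩ := h.sim; hA.of_surj e.toLinearMap e.surjective he

theorem Cg.sc {A X : End F V} (h : Cg A X) {s : Multiset F} (hA : SC A s) : SC X s :=
  ⟨h.cyc hA.1, h.aeval_zero hA.2.1, hA.2.2⟩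

theorem Cg.nsc {A X : End F V} (h : Cg A X) (hA : NSc A) : NSc X := by
  obtain ⟨g, g', -, h2, rfl⟩ := h.exists_conj
  intro c e
  refine hA c ?_
  have := congrArg (fun Z ↦ g' * Z * g) e
  simpa [← mul_assoc, h2, mul_assoc _ g' g] using this

theorem Cg.rk2 {A X : End F V} (h : Cg A X) {κ : F} (hA : Rk2 A κ) : Rk2 X κ := by
  obtain ⟨e, he⟩ := h.sim
  intro u
  obtain ⟨x, hx⟩ := hA (e.symm u)
  refine ⟨e x, fun a k ↦ hx a (e.injective ?_)⟩
  simpa [he] using k

theorem Cg.noEig {A X : End F V} (h : Cg A X) (hA : NoEig A) : NoEig X := by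
  obtain ⟨e, he⟩ := h.sim
  intro c x hx
  obtain ⟨x, rfl⟩ := e.surjective x
  rw [hA c x (e.injective (by simpa [he] using hx)), map_zero]

theorem Cg.donto {A X : End F V} (h : Cg A X) (hA : Donto A) : Donto X := by
  obtain ⟨g, g', h1, h2, rfl⟩ := h.exists_conj
  intro s hs
  obtain ⟨z, k1, k2⟩ := hA s hs
  refine ⟨g * z * g', (cg_conj z h2).det_eq.trans k1, ?_⟩
  simp only [mul_assoc, ← mul_assoc g' g, h2, one_mul]
  rw [← mul_assoc z, k2, mul_assoc]

omit [FiniteDimensional F V] in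
theorem inv_intertwine {A A' X X' g : End F V} (h : g * A = X * g) (hA : A * A' = 1)
    (hX : X' * X = 1) : g * A' = X' * g := by
  calc g * A' = X' * (X * g) * A' := by rw [← mul_assoc, hX, one_mul]
    _ = X' * g := by rw [← h, mul_assoc, mul_assoc, hA, mul_one]

omit [FiniteDimensional F V] in
theorem Cg.inv {A A' X X' : End F V} (h : Cg A X) (hA : A * A' = 1) (hX : X' * X = 1) : Cg A' X' :=
  let ⟨g, h1, h2⟩ := h; ⟨g, h1, inv_intertwine h2 hA hX⟩

omit [FiniteDimensional F V] in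
theorem Cj.inv {A A' X X' : End F V} (h : Cj A X) (hA : A * A' = 1) (hX : X' * X = 1) : Cj A' X' :=
  let ⟨g, h1, h2⟩ := h; ⟨g, h1, inv_intertwine h2 hA hX⟩

omit [FiniteDimensional F V] in
theorem Cg.smul {A X : End F V} (h : Cg A X) (c : F) : Cg (c • A) (c • X) :=
  let ⟨g, h1, h2⟩ := h; ⟨g, h1, by simp [h2]⟩

theorem Tup.of_cj {A T T' : End F V} {N : ℕ} {np : F → Prop} (h : Tup (Cj A) N T np)
    (hT : Cj T T') : Tup (Cj A) N T' np := by
  obtain ⟨g, g', h0, h1, h2, rfl⟩ := hT.exists_conj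
  exact h.transport g g' (LinearMap.congr_fun h1) (LinearMap.congr_fun h2)
    fun X hX ↦ hX.trans (cj_conj X h0 h2)

theorem Tup.of_cg {A T T' : End F V} {N : ℕ} {np : F → Prop} (h : Tup (Cg A) N T np)
    (hT : Cg T T') : Tup (Cg A) N T' np := by
  obtain ⟨g, g', h1, h2, rfl⟩ := hT.exists_conj
  exact h.transport g g' (LinearMap.congr_fun h1) (LinearMap.congr_fun h2)
    fun X hX ↦ hX.trans (cg_conj X h2)

omit [FiniteDimensional F V] in
theorem Tup.cj {A T : End F V} {N : ℕ} {np : F → Prop} (h : Tup (Cg A) N T np) (hD : Donto A) :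
    Tup (Cj A) N T np := h.mono (fun _ h ↦ h.cj hD) fun _ h ↦ h

omit [FiniteDimensional F V] in
theorem Tup.cg {A T : End F V} {N : ℕ} {np : F → Prop} (h : Tup (Cj A) N T np) :
    Tup (Cg A) N T np := h.mono (fun _ h ↦ h.cg) fun _ h ↦ h

omit [FiniteDimensional F V] in
theorem cd_equiv {W : Type*} [AddCommGroup W] [Module F W] (e : V ≃ₗ[F] W) {A X g : End F V}
    {A' : End F W} (he : ∀ x, e (A x) = A' (e x)) (h : g * A = X * g) :
    LinearMap.det (e.toLinearMap ∘ₗ g ∘ₗ e.symm.toLinearMap) = LinearMap.det g ∧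
      (e.toLinearMap ∘ₗ g ∘ₗ e.symm.toLinearMap : End F W) * A' =
        (e.toLinearMap ∘ₗ X ∘ₗ e.symm.toLinearMap : End F W) *
          (e.toLinearMap ∘ₗ g ∘ₗ e.symm.toLinearMap) := by
  refine ⟨LinearMap.det_conj g e, LinearMap.ext fun y ↦ ?_⟩
  obtain ⟨x, rfl⟩ := e.surjective y
  simpa [← he] using LinearMap.congr_fun h x

omit [FiniteDimensional F V] in
/-- Transport of tuples along a similarity. -/
theorem Tup.of_equiv {W : Type*} [AddCommGroup W] [Module F W] (e : V ≃ₗ[F] W) {A T : End F V}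
    {A' T' : End F W} (he : ∀ x, e (A x) = A' (e x)) (hT : ∀ x, e (T x) = T' (e x)) {N : ℕ}
    {np : F → Prop} (h : Tup (Cj A) N T np) : Tup (Cj A') N T' np := by
  have := h.transport (R' := Cj A') e.toLinearMap e.symm.toLinearMap e.apply_symm_apply
    e.symm_apply_apply fun X ⟨g, h1, h2⟩ ↦ ⟨_, (cd_equiv e he h2).1.trans h1, (cd_equiv e he h2).2⟩
  convert this using 1
  ext y
  simp [hT]

section Cyclic

theorem cg_of_cyc {A B : End F V} (hA : Cyc A) (hB : Cyc B) {P : F[X]} (hP : P ≠ 0)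
    (h1 : aeval A P = 0) (h2 : aeval B P = 0) (hd : P.natDegree = finrank F V) : Cg A B :=
  let ⟨_, hv⟩ := hA; let ⟨_, hw⟩ := hB
  Cg.of_sim (exists_equiv_of_cyc hv hw hP h1 h2 hd hd)

theorem SC.cg {A B : End F V} {s : Multiset F} (hA : SC A s) (hB : SC B s) : Cg A B :=
  cg_of_cyc hA.1 hB.1 (spl_ne_zero s) hA.2.1 hB.2.1 (by rw [natDegree_spl, hA.2.2.1])

theorem charpoly_eq_of_cyc {A : End F V} (hA : Cyc A) {P : F[X]} (hP : P.Monic)
    (h : aeval A P = 0) (hd : P.natDegree = finrank F V) : A.charpoly = P := by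
  obtain ⟨v, hv⟩ := hA
  refine (eq_of_monic_of_dvd_of_natDegree_le hP A.charpoly_monic ?_ ?_)
  · exact (aeval_eq_zero_iff_of_cyc hv hP.ne_zero h hd _).1 (by rw [A.aeval_self_charpoly]; rfl)
  · rw [A.charpoly_natDegree, hd]

theorem det_of_cyc {A : End F V} (hA : Cyc A) {P : F[X]} (hP : P.Monic) (h : aeval A P = 0)
    (hd : P.natDegree = finrank F V) : LinearMap.det A = (-1) ^ finrank F V * P.eval 0 := by
  rw [LinearMap.det_eq_sign_charpoly_coeff, charpoly_eq_of_cyc hA hP h hd, coeff_zero_eq_eval_zero]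

theorem SC.det {M : End F V} {s : Multiset F} (h : SC M s) : LinearMap.det M = s.prod := by
  rw [det_of_cyc h.1 (spl_monic s) h.2.1 (by rw [natDegree_spl, h.2.2.1]), ← h.2.2.1, eval_zero_spl]

theorem SC.det_ne {M : End F V} {s : Multiset F} (h : SC M s) : LinearMap.det M ≠ 0 := by
  rw [h.det]; exact Multiset.prod_ne_zero h.2.2.2

theorem Cyc.inv {A B : End F V} (hA : Cyc A) (h : A * B = 1) : Cyc B :=
  let ⟨v, hv⟩ := hA; ⟨v, cyc_inv h hv⟩

omit [FiniteDimensional F V] in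
/-- Inverting and scaling a map killed by a split polynomial. -/
theorem aeval_spl_inv {A B : End F V} (h : A * B = 1) (h' : B * A = 1) {μ : F} (s : Multiset F)
    (h0 : (0 : F) ∉ s) (x : V) (hx : aeval A (spl s) x = 0) :
    aeval (μ • B) (spl (s.map fun a ↦ μ * a⁻¹)) x = 0 := by
  induction s using Multiset.induction_on generalizing x with
  | empty => simpa [spl_zero] using hx
  | cons a s ih =>
    have ha : a ≠ 0 := fun e ↦ h0 (by simp [e])
    rw [aeval_spl_cons] at hx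
    have := ih (fun e ↦ h0 (by simp [e])) _ hx
    rw [Multiset.map_cons, aeval_spl_cons]
    have e : (μ • B) x - (μ * a⁻¹) • x = (-a⁻¹) • (μ • B) (A x - a • x) := by
      simp only [LinearMap.smul_apply, map_sub, map_smul, ← End.mul_apply B A, h', End.one_apply]
      linear_combination (norm := module) -(mul_inv_cancel₀ ha) • μ • B x
    rw [e, map_smul, aeval_comm_apply, this, map_zero, smul_zero]

theorem SC.inv {M M' : End F V} {s : Multiset F} (h : SC M s) (h' : M * M' = 1) :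
    SC M' (s.map fun a ↦ a⁻¹) := by
  refine ⟨h.1.inv h', LinearMap.ext fun x ↦ ?_, by simpa using h.2.2.1, by simpa using h.2.2.2⟩
  simpa using aeval_spl_inv h' (mul_eq_one_comm.1 h') (μ := 1) s h.2.2.2 x (by rw [h.2.1]; rfl)

theorem Cyc.e1 {M : End F V} (h : Cyc M) : E1 M := by
  obtain ⟨v, hv⟩ := h
  intro β x y hx hy hx0
  let N : End F V := M - β • 1
  have a1 : finrank F V ≤ finrank F (LinearMap.range N) + 1 := by
    have : (⊤ : Submodule F V) ≤ LinearMap.range N ⊔ Submodule.span F {v} := fun y _ ↦ by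
      obtain ⟨s, x, rfl⟩ := exists_smul_add_of_cyc hv β y
      rw [add_comm]
      exact Submodule.add_mem_sup ⟨x, by simp [N]⟩
        (Submodule.smul_mem _ _ (Submodule.mem_span_singleton_self v))
    have b1 := Submodule.finrank_mono this
    have b2 := Submodule.finrank_add_le_finrank_add_finrank (LinearMap.range N)
      (Submodule.span F {v})
    have b3 := finrank_span_le_card (R := F) ({v} : Set V)
    simp only [finrank_top, Set.toFinset_singleton, Finset.card_singleton] at b1 b3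
    omega
  have a2 := N.finrank_range_add_finrank_ker
  have a3 : Submodule.span F {x} = LinearMap.ker N := by
    refine Submodule.eq_of_le_of_finrank_le ?_ ?_
    · simp [N, hx]
    · rw [finrank_span_singleton hx0]; omega
  obtain ⟨a, ha⟩ := Submodule.mem_span_singleton.1 (a3 ▸ (by simp [N, hy] : y ∈ LinearMap.ker N))
  exact ⟨a, ha.symm⟩

/-- A root of the order of `v` is an eigenvalue on the cyclic subspace. -/
theorem exists_eig_cyc {A : End F V} {v : V} {f : F[X]} (hf : f ≠ 0)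
    (hd : f.natDegree ≤ finrank F (cyc A v)) (h : aeval A f v = 0) {c : F} (hc : f.eval c = 0) :
    ∃ q : F[X], f = (X - C c) * q ∧ aeval A q v ≠ 0 ∧ A (aeval A q v) = c • aeval A q v := by
  obtain ⟨q, rfl⟩ := dvd_iff_isRoot.2 hc
  have hq : q ≠ 0 := right_ne_zero_of_mul hf
  refine ⟨q, rfl, fun e ↦ hq (eq_zero_of_aeval e ?_), ?_⟩
  · rw [natDegree_mul (X_sub_C_ne_zero c) hq, natDegree_X_sub_C] at hd; omega
  · simpa [Algebra.algebraMap_eq_smul_one, sub_eq_zero] using h

/-- A cyclic summand of maximal order. -/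
theorem exists_state' {A : End F V} (hA : LinearMap.det A ≠ 0) :
    ∃ (v : V) (R : Submodule F V) (f : F[X]), IsCompl (cyc A v) R ∧ (∀ x ∈ R, A x ∈ R) ∧ f.Monic ∧
      f.natDegree = finrank F (cyc A v) ∧ aeval A f = 0 ∧
      (∀ p : F[X], aeval A p v = 0 → aeval A p = 0) ∧
      (∀ x, finrank F (cyc A x) ≤ finrank F (cyc A v)) ∧ (NSc A → 2 ≤ finrank F (cyc A v)) := by
  have key : ∀ (v : V) (f : F[X]), f.Monic → f.natDegree = finrank F (cyc A v) → aeval A f = 0 →
      (∀ p : F[X], aeval A p v = 0 → aeval A p = 0) ∧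
      (∀ x, finrank F (cyc A x) ≤ finrank F (cyc A v)) ∧ (NSc A → 2 ≤ finrank F (cyc A v)) := by
    intro v f hf hd h0
    refine ⟨fun p hp ↦ ?_, fun x ↦ ?_, fun hns ↦ ?_⟩
    · obtain ⟨g, hg, g1, g2⟩ := exists_order A v
      obtain rfl : f = g := eq_of_monic_of_dvd_of_natDegree_le hg hf
        ((g2 f).1 (by rw [h0]; rfl)) (by omega)
      obtain ⟨q, rfl⟩ := (g2 p).1 hp
      rw [map_mul, h0, zero_mul]
    · obtain ⟨g, -, g1, g2⟩ := exists_order A x
      rw [← g1, ← hd]
      exact natDegree_le_of_dvd ((g2 f).1 (by rw [h0]; rfl)) hf.ne_zero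
    · by_contra h
      rcases (by omega : f.natDegree = 0 ∨ f.natDegree = 1) with e | e
      · rw [hf.natDegree_eq_zero.1 e, map_one] at h0
        exact hns 0 (by rw [← mul_one A, h0]; simp)
      · rw [hf.eq_X_add_C e, map_add, aeval_X, aeval_C, Algebra.algebraMap_eq_smul_one] at h0
        exact hns (-f.coeff 0) (by rw [neg_smul]; exact eq_neg_of_add_eq_zero_left h0)
  by_cases h0 : (⊤ : Submodule F V) = ⊥
  · have hz : ∀ x : V, x = 0 := fun x ↦ by rw [← Submodule.mem_bot F, ← h0]; trivial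
    have e : cyc A 0 = ⊥ := eq_bot_iff.2 fun x _ ↦ hz x
    have e1 : aeval A (1 : F[X]) = 0 := LinearMap.ext fun x ↦ hz _
    exact ⟨0, ⊤, 1, by rw [e]; exact isCompl_bot_top, by simp, monic_one, by rw [e]; simp, e1,
      key 0 1 monic_one (by rw [e]; simp) e1⟩
  obtain ⟨w, f, ψ, R, -, hf, hk, hfd, hfR, -, -, -, b4, -, b6, b7⟩ :=
    exists_summand (inj_of_det_ne hA) (C := ⊥) (R := ⊤) disjoint_bot_left (by simp) h0
  have hf0 : aeval A f = 0 := LinearMap.ext fun x ↦ hfR x trivial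
  exact ⟨w, R, f, ⟨b6, codisjoint_iff.2 b7⟩, b4, hf, hfd, hf0, key w f hf hfd hf0⟩

theorem cyc_of_e1 {M : End F V} (hM : LinearMap.det M ≠ 0) {s : Multiset F}
    (h : aeval M (spl s) = 0) (h1 : E1 M) : Cyc M := by
  obtain ⟨v, R, f, hC, hR, hf, hd, h0, -⟩ := exists_state' hM
  by_cases hR0 : R = ⊥
  · exact ⟨v, by simpa [hR0] using hC.sup_eq_top⟩
  obtain ⟨x, hx, hx0⟩ := Submodule.exists_mem_ne_zero_of_ne_bot hR0
  obtain ⟨a, -, y, hy, hy0, e⟩ := exists_eig (s := s) hR hx hx0 (by rw [h]; rfl)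
  have hc : f.eval a = 0 := by
    have := aeval_eigen e f
    rw [h0, LinearMap.zero_apply, eq_comm, smul_eq_zero] at this
    exact this.resolve_right hy0
  obtain ⟨q, -, q1, q2⟩ := exists_eig_cyc hf.ne_zero hd.le (by rw [h0]; rfl) hc
  obtain ⟨b, hb⟩ := h1 a y _ e q2 hy0
  exact absurd (Submodule.disjoint_def.1 hC.disjoint _ (aeval_mem_cyc M v q)
    (hb ▸ R.smul_mem b hy)) q1

end Cyclic

end CL.Lv
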