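/-
Lev's covering number: transitivity, rank one perturbations of scalars, centralisers with all
determinants, companion extensions.
-/
import Cfsg.Agent.Cls.LvBase

set_option autoImplicit false

namespace CL.Lv

open Module Polynomial CL.SLn

variable {F : Type*} [Field F] {V : Type*} [AddCommGroup V] [Module F V]

theorem not_rk2 {T : End F V} {κ : F} (h : ¬ Rk2 T κ) : ∃ u φ, T = rk1 κ u φ := by
  simp only [Rk2, not_forall, not_exists, not_not] at h
  obtain ⟨u, hu⟩ := h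
  by_cases h0 : u = 0
  · refine ⟨0, 0, LinearMap.ext fun x ↦ ?_⟩
    obtain ⟨a, ha⟩ := hu x
    simpa [rk1_apply, h0, sub_eq_zero] using ha
  obtain ⟨χ, hχ⟩ := exists_dual_eq_one (F := F) h0
  refine ⟨u, χ ∘ₗ (T - κ • 1), LinearMap.ext fun x ↦ ?_⟩
  obtain ⟨a, ha⟩ := hu x
  have : (χ ∘ₗ (T - κ • 1)) x = a := by
    rw [LinearMap.comp_apply, show (T - κ • 1 : End F V) x = a • u from ha]; simp [hχ]
  rw [rk1_apply, this, ← ha]; abel

theorem not_rk2_rk1 (κ : F) (u : V) (φ : Dual F V) : ¬ Rk2 (rk1 κ u φ) κ := fun h ↦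
  let ⟨x, hx⟩ := h u; hx (φ x) (by simp [rk1_apply])

theorem rk2_of_two {T : End F V} {κ : F} {a b : V}
    (h : ∀ s t : F, s • (T a - κ • a) + t • (T b - κ • b) = 0 → s = 0 ∧ t = 0) : Rk2 T κ := by
  intro u
  by_contra hc
  push Not at hc
  obtain ⟨s, hs⟩ := hc a
  obtain ⟨t, ht⟩ := hc b
  have h1 := h t (-s) (by rw [hs, ht]; module)
  have := h 1 0 (by rw [hs, neg_eq_zero.1 h1.2]; simp)
  exact one_ne_zero this.1

theorem nsc_rk1 {μ : F} {u : V} {φ : Dual F V} (h : NSc (rk1 μ u φ)) : u ≠ 0 ∧ φ ≠ 0 :=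
  ⟨fun e ↦ h μ (by simp [rk1, e]), fun e ↦ h μ (by simp [rk1, e])⟩

theorem NSc.exists_vec {T : End F V} (h : NSc T) : ∃ w, w ≠ 0 ∧ ∀ c : F, T w ≠ c • w := by
  by_contra hc
  push Not at hc
  obtain ⟨a, ha⟩ := LinearMap.exists_eq_smul_id_of_forall_notLinearIndependent (f := T) fun v hv ↦ by
    have h0 : v ≠ 0 := hv.ne_zero 0
    obtain ⟨c, e⟩ := hc v h0
    exact (LinearIndependent.pair_iff' h0).1 hv c e.symm
  exact h a ha

theorem nsc_of_vec {T : End F V} {w : V} (h : ∀ c : F, T w ≠ c • w) : NSc T :=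
  fun c e ↦ h c (by simp [e])

theorem exists_vec_two {φ ψ : Dual F V} (h : φ ≠ 0) (h' : ψ ≠ 0) : ∃ y, φ y ≠ 0 ∧ ψ y ≠ 0 := by
  obtain ⟨a, ha⟩ := DFunLike.ne_iff.1 h
  obtain ⟨b, hb⟩ := DFunLike.ne_iff.1 h'
  by_cases h1 : ψ a = 0
  · by_cases h2 : φ b = 0
    · exact ⟨a + b, by simpa [h2] using ha, by simpa [h1] using hb⟩
    · exact ⟨b, h2, hb⟩
  · exact ⟨a, ha, h1⟩

theorem exists_notMem_two {U U' : Submodule F V} (h : U ≠ ⊤) (h' : U' ≠ ⊤) :
    ∃ y, y ∉ U ∧ y ∉ U' := by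
  obtain ⟨a, ha⟩ : ∃ a, a ∉ U := by by_contra! k; exact h (eq_top_iff.2 fun x _ ↦ k x)
  obtain ⟨b, hb⟩ : ∃ a, a ∉ U' := by by_contra! k; exact h' (eq_top_iff.2 fun x _ ↦ k x)
  by_cases h1 : a ∈ U'
  · by_cases h2 : b ∈ U
    · exact ⟨a + b, fun k ↦ ha ((U.add_mem_iff_left h2).1 k),
        fun k ↦ hb ((U'.add_mem_iff_right h1).1 k)⟩
    · exact ⟨b, h2, hb⟩
  · exact ⟨a, ha, h1⟩

/-- A quadratic map with `im (g - ν)` inside a proper cyclic plane has `g - ν` of rank one. -/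
theorem not_rk2_of_quad {g : End F V} {a b ν : F} (hq : ∀ x, g (g x) = a • g x + b • x) {v : V}
    (hv : ∀ c : F, g v ≠ c • v) (hU : Submodule.span F {v, g v} ≠ ⊤)
    (h : ∀ x, g x - ν • x ∈ Submodule.span F {v, g v}) : ¬ Rk2 g ν := by
  obtain ⟨y, hy⟩ : ∃ y, y ∉ Submodule.span F {v, g v} := by
    by_contra! k; exact hU (eq_top_iff.2 fun x _ ↦ k x)
  have hroot : ν * ν - a * ν - b = 0 := by
    by_contra hne
    refine hy ((Submodule.smul_mem_iff _ hne).1 ?_)
    have m1 := h (g y)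
    have m2 := h y
    rw [show (ν * ν - a * ν - b) • y = (a - ν) • (g y - ν • y) - (g (g y) - ν • g y) by
      rw [hq]; module]
    exact Submodule.sub_mem _ (Submodule.smul_mem _ _ m2) m1
  intro hr
  obtain ⟨x, hx⟩ := hr (g v - ν • v)
  obtain ⟨s, t, e⟩ := Submodule.mem_span_pair.1 (h x)
  have e1 : g (g x - ν • x) = (a - ν) • (g x - ν • x) := by
    rw [map_sub, map_smul, hq]
    linear_combination (norm := module) -(hroot • x)
  rw [← e, map_add, map_smul, map_smul, hq] at e1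
  by_cases hs : s + t * ν = 0
  · refine hx t ?_
    rw [← e]
    linear_combination (norm := module) hs • v
  · refine hv (((a - ν) * s - t * b) / (s + t * ν)) ?_
    rw [div_eq_inv_mul, mul_smul, eq_inv_smul_iff₀ hs]
    linear_combination (norm := module) e1

variable [FiniteDimensional F V]

theorem det_rk1_one (u : V) (φ : Dual F V) : LinearMap.det (rk1 1 u φ) = 1 + φ u := by
  rw [← LinearMap.transvection.det]
  congr 1
  exact LinearMap.ext fun x ↦ by simp [rk1_apply, LinearMap.transvection.apply]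

theorem det_rk1 {μ : F} (hμ : μ ≠ 0) (u : V) (φ : Dual F V) :
    LinearMap.det (rk1 μ u φ) = μ ^ finrank F V * (1 + μ⁻¹ * φ u) := by
  have : rk1 μ u φ = μ • rk1 1 u (μ⁻¹ • φ) := LinearMap.ext fun x ↦ by
    simp [rk1_apply, smul_smul, hμ]
  rw [this, LinearMap.det_smul, det_rk1_one]; simp

theorem span_ne_top {s : Finset V} (h : s.card < finrank F V) :
    Submodule.span F (s : Set V) ≠ ⊤ := (span_lt_top_of_card_lt_finrank (by simpa using h)).ne

theorem span_pair_ne_top (h : 3 ≤ finrank F V) (a b : V) : Submodule.span F {a, b} ≠ ⊤ := by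
  classical
  simpa using span_ne_top (F := F) (s := {a, b}) (lt_of_le_of_lt Finset.card_le_two h)

theorem span_triple_ne_top (h : 4 ≤ finrank F V) (a b c : V) : Submodule.span F {a, b, c} ≠ ⊤ := by
  classical
  simpa using span_ne_top (F := F) (s := {a, b, c}) (lt_of_le_of_lt Finset.card_le_three h)

omit [FiniteDimensional F V] in
theorem exists_ann {U : Submodule F V} (h : U ≠ ⊤) :
    ∃ (e : V) (χ : Dual F V), χ e = 1 ∧ ∀ x ∈ U, χ x = 0 := by
  obtain ⟨a, ha⟩ : ∃ a, a ∉ U := by by_contra! k; exact h (eq_top_iff.2 fun x _ ↦ k x)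
  exact ⟨a, exists_dual_of_notMem ha⟩

theorem mu_ne_zero (h : 2 ≤ finrank F V) {μ : F} {u : V} {φ : Dual F V}
    (hd : LinearMap.det (rk1 μ u φ) ≠ 0) : μ ≠ 0 := by
  rintro rfl
  classical
  obtain ⟨e, χ, h1, h2⟩ := exists_ann (span_ne_top (F := F) (s := {u}) (by simp; omega))
  obtain ⟨x, hx⟩ := LinearMap.injective_iff_surjective.1 (inj_of_det_ne hd) e
  have := congrArg χ hx
  simp [rk1_apply, h1, h2 u (by simp)] at this

omit [FiniteDimensional F V] in
theorem exists_gl_map {ι : Type*} [Finite ι] {p q : ι → V} (hp : LinearIndependent F p)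
    (hq : LinearIndependent F q) : ∃ g : End F V, LinearMap.det g ≠ 0 ∧ ∀ i, g (p i) = q i := by
  have : FiniteDimensional F (Submodule.span F (Set.range p)) :=
    FiniteDimensional.span_of_finite F (Set.finite_range _)
  obtain ⟨g, hg⟩ := Submodule.exists_linearEquiv_restrict_eq
    (hp.linearCombinationEquiv.symm ≪≫ₗ hq.linearCombinationEquiv)
  refine ⟨g, g.isUnit_det'.ne_zero, fun i ↦ ?_⟩
  have := hg (hp.linearCombinationEquiv (Finsupp.single i 1))
  simpa using this.symm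

theorem exists_sl_map' {k : ℕ} {p₀ q₀ : V} {p q : Fin k → V}
    (hp : LinearIndependent F (Fin.cons p₀ p : Fin (k + 1) → V))
    (hq : LinearIndependent F (Fin.cons q₀ q : Fin (k + 1) → V)) :
    ∃ (s : F) (g : End F V), s ≠ 0 ∧ LinearMap.det g = 1 ∧ g p₀ = s • q₀ ∧ ∀ i, g (p i) = q i := by
  obtain ⟨g, h1, h2⟩ := exists_gl_map hp hq
  obtain ⟨θ, t1, t2⟩ := exists_dual_of_notMem (linearIndependent_finCons.1 hq).2
  refine ⟨(LinearMap.det g)⁻¹, rk1 1 q₀ (((LinearMap.det g)⁻¹ - 1) • θ) * g, inv_ne_zero h1, ?_, ?_,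
    fun i ↦ ?_⟩
  · simp [det_rk1_one, t1, h1]
  · have : g p₀ = q₀ := h2 0
    simp [this, rk1_apply, t1, sub_smul]
  · have : g (p i) = q i := h2 i.succ
    simp [this, rk1_apply, t2 _ (Submodule.subset_span ⟨i, rfl⟩)]

theorem exists_sl_map {k : ℕ} {p q : Fin k → V} (hp : LinearIndependent F p)
    (hq : LinearIndependent F q) (hk : k < finrank F V) :
    ∃ g : End F V, LinearMap.det g = 1 ∧ ∀ i, g (p i) = q i := by
  obtain ⟨p₀, h1⟩ := exists_linearIndependent_cons_of_lt_finrank hp hk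
  obtain ⟨q₀, h2⟩ := exists_linearIndependent_cons_of_lt_finrank hq hk
  obtain ⟨-, g, -, k1, -, k2⟩ := exists_sl_map' h1 h2
  exact ⟨g, k1, k2⟩

theorem cg_rk1 (μ : F) {u u' : V} {φ φ' : Dual F V} (hu : u ≠ 0) (hu' : u' ≠ 0) (hφ : φ ≠ 0)
    (hφ' : φ' ≠ 0) (h : φ u = φ' u') : Cg (rk1 μ u φ) (rk1 μ u' φ') := by
  obtain ⟨y, y1, y2⟩ := exists_vec_two hφ hφ'
  let k := rk1 1 y ((φ' y)⁻¹ • (φ - φ'))
  have hk : ∀ x, φ' (k x) = φ x := fun x ↦ by
    simp only [k, rk1_apply, map_add, map_smul, LinearMap.smul_apply, LinearMap.sub_apply,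
      smul_eq_mul]
    field_simp; ring
  have hk' : LinearMap.det k ≠ 0 := by
    rw [det_rk1_one]
    simp only [LinearMap.smul_apply, LinearMap.sub_apply, smul_eq_mul]
    field_simp; simpa using div_ne_zero y1 y2
  have hku : k u ≠ 0 := fun e ↦ hu (inj_of_det_ne hk' (by simpa using e))
  obtain ⟨ψ, p1, p2, -⟩ := exists_dual_of_notMem₂ (F := F) (W := ⊥) (u := k u) (v := u')
    (by simpa using hku) (by simpa using hu')
  let g := rk1 1 (u' - k u) ((ψ (k u))⁻¹ • ψ)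
  have hg : ∀ x, φ' (g x) = φ' x := fun x ↦ by simp [g, rk1_apply, hk, h]
  have hgu : g (k u) = u' := by simp [g, rk1_apply, p1]
  refine ⟨g * k, ?_, LinearMap.ext fun x ↦ ?_⟩
  · rw [map_mul, det_rk1_one]
    refine mul_ne_zero ?_ hk'
    simp only [LinearMap.smul_apply, map_sub, smul_eq_mul]
    field_simp; simpa using div_ne_zero p2 p1
  · simp only [End.mul_apply]
    rw [rk1_apply μ u, rk1_apply μ u', hg, hk, map_add, map_smul, map_smul, map_add, map_smul,
      map_smul, hgu]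

theorem donto_of_pair {A : End F V} {v : V} {ψ : Dual F V} {c : F} (h1 : A v = c • v)
    (h2 : ∀ x, ψ (A x) = c * ψ x) (h3 : ψ v = 1) : Donto A := fun s _ ↦
  ⟨rk1 1 v ((s - 1) • ψ), by simp [det_rk1_one, h3], LinearMap.ext fun x ↦ by
    simp only [End.mul_apply, rk1_apply, LinearMap.smul_apply, h2, map_add, map_smul, h1,
      smul_eq_mul]
    module⟩

theorem donto_rk1 (h : 3 ≤ finrank F V) (μ : F) (u : V) (φ : Dual F V) : Donto (rk1 μ u φ) := by
  by_cases h0 : φ u = 0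
  · obtain ⟨x, hx, hx'⟩ : ∃ x, φ x = 0 ∧ x ∉ Submodule.span F {u} := by
      by_contra! k
      have a1 := Submodule.finrank_mono (show LinearMap.ker φ ≤ Submodule.span F {u} from k)
      have a2 := φ.finrank_range_add_finrank_ker
      have a3 := Submodule.finrank_le (LinearMap.range φ)
      have a4 := finrank_span_le_card (R := F) ({u} : Set V)
      simp only [finrank_self, Set.toFinset_singleton, Finset.card_singleton] at a3 a4
      omega
    obtain ⟨ψ, p1, p2⟩ := exists_dual_of_notMem hx'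
    exact donto_of_pair (v := x) (ψ := ψ) (c := μ) (by simp [rk1_apply, hx])
      (fun y ↦ by simp [rk1_apply, p2 u (Submodule.mem_span_singleton_self u)]) p1
  · exact donto_of_pair (v := u) (ψ := (φ u)⁻¹ • φ) (c := μ + φ u) (by simp [rk1_apply, add_smul])
      (fun y ↦ by simp [rk1_apply]; ring) (by simp [h0])

/-- A simple eigenvalue. -/
theorem donto_of_simple {A : End F V} {P : F[X]} {c : F} (h : aeval A ((X - C c) * P) = 0)
    (hP : P.eval c ≠ 0) {v : V} (hv : v ≠ 0) (h1 : A v = c • v)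
    (h2 : ∀ y, A y = c • y → ∃ a : F, y = a • v) : Donto A := by
  obtain ⟨χ, hχ⟩ := exists_dual_eq_one (F := F) hv
  have e : ∀ x, A (aeval A P x) = c • aeval A P x := fun x ↦ by
    simpa [Algebra.algebraMap_eq_smul_one, sub_eq_zero] using LinearMap.congr_fun h x
  refine donto_of_pair (ψ := (P.eval c)⁻¹ • χ ∘ₗ aeval A P) h1 (fun x ↦ ?_) ?_
  · simp [aeval_comm_apply, e]; ring
  · simp [aeval_eigen h1, hχ, hP]

theorem SC.donto {M : End F V} {s : Multiset F} {x : F} (h : SC M (x ::ₘ s)) (hx : x ∉ s) :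
    Donto M := by
  obtain ⟨v, hv⟩ := h.1
  obtain ⟨q, -, q1, q2⟩ := exists_eig_cyc (spl_ne_zero (x ::ₘ s)) (v := v) (A := M) (c := x)
    (by rw [hv, finrank_top, natDegree_spl, h.2.2.1]) (by rw [h.2.1]; rfl) (by simp [spl_cons])
  exact donto_of_simple (spl_cons x s ▸ h.2.1) (eval_spl_ne_zero.2 hx) q1 q2
    fun y hy ↦ h.1.e1 x _ y q2 hy q1

/-- Gluing two maps along a direct sum. -/
theorem exists_glue {W W' : Submodule F V} (h : IsCompl W W') (a : End F W) (b : End F W') :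
    ∃ g : End F V, LinearMap.det g = LinearMap.det a * LinearMap.det b ∧
      (∀ x : W, g x = a x) ∧ ∀ x : W', g x = b x := by
  let g : End F V := LinearMap.ofIsCompl h (W.subtype ∘ₗ a) (W'.subtype ∘ₗ b)
  have h1 : ∀ x : W, g x = a x := fun x ↦ by simp [g]
  have h2 : ∀ x : W', g x = b x := fun x ↦ by simp [g]
  have k1 : ∀ x ∈ W, g x ∈ W := fun x hx ↦ h1 ⟨x, hx⟩ ▸ (a ⟨x, hx⟩).2
  have k2 : ∀ x ∈ W', g x ∈ W' := fun x hx ↦ h2 ⟨x, hx⟩ ▸ (b ⟨x, hx⟩).2
  refine ⟨g, ?_, h1, h2⟩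
  rw [det_of_isCompl h k1 k2]
  congr 2
  · exact LinearMap.ext fun x ↦ Subtype.ext (h1 x)
  · exact LinearMap.ext fun x ↦ Subtype.ext (h2 x)

omit [FiniteDimensional F V] in
theorem ext_of_isCompl {U : Type*} [AddCommGroup U] [Module F U] {W W' : Submodule F V}
    (h : IsCompl W W') {f g : V →ₗ[F] U} (h1 : ∀ x ∈ W, f x = g x) (h2 : ∀ x ∈ W', f x = g x) :
    f = g := LinearMap.ext fun x ↦ by
  obtain ⟨y, hy, z, hz, rfl⟩ := Submodule.mem_sup.1 (h.sup_eq_top ▸ Submodule.mem_top (x := x))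
  rw [map_add, map_add, h1 y hy, h2 z hz]

theorem Donto.of_isCompl {A : End F V} {W W' : Submodule F V} (h : IsCompl W W')
    (hW : ∀ x ∈ W, A x ∈ W) (hW' : ∀ x ∈ W', A x ∈ W') (hD : Donto (A.restrict hW)) : Donto A := by
  intro s hs
  obtain ⟨z, h1, h2⟩ := hD s hs
  obtain ⟨g, k1, k2, k3⟩ := exists_glue h z 1
  refine ⟨g, by simp [k1, h1], ext_of_isCompl h (fun x hx ↦ ?_) fun x hx ↦ ?_⟩
  · rw [End.mul_apply, End.mul_apply, k2 ⟨_, hW x hx⟩, k2 ⟨x, hx⟩]
    exact congrArg Subtype.val (LinearMap.congr_fun h2 ⟨x, hx⟩)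
  · rw [End.mul_apply, End.mul_apply, k3 ⟨_, hW' x hx⟩, k3 ⟨x, hx⟩]; rfl

theorem cyc_restrict (A : End F V) (v : V) :
    Cyc (A.restrict (fun _ ↦ apply_mem_cyc : ∀ x ∈ cyc A v, A x ∈ cyc A v)) := by
  refine ⟨⟨v, self_mem_cyc A v⟩, ?_⟩
  rw [← comap_cyc (g := A) (cyc A v).subtype (cyc A v).injective_subtype fun _ ↦ rfl]
  simp

theorem det_restrict_ne {A : End F V} (hA : LinearMap.det A ≠ 0) {W : Submodule F V}
    (hW : ∀ x ∈ W, A x ∈ W) : LinearMap.det (A.restrict hW) ≠ 0 :=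
  det_ne_of_inj fun x hx ↦ Subtype.ext (inj_of_det_ne hA (by simpa using congrArg Subtype.val hx))

theorem two_le_cyc {A : End F V} {v : V} (h0 : v ≠ 0) (h : ∀ c : F, A v ≠ c • v) :
    2 ≤ finrank F (cyc A v) := by
  have hl : LinearIndependent F ![v, A v] := (LinearIndependent.pair_iff' h0).2 fun c e ↦ h c e.symm
  have : Submodule.span F (Set.range ![v, A v]) ≤ cyc A v := Submodule.span_le.2 (by
    rintro _ ⟨i, rfl⟩
    fin_cases i
    exacts [self_mem_cyc A v, apply_mem_cyc (self_mem_cyc A v)])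
  simpa [finrank_span_eq_card hl] using Submodule.finrank_mono this

/-- The exceptional initial state. -/
theorem not_rk2_of_state {g : End F V} {v : V} {R : Submodule F V} (hC : IsCompl (cyc g v) R)
    (hd : finrank F (cyc g v) = 2) {f : F[X]} (hf : f.Monic) (hfd : f.natDegree = 2)
    (h0 : aeval g f = 0) (h3 : 3 ≤ finrank F V) {β : F} (hβ : ∀ x ∈ R, g x = β • x) :
    ¬ Rk2 g β := by
  obtain ⟨a, b, hab⟩ := exists_quadratic hf hfd h0
  refine not_rk2_of_quad hab (v := v) (fun c e ↦ ?_) (span_pair_ne_top h3 _ _) fun x ↦ ?_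
  · simpa using cyc_indep_two hd.ge (a := -c) (b := 1) (by rw [e]; module)
  · obtain ⟨y, hy, z, hz, rfl⟩ := Submodule.mem_sup.1 (hC.sup_eq_top ▸ Submodule.mem_top (x := x))
    obtain ⟨s, t, e⟩ := mem_cyc_of_quadratic (hab v)
      (Submodule.sub_mem _ (apply_mem_cyc hy) (Submodule.smul_mem _ β hy))
    exact Submodule.mem_span_pair.2 ⟨s, t, by rw [e, map_add, hβ z hz]; module⟩

/-- Companion extension: changing the image of the last vector of a cyclic basis. -/
theorem exists_cext {Φ : End F V} {e : V} (hc : cyc Φ e = ⊤) {k : ℕ} (hk : finrank F V = k + 1)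
    {P : F[X]} (hP : P.Monic) (hd : P.natDegree = k + 1) :
    ∃ θ : Dual F V, (∀ i < k, θ ((Φ ^ i) e) = 0) ∧ θ ((Φ ^ k) e) = 1 ∧
      (∀ i ≤ k, ((Φ - θ.smulRight (aeval Φ P e)) ^ i) e = (Φ ^ i) e) ∧
      cyc (Φ - θ.smulRight (aeval Φ P e)) e = ⊤ ∧ aeval (Φ - θ.smulRight (aeval Φ P e)) P = 0 := by
  obtain ⟨θ, h1, h2⟩ := exists_dual_of_notMem (W := (degreeLT F k).map (ev Φ e))
    (v := (Φ ^ k) e) (by
      rintro ⟨p, hp, h⟩
      have hp' : p.degree < k := mem_degreeLT.1 hp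
      refine (monic_X_pow_sub hp').ne_zero (eq_zero_of_aeval (g := Φ) (v := e) ?_ ?_)
      · rw [map_sub, LinearMap.sub_apply, map_pow, aeval_X, ← h, ev_apply, sub_self]
      · rw [hc, finrank_top, hk]
        refine Nat.lt_succ_of_le ((natDegree_sub_le _ _).trans (max_le (natDegree_X_pow_le k) ?_))
        exact natDegree_le_iff_degree_le.2 hp'.le)
  have h3 : ∀ i < k, θ ((Φ ^ i) e) = 0 := fun i hi ↦
    h2 _ ⟨X ^ i, mem_degreeLT.2 (by rw [degree_X_pow]; exact_mod_cast hi), by simp [ev_apply]⟩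
  set E := Φ - θ.smulRight (aeval Φ P e) with hE
  have h4 : ∀ i ≤ k, (E ^ i) e = (Φ ^ i) e := by
    intro i
    induction i with
    | zero => simp
    | succ i ih =>
      intro hi
      rw [pow_succ', pow_succ', End.mul_apply, End.mul_apply, ih (by omega), hE]
      simp [h3 i (by omega)]
  have h5 : cyc E e = ⊤ := by
    refine eq_top_iff.2 fun x _ ↦ ?_
    obtain ⟨p, rfl⟩ : x ∈ cyc Φ e := hc ▸ Submodule.mem_top
    have hm := Φ.charpoly_monic
    have hlt : (p %ₘ Φ.charpoly).natDegree < k + 1 := by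
      rw [← hk, ← Φ.charpoly_natDegree]
      exact natDegree_modByMonic_lt p hm fun h ↦ by
        have := Φ.charpoly_natDegree; rw [h, natDegree_one] at this; omega
    rw [ev_apply, ← aeval_modByMonic_eq_self_of_root Φ.aeval_self_charpoly,
      aeval_eq_sum_range' hlt, LinearMap.sum_apply]
    refine Submodule.sum_mem _ fun i hi ↦ Submodule.smul_mem _ _ ?_
    rw [← h4 i (by have := Finset.mem_range.1 hi; omega)]
    exact ⟨X ^ i, by simp [ev_apply]⟩
  refine ⟨θ, h3, h1, h4, h5, LinearMap.ext fun x ↦ ?_⟩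
  obtain ⟨p, rfl⟩ : x ∈ cyc E e := h5 ▸ Submodule.mem_top
  have h6 : aeval E P e = 0 := by
    have k1 : ∀ T : End F V, aeval T P e =
        ∑ i ∈ Finset.range (k + 1), P.coeff i • (T ^ i) e + T ((T ^ k) e) := fun T ↦ by
      rw [aeval_eq_sum_range, hd, Finset.sum_range_succ, ← hd, hP.coeff_natDegree, hd, pow_succ']
      simp
    rw [k1 E, h4 k le_rfl, Finset.sum_congr rfl fun i hi ↦ by
      rw [h4 i (by have := Finset.mem_range.1 hi; omega)], hE, LinearMap.sub_apply,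
      LinearMap.smulRight_apply, h1, one_smul, k1 Φ]
    abel
  rw [ev_apply, ← End.mul_apply, ← map_mul, mul_comm, map_mul, End.mul_apply, h6, map_zero]; rfl

end CL.Lv
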