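/-
Thompson's theorem: every element of `SL(V)` over a finite field is a commutator.
-/
import Cfsg.Agent.Cls.ProdComm

set_option autoImplicit false

namespace CL.SLn

open Module Polynomial

variable {F : Type*} [Field F]

universe u

theorem natDegree_peel {P : F[X]} (hP : P ≠ 0) (h : P.natDegree = 2) (k : ℕ) :
    ((X - C 1) ^ k * P).natDegree = k + 2 := by
  rw [natDegree_mul (pow_ne_zero _ (X_sub_C_ne_zero _)) hP, natDegree_pow, natDegree_X_sub_C, h,
    mul_one]

theorem split_ne_zero (l : F) : (X - C l) * (X - C l⁻¹) ≠ 0 :=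
  mul_ne_zero (X_sub_C_ne_zero _) (X_sub_C_ne_zero _)

theorem natDegree_split (l : F) : ((X - C l) * (X - C l⁻¹)).natDegree = 2 := by
  rw [natDegree_mul (X_sub_C_ne_zero _) (X_sub_C_ne_zero _), natDegree_X_sub_C, natDegree_X_sub_C]

theorem exists_split_det {l : F} (hl : l ≠ 0) (hl1 : l * l ≠ 1) (k : ℕ) (δ : F) :
    ∃ u : F[X], u.eval 1 ^ k * (u.eval l * u.eval l⁻¹) = δ := by
  have e1 : l - 1 ≠ 0 := fun e ↦ hl1 (by rw [sub_eq_zero.1 e, mul_one])
  have e2 : l - l⁻¹ ≠ 0 := fun e ↦ hl1 (by nth_rw 2 [sub_eq_zero.1 e]; exact mul_inv_cancel₀ hl)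
  refine ⟨1 + C ((δ - 1) / ((l - 1) * (l - l⁻¹))) * ((X - C 1) * (X - C l⁻¹)), ?_⟩
  simp [div_mul_cancel₀ _ (mul_ne_zero e1 e2)]

theorem exists_split_elt (h4 : ∀ a b c : F, ∃ x, x ≠ a ∧ x ≠ b ∧ x ≠ c) :
    ∃ l : F, l ≠ 0 ∧ l * l ≠ 1 := by
  obtain ⟨l, h0, h1, h2⟩ := h4 0 1 (-1)
  exact ⟨l, h0, fun e ↦ (mul_self_eq_one_iff.1 e).elim h1 h2⟩

variable [Finite F]

section

variable {V : Type u} [AddCommGroup V] [Module F V] [FiniteDimensional F V]

theorem isComm_of_scalar {g : End F V} (h0 : finrank F V ≠ 0) (hg : LinearMap.det g = 1) {a : F}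
    (h : g = a • 1) : IsComm 1 g := by
  subst h
  exact isComm_scalar h0 (by simpa [LinearMap.det_smul] using hg)

theorem isComm_of_four (h4 : ∀ a b c : F, ∃ x, x ≠ a ∧ x ≠ b ∧ x ≠ c) (h2 : 2 ≤ finrank F V)
    {g : End F V} (hg : LinearMap.det g = 1) : IsComm 1 g := by
  by_cases hns : ∃ a : F, g = a • 1
  · obtain ⟨a, ha⟩ := hns
    exact isComm_of_scalar (by omega) hg ha
  push Not at hns
  obtain ⟨l, hl, hl1⟩ := exists_split_elt h4
  rcases h2.eq_or_lt with h2 | h3
  · obtain ⟨v, R, -, -, hd, -⟩ := exists_state hg hns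
    exact (res_two_split hl hl1 (c := v) (r := 0) h2.symm hg
      (Submodule.eq_top_of_finrank_eq (le_antisymm (Submodule.finrank_le _) (h2 ▸ hd)))).isComm
      (split_ne_zero l) (by rw [natDegree_split, h2]) hg (by simp [hl])
      (fun δ _ ↦ by simpa using exists_split_det hl hl1 0 δ) one_ne_zero
  obtain ⟨m, hm⟩ : ∃ m, finrank F V = m + 1 + 2 := ⟨finrank F V - 3, by omega⟩
  rcases res_top h4 (fun V _ _ _ g v c r a1 a2 a3 _ _ _ ↦ res_two_split hl hl1 a1 a2 a3) hm hg hns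
    with ⟨c, r, h⟩ | ⟨u, ρ, -, h1, h2, h⟩
  · exact h.isComm (mul_ne_zero (pow_ne_zero _ (X_sub_C_ne_zero _)) (split_ne_zero l))
      (by rw [natDegree_peel (split_ne_zero l) (natDegree_split l), hm]) hg (by simp [hl])
      (fun δ _ ↦ exists_split_det hl hl1 _ δ) one_ne_zero
  · exact isComm_tv h3 h1 h2 h

omit [Finite F] in
theorem det_cmp (t : F) : LinearMap.det (cmp t) = 1 := by simp [cmp]

omit [Finite F] in
theorem exists_det_three (h : ∀ x : F, x = 0 ∨ x = 1 ∨ x = -1) (h2 : (2 : F) ≠ 0) (k : ℕ) {δ : F}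
    (hδ : δ ≠ 0) : ∃ u : F[X], u.eval 1 ^ k * LinearMap.det (aeval (cmp (0 : F)) u) = δ := by
  have h3 := three_eq_zero h h2
  rcases (h δ).resolve_left hδ with rfl | rfl
  · exact ⟨1, by simp⟩
  · refine ⟨-(1 + X), ?_⟩
    have : aeval (cmp (0 : F)) (-(1 + X) : F[X]) = Matrix.toLin' !![-1, 1; -1, -1] := by
      refine LinearMap.ext fun x ↦ ?_
      ext i
      fin_cases i <;> simp [cmp_apply, Matrix.mulVec, dotProduct, Fin.sum_univ_two]; ring
    rw [this, show eval 1 (-(1 + X) : F[X]) = 1 by simp; linear_combination -h3]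
    simp
    linear_combination h3

omit [Finite F] in
theorem isComm_of_peelSt (h : ∀ x : F, x = 0 ∨ x = 1 ∨ x = -1) (h3 : 3 ≤ finrank F V) {g : End F V}
    {v c : V} {r : Dual F V} {R : Submodule F V} (hs : PeelSt g v c r R) : IsComm 1 g := by
  obtain ⟨m, hm⟩ : ∃ m, finrank F V = m + 3 := ⟨finrank F V - 3, by omega⟩
  have key : ∀ t : F, ((X - C 1) ^ (m + 1) * qp t) ≠ 0 ∧
      ((X - C 1) ^ (m + 1) * qp t).natDegree = finrank F V := fun t ↦
    ⟨mul_ne_zero (pow_ne_zero _ (X_sub_C_ne_zero _)) (qp_ne_zero t),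
      by rw [natDegree_peel (qp_ne_zero t) (natDegree_qp t), hm]⟩
  by_cases h2 : (2 : F) = 0
  · have h' : ∀ x : F, x = 0 ∨ x = 1 := fun x ↦ (h x).imp_right fun e ↦ e.elim id fun e ↦ by
      linear_combination e - h2
    exact (res_of_peelSt (t := 1) (fun μ ↦ by rcases h' μ with rfl | rfl <;> simp)
      (fun V _ _ _ g c r a1 a2 ↦ res_base_two h' a1 a2 c r) m V g v c r R hm hs).isComm (key 1).1
      (key 1).2 hs.det (by simp [det_cmp])
      (fun δ hδ ↦ ⟨1, by simp [(h' δ).resolve_left hδ]⟩) one_ne_zero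
  · exact (res_of_peelSt (t := 0) (no_root_three h h2)
      (fun V _ _ _ g c r a1 a2 ↦ res_base_three h h2 a1 a2 c r) m V g v c r R hm hs).isComm (key 0).1
      (key 0).2 hs.det (by simp [det_cmp]) (fun δ hδ ↦ exists_det_three h h2 _ hδ) one_ne_zero

omit [Finite F] in
theorem det_restrict_smul {g : End F V} {R : Submodule F V} (hR : ∀ x ∈ R, g x ∈ R) {ω : F}
    (h : ∀ x ∈ R, g x = ω • x) : LinearMap.det (g.restrict hR) = ω ^ finrank F R := by
  rw [show g.restrict hR = ω • 1 from LinearMap.ext fun x ↦ Subtype.ext (h x x.2)]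
  simp [LinearMap.det_smul]

theorem isComm_invol (h2 : (2 : F) ≠ 0) {g : End F V} (hg : LinearMap.det g = 1)
    (h : ∀ x, g (g x) = x) {u w : V} (hu : u ≠ 0) (hw : w ≠ 0) (hu' : g u = u) (hw' : g w = -w) :
    IsComm 1 g := by
  have eA : ∀ x, x ∈ LinearMap.ker (g - 1) ↔ g x = (1 : F) • x := fun x ↦ by simp [sub_eq_zero]
  have eB : ∀ x, x ∈ LinearMap.ker (g + 1) ↔ g x = (-1 : F) • x := fun x ↦ by
    simp [add_eq_zero_iff_eq_neg]
  have hc : IsCompl (LinearMap.ker (g - 1)) (LinearMap.ker (g + 1)) := by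
    refine ⟨Submodule.disjoint_def.2 fun x h1 h2' ↦ ?_, codisjoint_iff.2 (eq_top_iff.2 fun x _ ↦ ?_)⟩
    · rw [eA] at h1; rw [eB] at h2'
      exact (smul_eq_zero.1 (show (2 : F) • x = 0 by
        linear_combination (norm := module) h2' - h1)).resolve_left h2
    · refine Submodule.mem_sup.2 ⟨(2 : F)⁻¹ • (x + g x), ?_, (2 : F)⁻¹ • (x - g x), ?_, ?_⟩
      · rw [eA]; simp [h, add_comm]
      · rw [eB, map_smul, map_sub, h]; module
      · linear_combination (norm := module) mul_inv_cancel₀ h2 • x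
  have hA : ∀ x ∈ LinearMap.ker (g - 1), g x ∈ LinearMap.ker (g - 1) := fun x hx ↦ by
    rw [(eA x).1 hx]; exact Submodule.smul_mem _ _ hx
  have hB : ∀ x ∈ LinearMap.ker (g + 1), g x ∈ LinearMap.ker (g + 1) := fun x hx ↦ by
    rw [(eB x).1 hx]; exact Submodule.smul_mem _ _ hx
  have hd := det_of_isCompl hc hA hB
  rw [det_restrict_smul hA fun x ↦ (eA x).1, det_restrict_smul hB fun x ↦ (eB x).1, hg, one_pow,
    one_mul] at hd
  simpa using IsComm.of_isCompl hc hA hB
    (isComm_of_forall_eq (δ := 1) hA (fun x ↦ (eA x).1)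
      ((Submodule.ne_bot_iff _).2 ⟨u, by simp [eA, hu'], hu⟩) (one_pow _))
    (isComm_of_forall_eq (δ := 1) hB (fun x ↦ (eB x).1)
      ((Submodule.ne_bot_iff _).2 ⟨w, by simp [eB, hw'], hw⟩) hd.symm)

/-- The case of a quadratic minimal polynomial with a root. -/
theorem isComm_not_big (h : ∀ x : F, x = 0 ∨ x = 1 ∨ x = -1) (h3 : 3 ≤ finrank F V) {g : End F V}
    (hg : LinearMap.det g = 1) {v : V} {R : Submodule F V} (hC : IsCompl (cyc g v) R)
    (hR : ∀ x ∈ R, g x ∈ R) (hd : finrank F (cyc g v) = 2) {a b β : F}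
    (hab : ∀ x, g (g x) = a • g x + b • x) (hβ : ∀ x ∈ R, g x = β • x) : IsComm 1 g := by
  have hR0 : R ≠ ⊥ := by
    rintro rfl
    have := Submodule.finrank_add_eq_of_isCompl hC
    rw [finrank_bot] at this; omega
  by_cases h1 : β = 1
  · obtain ⟨u, ρ, -, a1, a2, a3⟩ := exists_tv_of_state hg hC hd.ge hab hR0 (by simpa [h1] using hβ)
    exact isComm_tv h3 a1 a2 a3
  obtain ⟨y, hy, hy0⟩ := Submodule.exists_mem_ne_zero_of_ne_bot hR0
  have hinj := inj_of_det hg
  obtain rfl : β = -1 := ((h β).resolve_left fun e ↦ hy0 (hinj (by simp [hβ y hy, e]))).resolve_left h1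
  have h2 : (2 : F) ≠ 0 := fun e ↦ h1 (by linear_combination -e)
  obtain rfl : a = b - 1 := by
    have := hab y
    rw [hβ y hy, map_smul, hβ y hy] at this
    exact sub_eq_zero.1 ((smul_eq_zero.1 (show (a - (b - 1)) • y = 0 by
      linear_combination (norm := module) this)).resolve_right hy0)
  have hu : g v + v ≠ 0 := fun e ↦ by
    have := cyc_indep_two hd.ge (a := 1) (b := 1) (by linear_combination (norm := module) e)
    simp at this
  rcases h b with rfl | rfl | rfl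
  · exact absurd (hinj (by rw [map_add, hab]; simp)) hu
  · exact isComm_invol h2 hg (by simpa using hab) hu hy0 (by rw [map_add, hab]; simp [add_comm])
      (by simpa using hβ y hy)
  have hI : ∀ x ∈ cyc g v, g x ∈ cyc g v := fun _ ↦ apply_mem_cyc
  have hcyc : cyc (g.restrict hI) ⟨v, self_mem_cyc g v⟩ = ⊤ := by
    rw [← comap_cyc (g := g) (cyc g v).subtype (cyc g v).injective_subtype fun _ ↦ rfl]
    simp
  have hq : ∀ x, g.restrict hI (g.restrict hI x) = (-2 : F) • g.restrict hI x - x := fun x ↦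
    Subtype.ext (by
      change g (g x) = (-2 : F) • g x - x
      rw [hab]; module)
  have hd' := det_of_isCompl hC hI hR
  rw [det_restrict_smul hR hβ, hg, CL.GLn.Sim.det (exists_equiv_cmp hd hcyc hq), det_cmp,
    one_mul] at hd'
  simpa using IsComm.of_isCompl hC hI hR (isComm_neg_jordan (three_eq_zero h h2) hd hcyc hq)
    (isComm_of_forall_eq (δ := -1) hR hβ hR0 hd'.symm)

end

theorem isComm_small (h : ∀ x : F, x = 0 ∨ x = 1 ∨ x = -1) (n : ℕ) : ∀ (V : Type u) [AddCommGroup V]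
    [Module F V] [FiniteDimensional F V] (g : End F V), finrank F V = n + 3 →
    LinearMap.det g = 1 → IsComm 1 g := by
  induction n using Nat.strong_induction_on with
  | _ n ih =>
  intro V _ _ _ g hV hg
  by_cases hns : ∃ a : F, g = a • 1
  · obtain ⟨a, ha⟩ := hns
    exact isComm_of_scalar (by omega) hg ha
  push Not at hns
  obtain ⟨v, R, hC, hR, hd, f, hf, hfd, hf0⟩ := exists_state hg hns
  by_cases hbig : 3 ≤ finrank F (cyc g v) ∨ ∀ β : F, ∃ x ∈ R, g x ≠ β • x
  swap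
  · push Not at hbig
    obtain ⟨β, hβ⟩ := hbig.2
    obtain ⟨a, b, hab⟩ := exists_quadratic hf (by omega) hf0
    exact isComm_not_big h (by omega) hg hC hR (by omega) hab hβ
  by_cases hfix : ∀ x ∈ R, g x = x → ∃ y ∈ R, g y - y = x
  · obtain ⟨r, hr⟩ := exists_dual_eq_one (F := F) (v := v) (fun e ↦
      ne_smul_sub hd 0 (by simp [e]))
    exact isComm_of_peelSt h (by omega) (c := v) (r := r) ⟨hg, hC, hR, by simp [hr],
      self_mem_cyc _ _, hd, hfix, hbig, Or.inl ⟨1, 0, by simp, by simp⟩⟩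
  have hn : n ≠ 0 := by
    rintro rfl
    have e := Submodule.finrank_add_eq_of_isCompl hC
    rcases hbig with h3 | h3
    · exact hfix (by simp [Submodule.finrank_eq_zero.1 (show finrank F R = 0 by omega)])
    · obtain ⟨w, hw⟩ := finrank_le_one_iff.1 (show finrank F R ≤ 1 by omega)
      obtain ⟨β, hβ⟩ := hw ⟨g w, hR _ w.2⟩
      obtain ⟨x, hx, e'⟩ := h3 β
      obtain ⟨s, hs⟩ := hw ⟨x, hx⟩
      have e1 : β • (w : V) = g w := congrArg Subtype.val hβ
      have e2 : s • (w : V) = x := congrArg Subtype.val hs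
      exact e' (by rw [← e2, map_smul, ← e1, smul_comm])
  have hfix' : ¬ ∀ x ∈ (⊤ : Submodule F V), g x = x → ∃ y ∈ (⊤ : Submodule F V), g y - y = x :=
    fun e ↦ hfix (noFix_of_sup (fun _ ↦ apply_mem_cyc) hR hC.disjoint hC.sup_eq_top e)
  push Not at hfix'
  obtain ⟨x, -, hx, hx'⟩ := hfix'
  obtain ⟨χ, h1, h2⟩ := exists_dual_of_notMem (W := LinearMap.range (g - 1)) (v := x)
    fun ⟨y, hy⟩ ↦ hx' y trivial hy
  have hK : ∀ y ∈ LinearMap.ker χ, g y ∈ LinearMap.ker χ := fun y hy ↦ by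
    simpa [LinearMap.mem_ker.1 hy] using h2 _ ⟨y, rfl⟩
  have hx0 : x ≠ 0 := fun e ↦ by simp [e] at h1
  have hL : ∀ y ∈ Submodule.span F {x}, g y = (1 : F) • y := fun y hy ↦ by
    obtain ⟨s, rfl⟩ := Submodule.mem_span_singleton.1 hy
    simp [hx]
  have hL' : ∀ y ∈ Submodule.span F {x}, g y ∈ Submodule.span F {x} := fun y hy ↦ by
    rwa [hL y hy, one_smul]
  have hc : IsCompl (Submodule.span F {x}) (LinearMap.ker χ) := by
    refine ⟨Submodule.disjoint_def.2 fun y a1 a2 ↦ ?_, codisjoint_iff.2 (eq_top_iff.2 fun y _ ↦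
      Submodule.mem_sup.2 ⟨χ y • x, Submodule.smul_mem _ _ (Submodule.mem_span_singleton_self x),
        y - χ y • x, by simp [h1], by simp⟩)⟩
    obtain ⟨s, rfl⟩ := Submodule.mem_span_singleton.1 a1
    simp [show s = 0 by simpa [h1] using a2]
  simpa using IsComm.of_isCompl hc hL' hK
    (isComm_of_forall_eq (δ := 1) hL' hL (by simpa using hx0) (one_pow _))
    (ih (n - 1) (by omega) _ _ (by have := finrank_ker_add_one h1; omega)
      (by simpa [hx, h1, hg] using (det_hyper h1 g hK).symm))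

theorem four_or_small (F : Type*) [Field F] [Fintype F] :
    (4 ≤ Fintype.card F → ∀ a b c : F, ∃ x, x ≠ a ∧ x ≠ b ∧ x ≠ c) ∧
    (Fintype.card F < 4 → ∀ x : F, x = 0 ∨ x = 1 ∨ x = -1) := by
  classical
  refine ⟨fun h a b c ↦ ?_, fun h x ↦ ?_⟩
  · obtain ⟨x, -, hx⟩ := Finset.exists_mem_notMem_of_card_lt_card (s := {a, b, c}) (t := Finset.univ)
      (lt_of_le_of_lt Finset.card_le_three h)
    exact ⟨x, by simpa [not_or] using hx⟩
  · have h1 := FiniteField.pow_card x
    have h2 := Fintype.one_lt_card (α := F)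
    have : x * ((x - 1) * (x + 1)) = 0 := by
      obtain e | e : Fintype.card F = 2 ∨ Fintype.card F = 3 := by omega
      · rw [e] at h1; linear_combination (x + 1) * h1
      · rw [e] at h1; linear_combination h1
    simpa [sub_eq_zero, add_eq_zero_iff_eq_neg] using this

end CL.SLn
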