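/-
Lev's covering number: translation to `PSL_n(q)` and the lower bound.
-/
import Cfsg.Agent.Cls.LvBase2
import Cfsg.Agent.Cls.ProdOre

set_option autoImplicit false

namespace CL.Lv

open Module Polynomial CL.SLn Matrix

universe u

variable {F : Type u} [Field F] {n : ℕ}

/-- The action of `SL_n` on column vectors. -/
noncomputable def slEnd : Matrix.SpecialLinearGroup (Fin n) F →* End F (Fin n → F) :=
  (toLinAlgEquiv' : Matrix (Fin n) (Fin n) F ≃ₐ[F] _).toMonoidHom.comp SpecialLinearGroup.coeMonoidHom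

theorem slEnd_eq (A : Matrix.SpecialLinearGroup (Fin n) F) : slEnd A = toLin' (A : Matrix (Fin n) (Fin n) F) := rfl

theorem det_slEnd (A : Matrix.SpecialLinearGroup (Fin n) F) : LinearMap.det (slEnd A) = 1 := by
  rw [slEnd_eq, LinearMap.det_toLin', A.det_coe]

theorem exists_slEnd {g : End F (Fin n → F)} (h : LinearMap.det g = 1) : ∃ A, slEnd A = g :=
  ⟨⟨LinearMap.toMatrix' g, by rwa [LinearMap.det_toMatrix']⟩, toLin'_toMatrix' g⟩

theorem slEnd_center {A : Matrix.SpecialLinearGroup (Fin n) F} :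
    A ∈ Subgroup.center (Matrix.SpecialLinearGroup (Fin n) F) ↔ ∃ c : F, slEnd A = c • 1 := by
  rw [Matrix.SpecialLinearGroup.mem_center_iff]
  refine ⟨fun ⟨c, _, e⟩ => ⟨c, by rw [slEnd_eq, ← e, scalar_apply, ← smul_one_eq_diagonal, map_smul, toLin'_one]; rfl⟩,
    fun ⟨c, e⟩ => ⟨c, by simpa [e, LinearMap.det_smul] using det_slEnd A, toLin'.injective ?_⟩⟩
  rw [← slEnd_eq, e, scalar_apply, ← smul_one_eq_diagonal, map_smul, toLin'_one]; rfl

theorem fin_exists_lift {A : Matrix.SpecialLinearGroup (Fin n) F} (L : List (End F (Fin n → F))) (h : ∀ X ∈ L, Cj (slEnd A) X) {m : ℕ}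
    (hm : L.length = m) : ∃ f : Fin m → Matrix.SpecialLinearGroup (Fin n) F,
      slEnd (List.ofFn fun i => f i * A * (f i)⁻¹).prod = L.prod := by
  subst hm
  have key : ∀ i : Fin L.length, ∃ B, slEnd (B * A * B⁻¹) = L.get i := fun i => by
    obtain ⟨g, g1, g2⟩ := h _ (L.get_mem i)
    obtain ⟨B, rfl⟩ := exists_slEnd g1
    exact ⟨B, by rw [map_mul, map_mul, g2, mul_assoc, ← map_mul, mul_inv_cancel, map_one, mul_one]⟩
  choose f hf using key
  exact ⟨f, by rw [map_list_prod, List.map_ofFn, show (slEnd ∘ fun i => f i * A * (f i)⁻¹) = L.get from funext hf,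
    List.ofFn_get]⟩

theorem fin_exists_noroot (hn : 3 ≤ n) : ∃ E : Matrix.SpecialLinearGroup (Fin n) F, ∀ (c : F) (y : Fin n → F), c ^ n = 1 →
    slEnd E y = c • y → y = 0 := by
  obtain ⟨c, hc⟩ : ∃ c : F, ∀ z : F, z ^ n = 1 → 1 + (c * z + (-1) ^ n) ≠ 0 := by
    by_cases e : (1 : F) + (-1) ^ n = 0
    · exact ⟨1, fun z hz e' => by rw [show z = 0 by linear_combination e' - e, zero_pow (by omega)] at hz; simp at hz⟩
    · exact ⟨0, fun z _ => by simpa using e⟩
  have h1 : (C c * X + C ((-1) ^ n) : F[X]).degree < n :=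
    degree_linear_le.trans_lt (by exact_mod_cast (by omega : 1 < n))
  have h2 := monic_X_pow_add h1
  have h3 : (X ^ n + (C c * X + C ((-1) ^ n)) : F[X]).natDegree = n := natDegree_eq_of_degree_eq_some (by
    rw [degree_add_eq_left_of_degree_lt (by rwa [degree_X_pow]), degree_X_pow])
  obtain ⟨θ, -, -, -, t1, t2⟩ := exists_cext (cyc_upper (F := F) (n := n)) (k := n - 1) (by simp; omega) h2 (by omega)
  obtain ⟨E, hE⟩ := exists_slEnd ((det_of_cyc ⟨_, t1⟩ h2 t2 (by rw [h3]; simp)).trans (by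
    simp [show n ≠ 0 by omega, ← mul_pow]))
  exact ⟨E, fun z y hz e => inj_of_eval_ne_zero t2 (by simpa [hz] using hc z hz) y (hE ▸ e)⟩

theorem s2483_of_main [Fintype F] (hM : MainS.{u} F) (h4 : 4 ≤ Fintype.card F) (n : ℕ) (hn : 3 ≤ n) :
    (∀ x : Matrix.ProjectiveSpecialLinearGroup (Fin n) F, x ≠ 1 → ∀ g : Matrix.ProjectiveSpecialLinearGroup (Fin n) F, ∃ f : Fin n → Matrix.ProjectiveSpecialLinearGroup (Fin n) F, g = (List.ofFn fun i => f i * x * (f i)⁻¹).prod) ∧
    (∃ x : Matrix.ProjectiveSpecialLinearGroup (Fin n) F, x ≠ 1 ∧ ∃ g : Matrix.ProjectiveSpecialLinearGroup (Fin n) F, ∀ f : Fin (n - 1) → Matrix.ProjectiveSpecialLinearGroup (Fin n) F, g ≠ (List.ofFn fun i => f i * x * (f i)⁻¹).prod) := by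
  have mk : ∀ {m : ℕ} (f : Fin m → Matrix.SpecialLinearGroup (Fin n) F) (A : Matrix.SpecialLinearGroup (Fin n) F),
      (List.ofFn fun i => (QuotientGroup.mk (f i) * QuotientGroup.mk A * (QuotientGroup.mk (f i))⁻¹ :
        ProjectiveSpecialLinearGroup (Fin n) F)).prod = ↑(List.ofFn fun i => f i * A * (f i)⁻¹).prod := fun f A => by
    rw [← QuotientGroup.mk'_apply _ (List.prod _), map_list_prod, List.map_ofFn]; rfl
  refine ⟨fun x hx g => ?_, ?_⟩
  · obtain ⟨A, rfl⟩ := QuotientGroup.mk_surjective x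
    obtain ⟨T, rfl⟩ := QuotientGroup.mk_surjective g
    obtain ⟨c, L, h1, h2, h3, -⟩ := hM ((four_or_small F).1 h4) (Fin n → F) (slEnd A) (slEnd T) (by simpa using hn)
      (det_slEnd A) (fun c e => hx ((QuotientGroup.eq_one_iff A).2 (slEnd_center.2 ⟨c, e⟩))) (det_slEnd T)
    obtain ⟨f, hf⟩ := fin_exists_lift L h2 (m := n) (by simpa using h1)
    refine ⟨fun i => f i, (QuotientGroup.eq.2 (slEnd_center.2 ⟨c, ?_⟩)).trans (mk f A).symm⟩
    rw [map_mul, hf, h3, mul_smul_comm, ← map_mul, inv_mul_cancel, map_one]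
  · let i₀ : Fin n := ⟨0, by omega⟩
    let i₁ : Fin n := ⟨1, by omega⟩
    have h01 : i₁ ≠ i₀ := by simp [i₀, i₁]
    obtain ⟨A, hA⟩ := exists_slEnd ((det_rk1_one (Pi.single i₀ (1 : F)) (LinearMap.proj i₁)).trans (by simp [h01]))
    obtain ⟨E, hE⟩ := fin_exists_noroot (F := F) hn
    refine ⟨A, fun e => ?_, E, fun f e => ?_⟩
    · obtain ⟨c, hc⟩ := slEnd_center.1 ((QuotientGroup.eq_one_iff A).1 e)
      simpa [rk1_apply, h01.symm] using congrFun (LinearMap.congr_fun (hA.symm.trans hc) (Pi.single i₁ 1)) i₀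
    choose f' hf using fun i => QuotientGroup.mk_surjective (f i)
    obtain rfl : (fun i => (f' i : ProjectiveSpecialLinearGroup (Fin n) F)) = f := funext hf
    obtain ⟨c, hc⟩ := slEnd_center.1 (QuotientGroup.eq.1 (e.trans (mk f' A)).symm)
    obtain ⟨y, hy, y0⟩ := Submodule.exists_mem_ne_zero_of_ne_bot (LinearMap.ker_ne_bot_of_finrank_lt
      (f := LinearMap.pi fun i => LinearMap.proj i₁ ∘ₗ slEnd (f' i)⁻¹) (by simp; omega))
    have h1 : ∀ L : List (Matrix.SpecialLinearGroup (Fin n) F), (∀ B ∈ L, slEnd B y = y) → slEnd L.prod y = y := fun L => by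
      induction L with
      | nil => simp
      | cons B L ih =>
        intro h
        rw [List.prod_cons, map_mul, End.mul_apply, ih fun C hC => h C (List.mem_cons_of_mem _ hC), h B List.mem_cons_self]
    have h2 := h1 (List.ofFn fun i => f' i * A * (f' i)⁻¹) (List.forall_mem_ofFn_iff.2 fun i => by
      rw [map_mul, map_mul, End.mul_apply, End.mul_apply, hA, rk1_apply,
        show LinearMap.proj i₁ (slEnd (f' i)⁻¹ y) = (0 : F) from congrFun hy i, zero_smul, add_zero, one_smul,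
        ← End.mul_apply, ← map_mul, mul_inv_cancel, map_one, End.one_apply])
    refine y0 (hE c y (by simpa [hc, LinearMap.det_smul] using det_slEnd ((List.ofFn fun i => f' i * A * (f' i)⁻¹).prod⁻¹ * E)) ?_)
    rw [← mul_inv_cancel_left (List.ofFn fun i => f' i * A * (f' i)⁻¹).prod E, map_mul, hc, mul_smul_comm, mul_one,
      LinearMap.smul_apply, h2]

end CL.Lv
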