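/-
Lev's covering number: extra factors, and the classes whose small blocks have no eigenvalue.
-/
import Cfsg.Agent.Cls.LvBase2

set_option autoImplicit false

namespace CL.Lv

open Module Polynomial CL.SLn

universe u

section
variable {F : Type*} [Field F] {V : Type*} [AddCommGroup V] [Module F V] [FiniteDimensional F V]

theorem exists_nsc_mul {A T : End F V} (h3 : 3 ≤ finrank F V) (A0 : LinearMap.det A ≠ 0) (hA : NSc A)
    (T0 : LinearMap.det T ≠ 0) : ∃ X X', Cj A X ∧ X' * X = 1 ∧ NSc (T * X') := by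
  obtain ⟨A', i1, i2⟩ := exists_inv A0
  by_cases h : NSc (T * A')
  · exact ⟨A, A', Cj.refl A, i2, h⟩
  obtain ⟨c, hc⟩ := not_forall.1 h
  obtain rfl : T = c • A := by rw [← mul_one T, ← i2, ← mul_assoc, not_not.1 hc, smul_mul_assoc, one_mul]
  have c0 : c ≠ 0 := fun e => T0 (by rw [LinearMap.det_smul, e, zero_pow (by omega), zero_mul])
  obtain ⟨w, w0, hw⟩ := hA.exists_vec
  have key : ∀ s t : F, s • w + t • A w = 0 → s = 0 ∧ t = 0 := fun s t e => by
    obtain rfl : t = 0 := by_contra fun ht => hw (-(t⁻¹ * s)) (by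
      rw [← inv_smul_smul₀ ht (A w), eq_neg_of_add_eq_zero_right e, smul_neg, smul_smul, neg_smul])
    exact ⟨by simpa [w0] using e, rfl⟩
  obtain ⟨g, g1, g2⟩ := exists_sl_map (p := ![w, A w]) (q := ![w, A w + w]) (LinearIndependent.pair_iff.2 key)
    (LinearIndependent.pair_iff.2 fun s t e => by
      obtain ⟨e1, rfl⟩ := key (s + t) t (by rw [← e]; module)
      exact ⟨by simpa using e1, rfl⟩) h3
  obtain ⟨g', j1, j2⟩ := exists_inv (g1 ▸ one_ne_zero : LinearMap.det g ≠ 0)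
  have e1 : g * A' * g' * (g * A * g') = 1 := by
    simp only [mul_assoc]; rw [← mul_assoc g' g, j2, one_mul, ← mul_assoc A', i2, one_mul, j1]
  refine ⟨g * A * g', g * A' * g', cj_conj A g1 j2, e1, fun d hd => c0 ?_⟩
  have e2 : c • A = d • (g * A * g') := by rw [← mul_one (c • A), ← e1, ← mul_assoc, hd, smul_mul_assoc, one_mul]
  have e3 : g' w = w := by rw [← show g w = w from g2 0]; exact (LinearMap.congr_fun j2 w).trans (g2 0).symm
  have e4 : c • A w = d • (A w + w) := by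
    rw [← show g (A w) = A w + w from g2 1]; simpa [e3] using LinearMap.congr_fun e2 w
  obtain ⟨e5, e6⟩ := key d (d - c) (by rw [sub_smul, e4]; module)
  rw [← sub_eq_zero.1 e6, e5]

end

theorem xfS (F : Type*) [Field F] : XFS.{u} F := by
  intro V _ _ _ A k N h3 A0 hA hk H
  induction hk with
  | refl =>
    intro T hT
    obtain ⟨X, X', h1, h2, h4⟩ := exists_nsc_mul h3 A0 hA (hT ▸ pow_ne_zero _ A0 : LinearMap.det T ≠ 0)
    have := det_mul_of_inv h2
    rw [h1.cg.det_eq] at this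
    simpa [mul_assoc, h2] using (H _ h4 (by rw [map_mul, hT, pow_succ, mul_assoc, mul_comm _ (LinearMap.det X'), this,
      mul_one])).snoc h1
  | step _ ih =>
    intro T hT
    obtain ⟨A', i1, i2⟩ := exists_inv A0
    simpa [mul_assoc, i2] using (ih (T * A') (by rw [map_mul, hT, pow_succ, mul_assoc, det_mul_of_inv i1,
      mul_one])).snoc (Cj.refl A)

variable {F : Type*} [Field F] {V : Type u} [AddCommGroup V] [Module F V] [FiniteDimensional F V]

theorem it_four (h1 : T1S.{u} F) (h4 : H4 F) (h3 : 3 ≤ finrank F V) {M T : End F V} {s : Multiset F} (hM : SC M s)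
    (hT : NSc T) (hd : LinearMap.det T = LinearMap.det M ^ 2) : ∃ M₁ M₂, Cg M M₁ ∧ Cg M M₂ ∧ T = M₁ * M₂ := by
  obtain ⟨M', i1, i2⟩ := exists_inv hM.det_ne
  have i3 := det_mul_of_inv i1
  obtain ⟨D, d1, d2⟩ := h1 h4 V T M' M _ s h3 hT (hM.inv i1) hM (by
    rw [← (hM.inv i1).det, ← hM.det, hd, pow_two, mul_assoc, i3, mul_one])
  obtain ⟨D', j1, j2⟩ := exists_inv (d1.det_eq ▸ right_ne_zero_of_mul_eq_one i3 : LinearMap.det D ≠ 0)
  exact ⟨T * D, D', d2, d1.inv i2 j2, by rw [mul_assoc, j1, mul_one]⟩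

theorem it_pair {A X M : End F V} (h : Cj A X) (h' : Cj (X * A) M) : Tup (Cj A) 2 M fun _ => False :=
  ((Tup.single h).snoc (Cj.refl A)).of_cj h'

theorem it_cyc (h1 : T1S.{u} F) (h2 : BLS.{u} F) (h4 : H4 F) (hn : 4 ≤ finrank F V) {A : End F V} (hA : Cyc A)
    (A0 : LinearMap.det A ≠ 0) : (∀ T, NSc T → LinearMap.det T = LinearMap.det A ^ 4 → Tup (Cj A) 4 T fun _ => False) ∧
      (LinearMap.det A = 1 → Tup (Cj A) 4 1 fun _ => False) := by
  obtain ⟨X, s, x, hx, c1, -, c2⟩ := h2 h4 V A hA A0 (by omega)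
  obtain ⟨c2, c3⟩ := c2 hn
  refine ⟨fun T hT hd => ?_, fun e => ?_⟩
  · obtain ⟨M₁, M₂, m1, m2, rfl⟩ := it_four h1 h4 (by omega) c1 hT (by rw [hd, map_mul, c2.cg.det_eq]; ring)
    exact (it_pair c2 (m1.cj (c1.donto hx))).mul (it_pair c2 (m2.cj (c1.donto hx)))
  · obtain ⟨X', d1, d2⟩ := c3 (by rw [e, one_pow])
    obtain ⟨N, i1, -⟩ := exists_inv c1.det_ne
    have d3 := d2.cg (c1.inv i1)
    rw [Multiset.map_cons] at d2
    exact i1 ▸ (it_pair c2 (Cj.refl _)).mul (it_pair d1 (d3.cj (d2.donto (by simpa using hx))))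

theorem itS (h1 : T1S.{u} F) (h2 : BLS.{u} F) (h3 : T3S.{u} F) (h4 : DNS.{u} F) : ITS.{u} F := by
  intro hF V _ _ _ A a R hn A0 hC hR hE hM
  have a2 : 2 ≤ finrank F (cyc A a) := by
    by_cases e : R = ⊥
    · have := Submodule.finrank_add_eq_of_isCompl hC
      rw [e, finrank_bot] at this; omega
    · obtain ⟨x, hx, x0⟩ := Submodule.exists_mem_ne_zero_of_ne_bot e
      exact (two_le_cyc x0 fun c h => x0 (hE c x hx h)).trans (hM x hx)
  have hA : NSc A := fun c e => by
    have := (Submodule.finrank_mono (cyc_le (g := A) (Submodule.mem_span_singleton_self a) fun x hx => by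
      simpa [e] using Submodule.smul_mem _ c hx)).trans (finrank_span_le_card ({a} : Set V))
    simp only [Set.toFinset_singleton, Finset.card_singleton] at this
    omega
  have fin : ∀ k, k ≤ finrank F V → (∀ T, NSc T → LinearMap.det T = LinearMap.det A ^ k → Tup (Cj A) k T fun _ => False) →
      (LinearMap.det A = 1 → (R = ⊥ ∨ 5 ≤ finrank F V) → k = finrank F V → Tup (Cj A) k 1 fun _ => False) →
      (∀ T, NSc T → LinearMap.det T = LinearMap.det A ^ finrank F V → Tup (Cj A) (finrank F V) T fun _ ↦ False) ∧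
      (LinearMap.det A = 1 → (R = ⊥ ∨ 5 ≤ finrank F V) → Tup (Cj A) (finrank F V) 1 fun _ ↦ False) := fun k hk H H' => by
    rcases hk.eq_or_lt with e | e
    · exact ⟨e ▸ H, fun a b => e ▸ H' a b e⟩
    · exact ⟨fun T _ => xfS F V A k _ (by omega) A0 hA e H T, fun a _ => xfS F V A k _ (by omega) A0 hA e H 1 (by simp [a])⟩
  by_cases R0 : R = ⊥
  · have := it_cyc h1 h2 hF hn ⟨a, by simpa [R0] using hC.sup_eq_top⟩ A0
    exact fin 4 hn this.1 fun a _ _ => this.2 a
  obtain ⟨X, s, c1, c2, c3⟩ := h3 hF V A a R A0 hC hR hE a2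
  by_cases hD : Donto A
  · refine fin 4 hn (fun T hT hd => ?_) fun _ b e => absurd (b.resolve_left R0) (by omega)
    obtain ⟨M₁, M₂, m1, m2, rfl⟩ := it_four h1 hF (by omega) c1 hT (by rw [hd, map_mul, c2.det_eq]; ring)
    exact ((((Tup.single c2).snoc (Cg.refl A)).of_cg m1).mul (((Tup.single c2).snoc (Cg.refl A)).of_cg m2)).cj hD
  have key : ∀ {W W' : Submodule F V} (hW : ∀ x ∈ W, A x ∈ W), IsCompl W W' → (∀ x ∈ W', A x ∈ W') → W ≤ R →
      1 ≤ finrank F W → 4 ≤ finrank F W := fun {W W'} hW hc hW' hle h1 => not_lt.1 fun h => hD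
    (Donto.of_isCompl hc hW hW' (h4 W (A.restrict hW) (fun c x e => Subtype.ext (hE c x (hle x.2)
      (congrArg Subtype.val e))) h1 (by omega)).2)
  have r4 := key hR hC.symm (fun _ => apply_mem_cyc) le_rfl (Submodule.one_le_finrank_iff.2 R0)
  have a4 : 4 ≤ finrank F (cyc A a) := by
    obtain ⟨w, f, -, R', w1, -, f1, f2, -, -, -, -, r1, -, r2, r3⟩ := exists_summand (inj_of_det_ne A0) hC.disjoint hR R0
    refine (key (W' := cyc A a ⊔ R') (fun _ => apply_mem_cyc) ⟨Submodule.disjoint_def.2 fun x hx hx' => ?_,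
      codisjoint_iff.2 (by rw [sup_left_comm, r3, hC.sup_eq_top])⟩ (fun x hx => ?_) (r3 ▸ le_sup_left)
      (f2 ▸ f1)).trans (hM w w1)
    · obtain ⟨p, hp, r, hr, rfl⟩ := Submodule.mem_sup.1 hx'
      obtain rfl : p = 0 := Submodule.disjoint_def.1 hC.disjoint p hp (by
        simpa using sub_mem (r3 ▸ Submodule.mem_sup_left hx : p + r ∈ R) (r3 ▸ Submodule.mem_sup_right hr : r ∈ R))
      exact Submodule.disjoint_def.1 r2 _ hx (by simpa using hr)
    · obtain ⟨p, hp, r, hr, rfl⟩ := Submodule.mem_sup.1 hx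
      exact map_add A p r ▸ Submodule.add_mem_sup (apply_mem_cyc hp) (r1 r hr)
  have := Submodule.finrank_add_eq_of_isCompl hC
  have c4 := it_cyc h1 h2 hF hn c1.1 c1.det_ne
  rw [map_mul, c2.det_eq] at c4
  exact fin (2 * 4) (by omega) (fun T hT hd => (c4.1 T hT (by rw [hd]; ring)).bind fun _ => it_pair (c3 a4))
    fun e _ _ => (c4.2 (by rw [e, one_mul])).bind fun _ => it_pair (c3 a4)

end CL.Lv
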