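/-
Lev's covering number: lifting factorisations from a quotient.
-/
import Cfsg.Agent.Cls.LvBase2

set_option autoImplicit false

namespace CL.Lv

open Module Polynomial CL.SLn

variable {F : Type*} [Field F] {V : Type*} [AddCommGroup V] [Module F V]

theorem prod_mod {W : Submodule F V} {l : F} {y : V} (L : List (End F V))
    (h1 : ∀ X ∈ L, ∀ x ∈ W, X x ∈ W) (h : ∀ X ∈ L, X y - l • y ∈ W) :
    L.prod y - l ^ L.length • y ∈ W := by
  induction L with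
  | nil => simp
  | cons X L ih =>
    have a1 := h1 X (by simp) _ (ih (fun Y hY ↦ h1 Y (by simp [hY])) fun Y hY ↦ h Y (by simp [hY]))
    have a2 := W.smul_mem (l ^ L.length) (h X (by simp))
    convert W.add_mem a1 a2 using 1
    simp only [List.prod_cons, End.mul_apply, List.length_cons, map_sub, map_smul, pow_succ]
    module

theorem rk1_mul_neg {w : V} {χ : Dual F V} (h : χ w = 0) : rk1 1 (-w) χ * rk1 1 w χ = 1 :=
  LinearMap.ext fun x ↦ by simp [rk1_apply, h]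

theorem conj_tv_apply (X : End F V) (w : V) (χ : Dual F V) (x : V) :
    (rk1 1 w χ * X * rk1 1 (-w) χ) x = X x - χ x • X w + (χ (X x) - χ x * χ (X w)) • w := by
  simp only [End.mul_apply, rk1_apply, one_smul, map_add, map_smul, map_neg, smul_eq_mul]
  module

variable [FiniteDimensional F V]

theorem cj_tv (X : End F V) {w : V} {χ : Dual F V} (h : χ w = 0) :
    Cj X (rk1 1 w χ * X * rk1 1 (-w) χ) := cj_conj X (by simp [det_rk1_one, h]) (rk1_mul_neg h)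

/-- Adjusting a product by conjugating the factors with transvections. -/
theorem adjust {Z W : Submodule F V} {w : V} {l : F} (hl : l ≠ 0) (hw : w ∈ W) (hZ : Z ≤ W)
    (L : List (End F V))
    (h1 : ∀ X ∈ L, (∀ x ∈ W, X x ∈ W) ∧ (∀ x ∈ Z, X x ∈ Z) ∧ X w - l • w ∈ Z) (Ψ : Dual F V)
    (hΨ : ∀ y, (∀ X ∈ L, X y - l • y ∈ W) → Ψ y = 0) :
    ∃ L', List.Forall₂ (fun X X' : End F V ↦ Cj X X' ∧ (∀ x ∈ W, X' x = X x) ∧ ∀ x, X' x - X x ∈ W)
      L L' ∧ ∀ y, L'.prod y - L.prod y - Ψ y • w ∈ Z := by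
  induction L generalizing Ψ with
  | nil => exact ⟨[], List.Forall₂.nil, fun y ↦ by simp [hΨ y (by simp)]⟩
  | cons X L ih =>
    obtain ⟨a1, a2, a3⟩ := h1 X (by simp)
    have h2 := fun Y hY ↦ h1 Y (List.mem_cons_of_mem X hY)
    let U : Submodule F V := ⨅ Y ∈ L, W.comap (Y - l • 1)
    have hU : ∀ y, y ∈ U ↔ ∀ Y ∈ L, Y y - l • y ∈ W := fun y ↦ by simp [U]
    let f : V →ₗ[F] V ⧸ W := W.mkQ ∘ₗ (X - l • 1) ∘ₗ L.prod
    have hm : Ψ ∈ (U ⊓ LinearMap.ker f).dualAnnihilator := by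
      refine (Submodule.mem_dualAnnihilator _).2 fun y hy ↦ hΨ y ?_
      have b1 := prod_mod L (fun Y hY ↦ (h2 Y hY).1) ((hU y).1 hy.1)
      have b2 : X (L.prod y) - l • L.prod y ∈ W := (Submodule.Quotient.mk_eq_zero W).1 hy.2
      simp only [List.forall_mem_cons]
      refine ⟨(W.smul_mem_iff (pow_ne_zero L.length hl)).1 ?_, (hU y).1 hy.1⟩
      convert W.sub_mem b2 (W.sub_mem (a1 _ b1) (W.smul_mem l b1)) using 1
      simp only [map_sub, map_smul]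
      module
    rw [Subspace.dualAnnihilator_inf_eq, ← LinearMap.range_dualMap_eq_dualAnnihilator_ker] at hm
    obtain ⟨Ψ₁, hΨ₁, _, ⟨χ', rfl⟩, rfl⟩ := Submodule.mem_sup.1 hm
    obtain ⟨L', k1, k2⟩ := ih h2 (l⁻¹ • Ψ₁) fun y hy ↦ by
      simp [(Submodule.mem_dualAnnihilator _).1 hΨ₁ y ((hU y).2 hy)]
    let χ : Dual F V := χ' ∘ₗ W.mkQ
    have hχ : ∀ x ∈ W, χ x = 0 := fun x hx ↦ by
      simp [χ, (Submodule.Quotient.mk_eq_zero W).2 hx]
    have hX : ∀ x, (rk1 1 w χ * X * rk1 1 (-w) χ) x = X x - χ x • X w + χ (X x) • w := fun x ↦ by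
      rw [conj_tv_apply, hχ _ (a1 w hw), mul_zero, sub_zero]
    refine ⟨(rk1 1 w χ * X * rk1 1 (-w) χ) :: L', List.Forall₂.cons ⟨cj_tv X (hχ w hw),
      fun x hx ↦ by simp [hX, hχ x hx, hχ _ (a1 x hx)], fun x ↦ ?_⟩ k1, fun y ↦ ?_⟩
    · rw [hX]
      convert W.sub_mem (W.smul_mem (χ (X x)) hw) (W.smul_mem (χ x) (a1 w hw)) using 1
      module
    · obtain ⟨z, hz, e⟩ : ∃ z ∈ Z, L'.prod y = L.prod y + (l⁻¹ * Ψ₁ y) • w + z :=
        ⟨_, k2 y, by simp⟩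
      have e1 : f.dualMap χ' y = χ (X (L.prod y)) - l * χ (L.prod y) := by simp [f, χ]
      rw [List.prod_cons, List.prod_cons, End.mul_apply _ L'.prod, End.mul_apply X, e, hX,
        LinearMap.add_apply, e1]
      simp only [map_add, map_smul, hχ w hw, hχ z (hZ hz), hχ _ (a1 w hw), hχ _ (a1 z (hZ hz))]
      convert Z.add_mem (a2 z hz) (Z.smul_mem (l⁻¹ * Ψ₁ y - χ (L.prod y)) a3) using 1
      linear_combination (norm := module) (mul_inv_cancel₀ hl) • Ψ₁ y • w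

theorem exists_lift (W : Submodule F V) (g' : End F (V ⧸ W)) (s : F) :
    ∃ g : End F V, LinearMap.det g = s ^ finrank F W * LinearMap.det g' ∧ (∀ x ∈ W, g x = s • x) ∧
      ∀ x, W.mkQ (g x) = g' (W.mkQ x) := by
  obtain ⟨W', hW⟩ := W.exists_isCompl
  let e := W.quotientEquivOfIsCompl W' hW
  obtain ⟨g, h1, h2, h3⟩ := exists_glue hW (s • 1) (e.toLinearMap ∘ₗ g' ∘ₗ e.symm.toLinearMap)
  refine ⟨g, by rw [h1, LinearMap.det_conj]; simp [LinearMap.det_smul], fun x hx ↦ h2 ⟨x, hx⟩,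
    LinearMap.congr_fun (ext_of_isCompl hW (f := W.mkQ ∘ₗ g) (g := g' ∘ₗ W.mkQ) (fun x hx ↦ ?_)
      fun x hx ↦ ?_)⟩
  · have := h2 ⟨x, hx⟩
    simp only [LinearMap.comp_apply, this, Submodule.mkQ_apply,
      (Submodule.Quotient.mk_eq_zero W).2 hx, map_zero]
    exact (Submodule.Quotient.mk_eq_zero W).2 (Subtype.prop _)
  · have := h3 ⟨x, hx⟩
    rw [LinearMap.comp_apply, this]
    exact Submodule.mk_quotientEquivOfIsCompl_apply hW _

/-- The relation between a lifted factor and the factor on the quotient. -/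
def LR (A : End F V) (W : Submodule F V) (X : End F V) (X' : End F (V ⧸ W)) : Prop :=
  Cj A X ∧ (∀ x ∈ W, X x = A x) ∧ ∀ x, W.mkQ (X x) = X' (W.mkQ x)

theorem exists_lr {A : End F V} {W : Submodule F V} (hA : ∀ x ∈ W, A x ∈ W)
    {g' X' : End F (V ⧸ W)} (h : g' * qm A W hA = X' * g') {s : F} (hs : s ≠ 0)
    (hd : s ^ finrank F W * LinearMap.det g' = 1) : ∃ X, LR A W X X' := by
  obtain ⟨g, h1, h2, h3⟩ := exists_lift W g' s
  rw [hd] at h1
  obtain ⟨k, k1, k2⟩ := exists_inv (h1 ▸ one_ne_zero : LinearMap.det g ≠ 0)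
  refine ⟨g * A * k, cj_conj A h1 k2, fun x hx ↦ ?_, fun x ↦ ?_⟩
  · have e : k x = s⁻¹ • x := by
      have := congrArg k (h2 x hx)
      rw [← End.mul_apply, k2, map_smul] at this
      rw [eq_inv_smul_iff₀ hs, ← this]; rfl
    simp [e, h2 _ (hA x hx), smul_smul, hs]
  · have e := LinearMap.congr_fun h (W.mkQ (k x))
    rw [End.mul_apply, End.mul_apply, qm_mk, ← h3, ← h3, ← End.mul_apply g k, k1] at e
    exact e

omit [FiniteDimensional F V] in
theorem exists_forall₂ {α β : Type*} {r : α → β → Prop} (L' : List β)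
    (h : ∀ b ∈ L', ∃ a, r a b) : ∃ L, List.Forall₂ r L L' := by
  induction L' with
  | nil => exact ⟨[], List.Forall₂.nil⟩
  | cons b L' ih =>
    obtain ⟨a, ha⟩ := h b (by simp)
    obtain ⟨L, hL⟩ := ih fun c hc ↦ h c (by simp [hc])
    exact ⟨a :: L, List.Forall₂.cons ha hL⟩

omit [FiniteDimensional F V] in
theorem lr_facts {A : End F V} {W : Submodule F V} (hA : ∀ x ∈ W, A x ∈ W) {L : List (End F V)}
    {L' : List (End F (V ⧸ W))} (h : List.Forall₂ (LR A W) L L') :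
    (∀ X ∈ L, Cj A X ∧ ∀ x ∈ W, X x = A x) ∧ (∀ x ∈ W, L.prod x = (A ^ L.length) x) ∧
      (∀ x, W.mkQ (L.prod x) = L'.prod (W.mkQ x)) ∧
      ∀ (ν : F) (y : V), (∀ X ∈ L, X y - ν • y ∈ W) → ∀ X' ∈ L', X' (W.mkQ y) = ν • W.mkQ y := by
  induction h with
  | nil => simp
  | @cons X X' L L' hX _ ih =>
    obtain ⟨i1, i2, i3, i4⟩ := ih
    refine ⟨List.forall_mem_cons.2 ⟨⟨hX.1, hX.2.1⟩, i1⟩, fun x hx ↦ ?_, fun x ↦ ?_,
      fun ν y hy ↦ List.forall_mem_cons.2 ⟨?_, i4 ν y fun Y hY ↦ hy Y (by simp [hY])⟩⟩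
    · rw [List.prod_cons, End.mul_apply, i2 x hx, List.length_cons, pow_succ', End.mul_apply]
      exact hX.2.1 _ (by simpa using aeval_mem hA (Polynomial.X ^ L.length) hx)
    · rw [List.prod_cons, List.prod_cons, End.mul_apply, End.mul_apply, hX.2.2, i3]
    · rw [← hX.2.2, ← map_smul, ← sub_eq_zero, ← map_sub]
      exact (Submodule.Quotient.mk_eq_zero W).2 (hy X (by simp))

omit [FiniteDimensional F V] in
theorem lr_trans {A : End F V} {W : Submodule F V} {L L₁ : List (End F V)}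
    {L' : List (End F (V ⧸ W))} (h : List.Forall₂ (LR A W) L L')
    (h' : List.Forall₂ (fun X X' : End F V ↦ Cj X X' ∧ (∀ x ∈ W, X' x = X x) ∧ ∀ x, X' x - X x ∈ W)
      L L₁) : List.Forall₂ (LR A W) L₁ L' := by
  induction h generalizing L₁ with
  | nil => cases h'; exact List.Forall₂.nil
  | cons hX _ ih =>
    cases h' with
    | cons k1 k2 =>
      refine List.Forall₂.cons ⟨hX.1.trans k1.1, fun x hx ↦ (k1.2.1 x hx).trans (hX.2.1 x hx),
        fun x ↦ ?_⟩ (ih k2)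
      rw [← hX.2.2]
      exact (Submodule.Quotient.eq W).2 (k1.2.2 x)

theorem as_step {A S : End F V} {W Z : Submodule F V} {w : V} {l : F} (hA : ∀ x ∈ W, A x ∈ W)
    (hZ : Z ≤ W) (hAZ : ∀ x ∈ Z, A x ∈ Z) (hw : w ∈ W) (hAw : A w - l • w ∈ Z) (hl : l ≠ 0)
    {L : List (End F V)} {L' : List (End F (V ⧸ W))} (h : List.Forall₂ (LR A W) L L')
    (hnp : ∀ y, (∀ X' ∈ L', X' y = l • y) → y = 0) (hS : ∀ x ∈ W, S x = (A ^ L.length) x)
    (hS' : ∀ y, ∃ c : F, S y - L.prod y - c • w ∈ Z) :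
    ∃ L₁, List.Forall₂ (LR A W) L₁ L' ∧ ∀ y, S y - L₁.prod y ∈ Z := by
  by_cases hwZ : w ∈ Z
  · exact ⟨L, h, fun y ↦ let ⟨c, hc⟩ := hS' y; by simpa using Z.add_mem hc (Z.smul_mem c hwZ)⟩
  obtain ⟨θ, t1, t2⟩ := exists_dual_of_notMem hwZ
  obtain ⟨f1, f2, -, f4⟩ := lr_facts hA h
  obtain ⟨L₁, k1, k2⟩ := adjust hl hw hZ L (fun X hX ↦ ⟨fun x hx ↦ (f1 X hX).2 x hx ▸ hA x hx,
    fun x hx ↦ (f1 X hX).2 x (hZ hx) ▸ hAZ x hx, (f1 X hX).2 w hw ▸ hAw⟩) (θ ∘ₗ (S - L.prod))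
    fun y hy ↦ by
      have : y ∈ W := (Submodule.Quotient.mk_eq_zero W).1 (hnp _ (f4 l y hy))
      simp [hS y this, f2 y this]
  refine ⟨L₁, lr_trans h k1, fun y ↦ ?_⟩
  obtain ⟨c, hc⟩ := hS' y
  have e : (θ ∘ₗ (S - L.prod)) y = c := by
    have := t2 _ hc
    rw [map_sub, map_smul, t1, smul_eq_mul, mul_one, sub_eq_zero] at this
    exact this
  convert Z.sub_mem hc (e ▸ k2 y) using 1
  abel

universe u

theorem as1S (F : Type*) [Field F] : AS1S.{u} F := by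
  intro V _ _ _ A S w l N np hA hS hw hl h1 h2 hnp ⟨L', k1, k2, k3, k4⟩
  obtain ⟨L, hL⟩ := exists_forall₂ (r := LR A _) L' fun X' hX' ↦
    let ⟨g', g1, g2⟩ := k2 X' hX'
    exists_lr hA g2 (inv_ne_zero g1) (by simp [finrank_span_singleton hw, g1])
  have hlen : ∀ {L}, List.Forall₂ (LR A _) L L' → L.length = N := fun h ↦ h.length_eq.trans k1
  obtain ⟨L₁, e1, e2⟩ := as_step (S := S) (Z := ⊥) hA bot_le (by simp)
    (Submodule.mem_span_singleton_self w) (l := l) (by simp [h1]) hl hL (k4 l hnp) (fun x hx ↦ by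
      obtain ⟨c, rfl⟩ := Submodule.mem_span_singleton.1 hx
      simpa [hlen hL, h2] using congrArg (c • ·) (aeval_eigen h1 (X ^ N)).symm) fun y ↦ by
      have := (lr_facts hA hL).2.2.1 y
      rw [k3, qm_mk, eq_comm] at this
      obtain ⟨c, hc⟩ := Submodule.mem_span_singleton.1 ((Submodule.Quotient.eq _).1 this)
      exact ⟨c, by simp [hc]⟩
  obtain ⟨f1, -, -, f4⟩ := lr_facts hA e1
  exact ⟨L₁, hlen e1, fun X hX ↦ (f1 X hX).1, LinearMap.ext fun y ↦ (sub_eq_zero.1 (e2 y)).symm,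
    fun ν hν y hy ↦ (Submodule.Quotient.mk_eq_zero _).1
      (k4 ν hν _ (f4 ν y fun X hX ↦ by simp [hy X hX]))⟩

theorem as2S (F : Type*) [Field F] : AS2S.{u} F := by
  intro V _ _ _ A S w₁ w₂ l m N hA hS hl hm h1 h2 h3 ⟨L', k1, k2, k3, k4⟩
  obtain ⟨L, hL⟩ := exists_forall₂ (r := LR A _) L' fun X' hX' ↦
    let ⟨g', g1, g2⟩ := k2 X' hX'
    exists_lr hA g2 one_ne_zero (by simp [g1])
  have hlen : ∀ {L}, List.Forall₂ (LR A _) L L' → L.length = N := fun h ↦ h.length_eq.trans k1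
  obtain ⟨L₁, e1, e2⟩ := as_step (S := S) (Z := Submodule.span F {w₁}) (w := w₂) hA
    (Submodule.span_mono (by simp)) (fun x hx ↦ by
      obtain ⟨c, rfl⟩ := Submodule.mem_span_singleton.1 hx
      rw [map_smul, h1]
      exact Submodule.smul_mem _ _ (Submodule.smul_mem _ _ (Submodule.mem_span_singleton_self _)))
    (Submodule.subset_span (by simp)) h2 hm hL (k4 m trivial) (by rwa [hlen hL]) fun y ↦ by
      have := (lr_facts hA hL).2.2.1 y
      rw [k3, qm_mk, eq_comm] at this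
      obtain ⟨c, d, hc⟩ := Submodule.mem_span_pair.1 ((Submodule.Quotient.eq _).1 this)
      exact ⟨d, Submodule.mem_span_singleton.2 ⟨c, by rw [← hc]; simp⟩⟩
  obtain ⟨L₂, e3, e4⟩ := as_step (S := S) (Z := ⊥) (w := w₁) hA bot_le (by simp)
    (Submodule.subset_span (by simp)) (l := l) (by simp [h1]) hl e1 (k4 l trivial)
    (by rwa [hlen e1]) fun y ↦
      let ⟨c, hc⟩ := Submodule.mem_span_singleton.1 (e2 y); ⟨c, by simp [hc]⟩
  exact ⟨L₂, hlen e3, fun X hX ↦ ((lr_facts hA e3).1 X hX).1,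
    LinearMap.ext fun y ↦ (sub_eq_zero.1 (e4 y)).symm, fun _ h ↦ h.elim⟩

end CL.Lv
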