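/-
Lev's covering number: the peeling step and the choice of the last factor.
-/
import Cfsg.Agent.Cls.LvLift

set_option autoImplicit false

namespace CL.Lv

open Module Polynomial CL.SLn Submodule

variable {F : Type*} [Field F] {V : Type*} [AddCommGroup V] [Module F V]

/-- `T Y⁻¹` is not scalar modulo `w`. -/
def NSq (T Y : End F V) (w : V) : Prop := ∀ c : F, ∃ x, T x - c • Y x ∉ span F {w}

/-- `T Y⁻¹ - κ` has rank at least two modulo `w`. -/
def Rq (T Y : End F V) (w : V) (κ : F) : Prop := ∀ u : V, ∃ x, T x - κ • Y x ∉ span F {w, u}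

theorem rq_of_two {T Y : End F V} {w a b : V} {κ : F}
    (h : ∀ s t : F, s • (T a - κ • Y a) + t • (T b - κ • Y b) ∈ span F {w} → s = 0 ∧ t = 0) :
    Rq T Y w κ := by
  intro u
  by_contra hc
  push Not at hc
  obtain ⟨s, s', hs⟩ := mem_span_pair.1 (hc a)
  obtain ⟨t, t', ht⟩ := mem_span_pair.1 (hc b)
  have h1 := h t' (-s') (mem_span_singleton.2 ⟨t' * s - s' * t, by rw [← hs, ← ht]; module⟩)
  have := h 1 0 (mem_span_singleton.2 ⟨s, by rw [← hs, neg_eq_zero.1 h1.2]; simp⟩)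
  exact one_ne_zero this.1

theorem nsc_of_nsq {T Y : End F V} {w : V} {h : End F (V ⧸ span F {w})}
    (e : ∀ x, h ((span F {w}).mkQ (Y x)) = (span F {w}).mkQ (T x)) (k : NSq T Y w) : NSc h := by
  rintro c rfl
  obtain ⟨x, hx⟩ := k c
  exact hx ((Submodule.Quotient.eq _).1 (e x).symm)

theorem rk2_of_rq {T Y : End F V} {w : V} {κ : F} {h : End F (V ⧸ span F {w})}
    (e : ∀ x, h ((span F {w}).mkQ (Y x)) = (span F {w}).mkQ (T x)) (k : Rq T Y w κ) : Rk2 h κ := by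
  intro u
  obtain ⟨u, rfl⟩ := (span F {w}).mkQ_surjective u
  obtain ⟨x, hx⟩ := k u
  refine ⟨(span F {w}).mkQ (Y x), fun a ha ↦ hx ?_⟩
  rw [e] at ha
  obtain ⟨c, hc⟩ := mem_span_singleton.1 ((Submodule.Quotient.eq _).1
    (show (span F {w}).mkQ (T x - κ • Y x) = (span F {w}).mkQ (a • u) from ha))
  exact mem_span_pair.2 ⟨c, a, by rw [hc]; abel⟩

theorem inv_line {A : End F V} {w : V} {l : F} (h : A w = l • w) :
    ∀ x ∈ span F {w}, A x ∈ span F {w} := fun x hx ↦ by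
  obtain ⟨c, rfl⟩ := mem_span_singleton.1 hx
  rw [map_smul, h]
  exact smul_mem _ _ (smul_mem _ _ (mem_span_singleton_self w))

theorem mem_pair_left (a b : V) : a ∈ span F {a, b} := subset_span (by simp)

theorem mem_pair_right (a b : V) : b ∈ span F {a, b} := subset_span (by simp)

theorem line_le_pair (a b : V) : span F {a} ≤ span F {a, b} := span_mono (by simp)

theorem rk1_sq (μ : F) (u : V) (φ : Dual F V) (x : V) : rk1 μ u φ (rk1 μ u φ x) =
    (2 * μ + φ u) • rk1 μ u φ x + (-(μ * (μ + φ u))) • x := by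
  simp only [rk1_apply, map_add, map_smul, smul_eq_mul]
  module

theorem li_pair {w w' : V} (hw : w ≠ 0) (hw' : w' ∉ span F {w}) : LinearIndependent F ![w', w] :=
  linearIndependent_finCons.2 ⟨linearIndependent_unique_iff.2 hw, by simpa using hw'⟩

variable [FiniteDimensional F V]

theorem surj_of_det {A : End F V} (h : LinearMap.det A ≠ 0) : Function.Surjective A :=
  LinearMap.injective_iff_surjective.1 (inj_of_det_ne h)

theorem det_qm {A : End F V} {w : V} {l : F} (hw : w ≠ 0) (h : A w = l • w)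
    (hA : ∀ x ∈ span F {w}, A x ∈ span F {w}) :
    LinearMap.det A = l * LinearMap.det (qm A _ hA) := by
  rw [LinearMap.det_eq_det_mul_det _ A hA, show A.restrict hA = l • 1 from
    LinearMap.ext fun ⟨x, hx⟩ ↦ Subtype.ext (by
      obtain ⟨c, rfl⟩ := mem_span_singleton.1 hx
      simp [h, smul_comm c l])]
  simp [LinearMap.det_smul, finrank_span_singleton hw, qm]

theorem finrank_quot_line {w : V} (hw : w ≠ 0) {m : ℕ} (h : finrank F V = m + 1) :
    finrank F (V ⧸ span F {w}) = m := by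
  have := (span F {w}).finrank_quotient_add_finrank
  rw [finrank_span_singleton hw] at this
  omega

universe u

/-- The peeling step. -/
theorem step {V : Type u} [AddCommGroup V] [Module F V] [FiniteDimensional F V]
    {A T Y : End F V} {w w' : V} {l : F} {m : ℕ} {np : F → Prop} (hA : LinearMap.det A ≠ 0)
    (hw : w ≠ 0) (hAw : A w = l • w) (hY : Cj A Y) (hYw : Y w' = w) (hw' : w' ∉ span F {w})
    (hT : T w' = l ^ m • w) (hdet : LinearMap.det T = LinearMap.det A ^ (m + 1)) (hnp : np l)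
    (IH : ∀ h : End F (V ⧸ span F {w}),
      (∀ x, h ((span F {w}).mkQ (Y x)) = (span F {w}).mkQ (T x)) →
      LinearMap.det h = LinearMap.det (qm A _ (inv_line hAw)) ^ m →
      Tup (Cg (qm A _ (inv_line hAw))) m h np) : Tup (Cj A) (m + 1) T np := by
  have hl := eig_ne_zero (inj_of_det_ne hA) hw hAw
  have hdY := hY.cg.det_eq
  obtain ⟨Y', y1, y2⟩ := exists_inv (hdY ▸ hA : LinearMap.det Y ≠ 0)
  have y3 : ∀ x, Y' (Y x) = x := LinearMap.congr_fun y2
  have hS : (T * Y') w = l ^ m • w := by rw [← hT, ← hYw, End.mul_apply, y3]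
  have e : T * Y' * Y = T := by rw [mul_assoc, y2, mul_one]
  have hd : LinearMap.det (qm (T * Y') _ (inv_line hS)) =
      LinearMap.det (qm A _ (inv_line hAw)) ^ m := by
    have a1 := congrArg LinearMap.det e
    rw [map_mul, hdY, hdet, pow_succ, det_qm hw hS (inv_line hS)] at a1
    have a2 := mul_right_cancel₀ hA a1
    rw [det_qm hw hAw (inv_line hAw), mul_pow] at a2
    exact mul_left_cancel₀ (pow_ne_zero m hl) a2
  obtain ⟨L, k1, k2, k3, k4⟩ := as1S F V A (T * Y') w l m np _ (inv_line hS) hw hl hAw hS hnp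
    (IH _ (fun x ↦ by rw [qm_mk, End.mul_apply, y3]) hd)
  refine ⟨L ++ Y :: [], by simp [k1], fun X hX ↦ ?_, by simp [k3, e], fun ν hν y hy ↦ ?_⟩
  · rcases List.mem_append.1 hX with h | h
    · exact k2 X h
    · rwa [List.mem_singleton.1 h]
  · obtain ⟨c, rfl⟩ := mem_span_singleton.1 (k4 ν hν y fun X hX ↦ hy X (by simp [hX]))
    by_contra hc
    refine hw' (mem_span_singleton.2 ⟨ν⁻¹, ?_⟩)
    have a1 := hy Y (by simp)
    have a2 := eig_ne_zero (inj_of_det_ne (hdY ▸ hA : LinearMap.det Y ≠ 0)) hc a1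
    rw [map_smul, smul_comm, smul_right_inj (left_ne_zero_of_smul hc)] at a1
    have a3 := congrArg Y' a1
    rw [y3, map_smul, ← hYw, y3] at a3
    rw [← hYw, a3, smul_smul, inv_mul_cancel₀ a2, one_smul]

section Steer

variable {A T Y : End F V} {w w' : V} {κ : F}

theorem conj_w' (hYw : Y w' = w) {χ : Dual F V} (h : ∀ x ∈ span F {w, w'}, χ x = 0) :
    Cj Y (rk1 1 w' χ * Y * rk1 1 (-w') χ) ∧ (rk1 1 w' χ * Y * rk1 1 (-w') χ) w' = w ∧
      ∀ x, (rk1 1 w' χ * Y * rk1 1 (-w') χ) x = Y x - χ x • w + χ (Y x) • w' := by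
  have h1 := h w (mem_pair_left _ _)
  have h2 := h w' (mem_pair_right _ _)
  have h3 : ∀ x, (rk1 1 w' χ * Y * rk1 1 (-w') χ) x = Y x - χ x • w + χ (Y x) • w' := fun x ↦ by
    rw [conj_tv_apply, hYw, h1, mul_zero, sub_zero]
  exact ⟨cj_tv Y h2, by simp [h3, h1, h2, hYw], h3⟩

theorem fix_ns (h3 : 3 ≤ finrank F V) (hT : LinearMap.det T ≠ 0) (hY : LinearMap.det Y ≠ 0)
    (hYw : Y w' = w) (hw' : w' ∉ span F {w}) :
    ∃ Y', Cj Y Y' ∧ Y' w' = w ∧ NSq T Y' w ∧ ∀ κ, Rq T Y w κ → Rq T Y' w κ := by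
  by_cases hn : NSq T Y w
  · exact ⟨Y, Cj.refl Y, hYw, hn, fun _ h ↦ h⟩
  simp only [NSq, not_forall, not_exists, not_not] at hn
  obtain ⟨c, hc⟩ := hn
  have hc0 : c ≠ 0 := by
    rintro rfl
    obtain ⟨x, rfl⟩ := surj_of_det hT w'
    exact hw' (by simpa using hc x)
  obtain ⟨e, χ, h1, h2⟩ := exists_ann (span_pair_ne_top h3 w w')
  obtain ⟨k1, k2, k3⟩ := conj_w' hYw h2
  generalize rk1 1 w' χ * Y * rk1 1 (-w') χ = Y' at k1 k2 k3
  have key : ∀ (U : Submodule F V) (d : F) (z : V), w ∈ U → (∀ x, T x - d • Y' x ∈ U) →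
      (c - d) • z - (d * χ z) • w' ∈ U := by
    intro U d z hU h
    obtain ⟨x, rfl⟩ := surj_of_det hY z
    convert U.sub_mem (U.sub_mem (h x) ((span_singleton_le_iff_mem w U).2 hU (hc x)))
      (U.smul_mem (d * χ x) hU) using 1
    rw [k3]; module
  refine ⟨Y', k1, k2, fun d ↦ ?_, fun d hd u ↦ ?_⟩ <;> by_contra! h
  · by_cases e1 : d = c
    · exact hw' ((smul_mem_iff _ hc0).1
        (by simpa [e1, h1] using key _ d e (mem_span_singleton_self w) h))
    · have := key _ d w' (mem_span_singleton_self w) h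
      rw [h2 w' (mem_pair_right _ _), mul_zero, zero_smul, sub_zero] at this
      exact hw' ((smul_mem_iff _ (sub_ne_zero.2 (Ne.symm e1))).1 this)
  · have e1 : c - d ≠ 0 := fun e ↦ by
      obtain ⟨x, hx⟩ := hd 0
      exact hx (line_le_pair _ _ (sub_eq_zero.1 e ▸ hc x))
    have a1 : w' ∈ span F {w, u} := by
      have := key _ d w' (mem_pair_left _ _) h
      rw [h2 w' (mem_pair_right _ _), mul_zero, zero_smul, sub_zero] at this
      exact (smul_mem_iff _ e1).1 this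
    refine span_pair_ne_top h3 w u (eq_top_iff.2 fun z _ ↦ (smul_mem_iff _ e1).1 ?_)
    simpa using add_mem (key _ d z (mem_pair_left _ _) h) (smul_mem _ (d * χ z) a1)

theorem steer_A (hY : LinearMap.det Y ≠ 0) (hYw : Y w' = w) (hw' : w' ∉ span F {w}) (hκ : κ ≠ 0)
    {x₀ : V} (h0 : T x₀ - κ • Y x₀ ∉ span F {w, w'}) (h1 : span F {w, w', Y x₀} ≠ ⊤) :
    ∃ Y', Cj Y Y' ∧ Y' w' = w ∧ Rq T Y' w κ := by
  obtain ⟨e, χ, c1, c2⟩ := exists_ann h1
  obtain ⟨x₁, rfl⟩ := surj_of_det hY e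
  have hz : ∀ s : F, s • (T x₀ - κ • Y x₀) ∈ span F {w, w'} → s = 0 := fun s hs ↦ by
    by_contra e; exact h0 ((smul_mem_iff _ e).1 hs)
  by_cases h2 : T x₁ - κ • Y x₁ ∈ span F {w, T x₀ - κ • Y x₀}
  · obtain ⟨a, b, hab⟩ := mem_span_pair.1 h2
    obtain ⟨k1, k2, k3⟩ := conj_w' hYw (χ := χ) fun x hx ↦ c2 x (span_mono (by grind) hx)
    refine ⟨_, k1, k2, rq_of_two (a := x₀) (b := x₁) fun s t hst ↦ ?_⟩
    rw [k3, k3, c1, c2 (Y x₀) (subset_span (by simp))] at hst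
    have a1 : (s + t * b) • (T x₀ - κ • Y x₀) - (t * κ) • w' ∈ span F {w} := by
      convert sub_mem hst (smul_mem _ (s * κ * χ x₀ + t * κ * χ x₁ + t * a)
        (mem_span_singleton_self w)) using 1
      linear_combination (norm := module) t • hab
    have a2 := hz _ (by
      simpa using add_mem (line_le_pair w w' a1) (smul_mem _ (t * κ) (mem_pair_right w w')))
    have a3 : t = 0 := by
      by_contra e
      exact hw' ((smul_mem_iff _ (mul_ne_zero e hκ)).1 (by simpa [a2] using a1))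
    exact ⟨by simpa [a3] using a2, a3⟩
  · refine ⟨Y, Cj.refl Y, hYw, rq_of_two (a := x₀) (b := x₁) fun s t hst ↦ ?_⟩
    have a3 : t = 0 := by
      by_contra e
      refine h2 ((smul_mem_iff _ e).1 ?_)
      simpa using sub_mem (line_le_pair w (T x₀ - κ • Y x₀) hst) (smul_mem _ s (mem_pair_right _ _))
    exact ⟨hz s (line_le_pair _ _ (by simpa [a3] using hst)), a3⟩

theorem steer_0 (h3 : 3 ≤ finrank F V) (hA : NSc A) (hw : w ≠ 0) (hw' : w' ∉ span F {w}) :
    ∃ Y, Cj A Y ∧ Y w' = w := by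
  obtain ⟨v, v0, hv⟩ := hA.exists_vec
  obtain ⟨g, g1, g2⟩ := exists_sl_map (p := ![v, A v]) (q := ![w', w])
    ((LinearIndependent.pair_iff' v0).2 fun c e ↦ hv c e.symm) (li_pair hw hw') (by omega)
  obtain ⟨g', -, g3⟩ := exists_inv (g1 ▸ one_ne_zero : LinearMap.det g ≠ 0)
  refine ⟨_, cj_conj A g1 g3, ?_⟩
  rw [← show g v = w' from g2 0, ← show g (A v) = w from g2 1]
  simp [← End.mul_apply g' g, g3]

theorem steer_1 (h3 : 3 ≤ finrank F V) (hA : LinearMap.det A ≠ 0) (hT : LinearMap.det T ≠ 0)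
    {v : V} (hv : 3 ≤ finrank F (cyc A v)) (hw : w ≠ 0) (hw' : w' ∉ span F {w}) (hκ : κ ≠ 0) :
    ∃ Y, Cj A Y ∧ Y w' = w ∧ Rq T Y w κ := by
  have hU := span_pair_ne_top h3 w w'
  obtain ⟨y, y1, y2⟩ := exists_notMem_two hU (U' := (span F {w, w'}).comap T) fun e ↦
    hU (eq_top_iff.2 fun z _ ↦ by
      obtain ⟨x, rfl⟩ := surj_of_det hT z
      exact (e ▸ mem_top : x ∈ (span F {w, w'}).comap T))
  obtain ⟨s, g, hs, g1, g2, g3⟩ := exists_sl_map' (p₀ := v) (p := ![A v, A (A v)]) (q₀ := y)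
    (q := ![w', w]) (Fintype.linearIndependent_iff.2 fun c hc i ↦ by
      have := cyc_indep_three hv (a := c 0) (b := c 1) (c := c 2)
        (by simpa [Fin.sum_univ_three, add_assoc] using hc)
      fin_cases i
      exacts [this.1, this.2.1, this.2.2])
    (linearIndependent_finCons.2 ⟨li_pair hw hw', by simpa [Set.pair_comm] using y1⟩)
  obtain ⟨g', -, g4⟩ := exists_inv (g1 ▸ one_ne_zero : LinearMap.det g ≠ 0)
  have hY := cj_conj A g1 g4
  have e : ∀ x, (g * A * g') (g x) = g (A x) := fun x ↦ by simp [← End.mul_apply g' g, g4]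
  have e1 : (g * A * g') w' = w := by rw [← show g (A v) = w' from g3 0, e]; exact g3 1
  have e2 : (g * A * g') (s • y) = w' := by rw [← g2, e]; exact g3 0
  obtain ⟨Y', k1, k2⟩ := steer_A (T := T) (hY.cg.det_eq ▸ hA) e1 hw' hκ (x₀ := s • y) (fun h ↦ by
    rw [e2, map_smul] at h
    exact y2 ((smul_mem_iff _ hs).1 (by
      simpa using add_mem h (smul_mem _ κ (mem_pair_right w w'))))) (by simpa [e2] using hU)
  exact ⟨Y', hY.trans k1, k2⟩

omit [FiniteDimensional F V] in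
theorem vec_of_notMem (hw : w ≠ 0) (hYw : Y w' = w) (hw' : w' ∉ span F {w}) (c : F) :
    Y w' ≠ c • w' := fun e ↦ by
  rw [hYw] at e
  have hc : c ≠ 0 := by rintro rfl; exact hw (by simpa using e)
  exact hw' (mem_span_singleton.2 ⟨c⁻¹, by rw [e, smul_smul, inv_mul_cancel₀ hc, one_smul]⟩)

theorem Cg.quad {A X : End F V} (h : Cg A X) {a b : F} (hq : ∀ x, A (A x) = a • A x + b • x) :
    ∀ x, X (X x) = a • X x + b • x := by
  obtain ⟨e, he⟩ := h.sim
  intro x
  obtain ⟨x, rfl⟩ := e.surjective x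
  simp [← he, hq]

omit [FiniteDimensional F V] in
theorem inv_quad {a b : F} (hq : ∀ x, Y (Y x) = a • Y x + b • x) (v : V) :
    ∀ x ∈ span F {v, Y v}, Y x ∈ span F {v, Y v} := fun x hx ↦ by
  obtain ⟨s, t, rfl⟩ := mem_span_pair.1 hx
  exact mem_span_pair.2 ⟨t * b, s + t * a, by rw [map_add, map_smul, map_smul, hq]; module⟩

theorem steer_2 (h4 : 4 ≤ finrank F V) (hA : LinearMap.det A ≠ 0) {a b : F}
    (hq : ∀ x, A (A x) = a • A x + b • x) (hr : ∀ ν, Rk2 A ν) (hw : w ≠ 0) (hw' : w' ∉ span F {w})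
    (hκ : κ ≠ 0) : ∃ Y, Cj A Y ∧ Y w' = w ∧ Rq T Y w κ := by
  obtain ⟨Y, hY, hYw⟩ := steer_0 (by omega) (A := A) (fun c e ↦ by
    obtain ⟨x, hx⟩ := hr c 0
    exact hx 0 (by simp [e])) hw hw'
  suffices ∃ Y' x₀, Cj Y Y' ∧ Y' w' = w ∧ T x₀ - κ • Y' x₀ ∉ span F {w, w'} by
    obtain ⟨Y', x₀, k1, k2, k3⟩ := this
    obtain ⟨Y'', k4, k5⟩ := steer_A ((hY.trans k1).cg.det_eq ▸ hA) k2 hw' hκ k3
      (span_triple_ne_top h4 _ _ _)
    exact ⟨Y'', (hY.trans k1).trans k4, k5⟩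
  by_cases h : ∀ x, T x - κ • Y x ∈ span F {w, w'}
  swap
  · push Not at h
    obtain ⟨x, hx⟩ := h
    exact ⟨Y, x, Cj.refl Y, hYw, hx⟩
  have hq' := hY.cg.quad hq
  have hU : span F {w', Y w'} = span F {w, w'} := by rw [hYw, Set.pair_comm]
  obtain ⟨z, -, hz⟩ := NSc.exists_vec (T := qm Y _ (inv_quad hq' w')) fun ν e ↦
    not_rk2_of_quad hq' (vec_of_notMem hw hYw hw') (span_pair_ne_top (by omega) _ _) (fun x ↦
      (Submodule.Quotient.eq _).1 (LinearMap.congr_fun e ((span F {w', Y w'}).mkQ x)))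
      (hY.cg.rk2 (hr ν))
  obtain ⟨z, rfl⟩ := (span F {w', Y w'}).mkQ_surjective z
  obtain ⟨e, χ, c1, c2⟩ := exists_ann (span_triple_ne_top h4 w w' z)
  refine ⟨_, e, cj_tv Y (c2 z (subset_span (by simp))), by
    rw [conj_tv_apply]; simp [hYw, c2 w (subset_span (by simp)), c2 w' (subset_span (by simp))],
    fun k ↦ hz (χ (Y e) - χ (Y z)) ((Submodule.Quotient.eq _).2 ?_)⟩
  rw [hU]
  refine (smul_mem_iff _ hκ).1 ?_
  convert sub_mem k (h e) using 1
  rw [conj_tv_apply, c1]; module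

theorem not_rk2_three (h3 : finrank F V = 3) {a b : F} (hq : ∀ x, T (T x) = a • T x + b • x)
    (hT : NSc T) : ∃ ν, ¬ Rk2 T ν := by
  obtain ⟨v, v0, hv⟩ := hT.exists_vec
  obtain ⟨e, χ, c1, c2⟩ := exists_ann (span_pair_ne_top h3.ge v (T v))
  have hU : span F {v, T v} = LinearMap.ker χ := by
    refine eq_of_le_of_finrank_le c2 ?_
    have a1 := finrank_ker_add_one c1
    have a2 := finrank_span_eq_card ((LinearIndependent.pair_iff' v0).2 fun c e ↦ hv c e.symm)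
    rw [Matrix.range_cons_cons_empty, Fintype.card_fin] at a2
    omega
  refine ⟨χ (T e), not_rk2_of_quad hq hv (span_pair_ne_top h3.ge _ _) fun x ↦ ?_⟩
  have := inv_quad hq v (x - χ x • e) (by rw [hU]; simp [c1])
  rw [hU] at this ⊢
  simp only [LinearMap.mem_ker, map_sub, map_smul, smul_eq_mul] at this ⊢
  linear_combination this

theorem steer_3 {m : ℕ} (hm : finrank F V = m + 3) {μ : F} (hμ : μ ≠ 0) {u : V} {φ : Dual F V}
    (hA : NSc (rk1 μ u φ)) (h0 : φ u = 0) (hT : NSc T) (hr : Rk2 T (μ ^ (m + 3)))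
    (hd : LinearMap.det T = LinearMap.det (rk1 μ u φ) ^ (m + 3)) (hw : w ≠ 0)
    (hw' : w' ∉ span F {w}) (hTw : T w' = μ ^ (m + 2) • w)
    (hc : T w ∉ span F {w, w'} ∨ ∃ a b : F, ∀ x, T (T x) = a • T x + b • x) :
    ∃ Y, Cj (rk1 μ u φ) Y ∧ Y w' = w ∧ Rq T Y w (μ ^ (m + 2)) := by
  obtain ⟨Y, hY, hYw⟩ := steer_0 (by omega) hA hw hw'
  have hκ := pow_ne_zero (m + 2) hμ
  have hdA : LinearMap.det (rk1 μ u φ) = μ ^ (m + 3) := by simp [det_rk1 hμ, h0, hm]
  have hdY : LinearMap.det Y = μ ^ (m + 3) := hY.cg.det_eq.trans hdA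
  obtain ⟨u', φ', rfl⟩ := not_rk2 fun h ↦ not_rk2_rk1 μ u φ (hY.cg.symm.rk2 h)
  have hu' : ∀ x, rk1 μ u' φ' x - μ • x ∈ span F {w, w'} := fun x ↦ by
    have e : φ' w' • u' = w - μ • w' := by rw [← hYw, rk1_apply]; abel
    have e0 : φ' w' ≠ 0 := fun k ↦ vec_of_notMem hw hYw hw' μ (by simp [rk1_apply, k])
    rw [rk1_apply, add_sub_cancel_left]
    exact smul_mem _ _ ((smul_mem_iff _ e0).1
      (e ▸ sub_mem (mem_pair_left _ _) (smul_mem _ _ (mem_pair_right _ _))))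
  have fin : ∀ x₀, T x₀ - μ ^ (m + 2) • rk1 μ u' φ' x₀ ∉ span F {w, w'} →
      span F {w, w', rk1 μ u' φ' x₀} ≠ ⊤ →
      ∃ Y, Cj (rk1 μ u φ) Y ∧ Y w' = w ∧ Rq T Y w (μ ^ (m + 2)) := fun x₀ k1 k2 ↦
    let ⟨Y', k3, k4⟩ := steer_A (hdY ▸ pow_ne_zero _ hμ) hYw hw' hκ k1 k2
    ⟨Y', hY.trans k3, k4⟩
  have hYU : rk1 μ u' φ' w ∈ span F {w, w'} := by
    simpa using add_mem (hu' w) (smul_mem _ μ (mem_pair_left w w'))
  rcases hc with hc | ⟨a, b, hq⟩
  · refine fin w (fun k ↦ hc (by simpa using add_mem k (smul_mem _ (μ ^ (m + 2)) hYU))) fun k ↦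
      span_pair_ne_top (by omega) w w' (eq_top_iff.2 (k ▸ span_le.2 ?_))
    simp [Set.insert_subset_iff, mem_pair_left, mem_pair_right, hYU]
  have hU : span F {w', T w'} = span F {w, w'} := by
    rw [hTw, Set.pair_comm]
    exact le_antisymm (span_le.2 (by simp [Set.insert_subset_iff, mem_pair_left, mem_pair_right,
      smul_mem])) (span_le.2 (by
        simp only [Set.insert_subset_iff, Set.singleton_subset_iff, SetLike.mem_coe]
        exact ⟨(smul_mem_iff _ hκ).1 (mem_pair_left _ _), mem_pair_right _ _⟩))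
  obtain ⟨x₀, hx⟩ : ∃ x, T x - μ ^ (m + 3) • x ∉ span F {w, w'} := by
    by_contra! k
    exact not_rk2_of_quad hq (vec_of_notMem (smul_ne_zero hκ hw) hTw
      (by rwa [span_singleton_smul_eq hκ.isUnit])) (span_pair_ne_top (by omega) _ _) (hU ▸ k) hr
  have hx' : T x₀ - μ ^ (m + 2) • rk1 μ u' φ' x₀ ∉ span F {w, w'} := fun k ↦ hx (by
    convert add_mem k (smul_mem _ (μ ^ (m + 2)) (hu' x₀)) using 1
    rw [pow_succ μ (m + 2)]; module)
  rcases Nat.eq_zero_or_pos m with rfl | hm0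
  swap
  · exact fin x₀ hx' (span_triple_ne_top (by omega) _ _ _)
  obtain ⟨ν, hν⟩ := not_rk2_three hm hq hT
  obtain ⟨u₁, φ₁, rfl⟩ := not_rk2 hν
  have hν0 : ν ≠ 0 := mu_ne_zero (u := u₁) (φ := φ₁) (by omega) (by rw [hd, hdA]; simp [hμ])
  have h1 : φ' u' = 0 := by simpa [det_rk1 hμ, hm, hμ] using hdY
  refine ⟨_, hY, hYw, rq_of_two (a := x₀) (b := w) fun s t hst ↦ ?_⟩
  have hTU : rk1 ν u₁ φ₁ w ∈ span F {w, w'} := hU ▸ inv_quad hq w' w (hU ▸ mem_pair_left _ _)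
  have hs : s = 0 := by
    by_contra e
    refine hx' ((smul_mem_iff _ e).1 ?_)
    have := sub_mem (line_le_pair w w' hst)
      (smul_mem _ t (sub_mem hTU (smul_mem _ (μ ^ (0 + 2)) hYU)))
    rwa [add_sub_cancel_right] at this
  refine ⟨hs, by_contra fun ht ↦ ?_⟩
  rw [hs, zero_smul, zero_add, smul_mem_iff _ ht] at hst
  have e1 := rk1_sq ν u₁ φ₁ w'
  have e2 := rk1_sq μ u' φ' w'
  rw [hTw, map_smul] at e1
  rw [hYw, h1] at e2
  have e3 : μ ^ 6 - ν * (ν + φ₁ u₁) = 0 := by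
    by_contra k
    refine hw' ((smul_mem_iff _ k).1 ?_)
    convert sub_mem (smul_mem _ (μ ^ 2) hst) (smul_mem _ ((2 * ν + φ₁ u₁) * μ ^ 2 - 2 * μ ^ 5)
      (mem_span_singleton_self w)) using 1
    linear_combination (norm := module) μ ^ 4 • e2 - e1
  rw [hdA, det_rk1 hν0, hm] at hd
  have e4 : ν = μ ^ 3 := by
    refine mul_right_cancel₀ (pow_ne_zero 6 hμ) ?_
    linear_combination hd + ν * e3 - ν ^ 2 * φ₁ u₁ * mul_inv_cancel₀ hν0
  exact not_rk2_rk1 _ _ _ (e4 ▸ hr)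

/-- Moving the peeled vector into general position. -/
theorem pick_w (h2 : 2 ≤ finrank F V) (hT : LinearMap.det T ≠ 0) (hn : NSc T) (hw : w ≠ 0)
    (hκ : κ ≠ 0) : ∃ T' w', Cj T' T ∧ w' ∉ span F {w} ∧ T' w' = κ • w ∧
      (T' w ∉ span F {w, w'} ∨ ∃ a b : F, ∀ x, T' (T' x) = a • T' x + b • x) := by
  obtain ⟨v, R, f, -, -, hf, hd, h0, -, -, h1⟩ := exists_state' hT
  have hd2 := h1 hn
  have hv : T v ≠ 0 := fun e ↦ by simpa using cyc_indep_two hd2 (a := 0) (b := 1) (by simp [e])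
  obtain ⟨g, g1, g2⟩ := exists_sl_map (F := F) (p := ![T v]) (q := ![w])
    (linearIndependent_unique_iff.2 hv) (linearIndependent_unique_iff.2 hw) (by omega)
  obtain ⟨g', -, g3⟩ := exists_inv (g1 ▸ one_ne_zero : LinearMap.det g ≠ 0)
  obtain rfl : g (T v) = w := g2 0
  have e : ∀ x, g' (g x) = x := LinearMap.congr_fun g3
  have hc := cj_conj T g1 g3
  refine ⟨_, κ • g v, hc.symm, fun h ↦ ?_, by simp [e], ?_⟩
  · obtain ⟨c, hc⟩ := mem_span_singleton.1 h
    have := congrArg g' hc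
    simp only [map_smul, e] at this
    exact hκ (by simpa using (cyc_indep_two hd2 (a := -κ) (b := c) (by rw [this]; simp)).1)
  · rcases hd2.eq_or_lt with h | h
    · obtain ⟨a, b, hq⟩ := exists_quadratic hf (by omega) h0
      exact Or.inr ⟨a, b, hc.cg.quad hq⟩
    · refine Or.inl fun k ↦ ?_
      obtain ⟨s, t, hst⟩ := mem_span_pair.1 k
      have := congrArg g' hst
      simp only [map_add, map_smul, End.mul_apply, e] at this
      simpa using cyc_indep_three h (a := t * κ) (b := s) (c := -1) (by rw [← this]; module)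

end Steer

end CL.Lv
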