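/-
Lev's covering number: the induction on the dimension.
-/
import Cfsg.Agent.Cls.LvSteer

set_option autoImplicit false

namespace CL.Lv

open Module Polynomial CL.SLn Submodule

variable {F : Type*} [Field F]

section Aux

variable {V : Type*} [AddCommGroup V] [Module F V] [FiniteDimensional F V]

theorem r1_base (h2 : finrank F V = 2) {T : End F V} {μ : F} {u : V} {φ : Dual F V} (hu : u ≠ 0)
    (hφ : φ ≠ 0) (hA : LinearMap.det (rk1 μ u φ) ≠ 0) (hT : NSc T)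
    (hd : LinearMap.det T = LinearMap.det (rk1 μ u φ) ^ 2) (hr : φ u = 0 → Rk2 T (μ ^ 2)) :
    Tup (Cg (rk1 μ u φ)) 2 T fun ν ↦ ν = μ := by
  have hμ := mu_ne_zero h2.ge hA
  obtain ⟨v, v0, hv⟩ := hT.exists_vec
  obtain ⟨e, he⟩ : ∃ e, T v = (μ * (μ + φ u)) • v + e := ⟨_, (add_sub_cancel _ _).symm⟩
  obtain ⟨θ₂, a1, a2⟩ := exists_dual_pair (u := v) (v := e) fun c k ↦
    hv (μ * (μ + φ u) + c) (by rw [he, ← k, add_smul])
  obtain ⟨θ₁, b1, b2⟩ := exists_dual_pair (F := F) (u := e) (v := v) fun c k ↦ v0 (by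
    have : c = 0 := by simpa [a1, a2] using congrArg θ₂ k
    rw [← k, this, zero_smul])
  have hall : ∀ y, y = θ₁ y • v + θ₂ y • e := fun y ↦ by
    have hl : LinearIndependent F ![v, e] := (LinearIndependent.pair_iff' v0).2 fun c k ↦ by
      simpa [a1, a2] using congrArg θ₂ k
    have := hl.span_eq_top_of_card_eq_finrank' (by simp [h2])
    rw [Matrix.range_cons_cons_empty] at this
    obtain ⟨s, t, rfl⟩ := mem_span_pair.1 (this ▸ mem_top : y ∈ span F {v, e})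
    simp [a1, a2, b1, b2]
  have hθ₁ : θ₁ ≠ 0 := fun k ↦ by simp [k] at b1
  have hθ₂ : θ₂ ≠ 0 := fun k ↦ by simp [k] at a1
  have hu₁ : φ u • v + μ⁻¹ • e ≠ 0 := fun k ↦ by simpa [a1, a2, hμ] using congrArg θ₂ k
  have c1 : Cg (rk1 μ u φ) (rk1 μ (φ u • v + μ⁻¹ • e) θ₁) :=
    cg_rk1 μ hu hu₁ hφ hθ₁ (by simp [b1, b2])
  obtain ⟨X', x1, x2⟩ := exists_inv (c1.det_eq ▸ hA :
    LinearMap.det (rk1 μ (φ u • v + μ⁻¹ • e) θ₁) ≠ 0)
  have e1 : X' (T v) = μ • v := by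
    have : rk1 μ (φ u • v + μ⁻¹ • e) θ₁ (μ • v) = T v := by
      rw [he, rk1_apply, map_smul, b1]
      linear_combination (norm := module) (mul_inv_cancel₀ hμ) • e
    rw [← this, ← End.mul_apply, x2]; rfl
  have e2 : X' * T = rk1 μ (X' (T e) - μ • e) θ₂ := LinearMap.ext fun y ↦ by
    have k := congrArg (fun z ↦ X' (T z)) (hall y)
    simp only [map_add, map_smul, e1] at k
    rw [rk1_apply, End.mul_apply, k]
    linear_combination (norm := module) -(μ • hall y)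
  generalize X' (T e) - μ • e = u₂ at e2
  have e3 : T = rk1 μ (φ u • v + μ⁻¹ • e) θ₁ * rk1 μ u₂ θ₂ := by
    rw [← e2, ← mul_assoc, x1, one_mul]
  have e4 : φ u = θ₂ u₂ := by
    have := congrArg LinearMap.det e3
    rw [map_mul, c1.det_eq, hd, pow_two] at this
    have := mul_left_cancel₀ hA this
    rw [det_rk1 hμ, det_rk1 hμ] at this
    simpa [hμ] using this
  have hu₂ : u₂ ≠ 0 := by
    rintro rfl
    refine not_rk2_rk1 (μ ^ 2) (φ u • v + μ⁻¹ • e) (μ • θ₁) ?_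
    convert hr (by simpa using e4) using 1
    rw [e3]
    ext y
    simp only [End.mul_apply, rk1_apply, map_add, map_smul, LinearMap.smul_apply, smul_eq_mul,
      map_zero]
    module
  refine ⟨[rk1 μ (φ u • v + μ⁻¹ • e) θ₁, rk1 μ u₂ θ₂], rfl, ?_, by simp [← e3], ?_⟩
  · simpa using ⟨c1, cg_rk1 μ hu hu₂ hφ hθ₂ e4⟩
  · rintro ν rfl y hy
    simp only [List.mem_cons, List.not_mem_nil, or_false, forall_eq_or_imp, forall_eq, rk1_apply,
      add_eq_left, smul_eq_zero, hu₁, hu₂] at hy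
    rw [hall y, hy.1, hy.2]; simp

theorem Tup.np_all {μ : F} {u : V} {φ : Dual F V} {N : ℕ} {T : End F V}
    (h : Tup (Cg (rk1 μ u φ)) N T fun ν ↦ ν = μ) (hr : Rk2 T (μ ^ N)) :
    Tup (Cg (rk1 μ u φ)) N T fun _ ↦ True := by
  obtain ⟨L, rfl, h2, rfl, h4⟩ := h
  refine ⟨L, rfl, h2, rfl, fun ν _ y hy ↦ ?_⟩
  by_cases e : ν = μ
  · exact h4 ν e y hy
  by_contra y0
  obtain ⟨x, hx⟩ := hr y
  obtain ⟨a, ha⟩ := mem_span_singleton.1 (prod_mod (W := span F {y}) (l := μ) (y := x) L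
    (fun X hX ↦ inv_line (hy X hX)) fun X hX ↦ by
      obtain ⟨u', φ', rfl⟩ := not_rk2 fun h ↦ not_rk2_rk1 μ u φ ((h2 X hX).symm.rk2 h)
      have k : φ' y • u' = (ν - μ) • y := by
        have := hy _ hX
        rw [rk1_apply] at this
        linear_combination (norm := module) this
      have k0 : φ' y ≠ 0 := fun z ↦ smul_ne_zero (sub_ne_zero.2 e) y0 (by rw [← k, z, zero_smul])
      rw [rk1_apply, add_sub_cancel_left]
      exact smul_mem _ _ ((smul_mem_iff _ k0).1 (k ▸ smul_mem _ _ (mem_span_singleton_self y))))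
  exact hx a ha.symm

theorem Tup.noEig {A T : End F V} {N : ℕ} {np : F → Prop} (h : Tup (Cj A) (N + 1) T np)
    (hA : NoEig A) : Tup (Cj A) (N + 1) T fun _ ↦ True := by
  obtain ⟨L, h1, h2, h3, -⟩ := h
  obtain ⟨X, hX⟩ := List.exists_mem_of_length_eq_add_one h1
  exact ⟨L, h1, h2, h3, fun ν _ y hy ↦ (h2 X hX).cg.noEig hA ν y (hy X hX)⟩

theorem noEig_of_rk2 (h2 : finrank F V = 2) {A : End F V} (h : ∀ ν, Rk2 A ν) : NoEig A := by
  intro c x hx
  by_contra x0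
  obtain ⟨θ, hθ⟩ := exists_dual_eq_one (F := F) x0
  obtain ⟨e, he⟩ := finrank_le_one_iff.1
    (show finrank F (LinearMap.ker θ) ≤ 1 by have := finrank_ker_add_one hθ; omega)
  obtain ⟨y, hy⟩ := h c (A e - c • e)
  obtain ⟨a, ha⟩ := he ⟨y - θ y • x, by simp [hθ]⟩
  have ha' : a • (e : V) = y - θ y • x := congrArg Subtype.val ha
  refine hy a ?_
  rw [smul_sub, ← map_smul, smul_comm, ha', map_sub, map_smul, hx]
  module

omit [FiniteDimensional F V] in
theorem aeval_spl_ne {A : End F V} (hA : NoEig A) {x : V} (hx : x ≠ 0) (s : Multiset F) :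
    aeval A (spl s) x ≠ 0 := fun h ↦
  let ⟨a, _, y, _, y0, hy⟩ := exists_eig (U := ⊤) (by simp) mem_top hx h; y0 (hA a y hy)

theorem cyc_of_three (h3 : finrank F V = 3) {A : End F V} (hA : LinearMap.det A ≠ 0)
    (hr : ∀ ν, Rk2 A ν) : Cyc A := by
  have hn : NSc A := fun c e ↦ let ⟨x, hx⟩ := hr c 0; hx 0 (by simp [e])
  obtain ⟨v, R, f, -, -, hf, hd, h0, -, -, h1⟩ := exists_state' hA
  rcases (h1 hn).eq_or_lt with h | h
  · obtain ⟨a, b, hq⟩ := exists_quadratic hf (by omega) h0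
    obtain ⟨ν, hν⟩ := not_rk2_three h3 hq hn
    exact absurd (hr ν) hν
  · exact ⟨v, eq_top_of_finrank_eq (le_antisymm (finrank_le _) (by omega))⟩

end Aux

universe u

theorem r1_ind (m : ℕ) : ∀ (V : Type u) [AddCommGroup V] [Module F V] [FiniteDimensional F V]
    (T : End F V) (μ : F) (u : V) (φ : Dual F V), finrank F V = m + 2 → u ≠ 0 → φ ≠ 0 →
    LinearMap.det (rk1 μ u φ) ≠ 0 → NSc T →
    LinearMap.det T = LinearMap.det (rk1 μ u φ) ^ (m + 2) → (φ u = 0 → Rk2 T (μ ^ (m + 2))) →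
    Tup (Cg (rk1 μ u φ)) (m + 2) T fun ν ↦ ν = μ := by
  induction m with
  | zero => exact fun V _ _ _ T μ u φ hV ↦ r1_base hV
  | succ m ih =>
    intro V _ _ _ T μ u φ hV hu hφ hA hT hd hr
    have hμ := mu_ne_zero (by omega) hA
    obtain ⟨w, hw, hwu⟩ : ∃ x, φ x = 0 ∧ x ∉ span F {u} := by
      by_contra! k
      have a1 := finrank_mono (show LinearMap.ker φ ≤ span F {u} from k)
      have a2 := φ.finrank_range_add_finrank_ker
      have a3 := finrank_le (LinearMap.range φ)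
      rw [finrank_span_singleton hu] at a1
      rw [finrank_self] at a3
      omega
    have w0 : w ≠ 0 := fun e ↦ hwu (by simp [e])
    have huw : u ∉ span F {w} := fun k ↦ by
      obtain ⟨c, rfl⟩ := mem_span_singleton.1 k
      exact hwu ((smul_mem_iff _ (left_ne_zero_of_smul hu)).1 (mem_span_singleton_self _))
    have hn : NSc (rk1 μ u φ) := fun c e ↦ by
      obtain ⟨x, hx⟩ := DFunLike.ne_iff.1 hφ
      have e1 : μ = c := smul_left_injective F w0 (by simpa [rk1_apply, hw] using LinearMap.congr_fun e w)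
      exact smul_ne_zero hx hu (by simpa [rk1_apply, e1] using LinearMap.congr_fun e x)
    have hAw : rk1 μ u φ w = μ • w := by simp [rk1_apply, hw]
    have hdT : LinearMap.det T ≠ 0 := hd ▸ pow_ne_zero _ hA
    obtain ⟨T', w', t1, t2, t3, t4⟩ := pick_w (by omega) hdT hT w0 (pow_ne_zero (m + 2) hμ)
    have hd' := t1.cg.det_eq.symm.trans hd
    obtain ⟨Y, y1, y2, y3⟩ : ∃ Y, Cj (rk1 μ u φ) Y ∧ Y w' = w ∧
        (φ u = 0 → Rq T' Y w (μ ^ (m + 2))) := by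
      by_cases h0 : φ u = 0
      · obtain ⟨Y, k1, k2, k3⟩ := steer_3 hV hμ hn h0 (t1.cg.symm.nsc hT)
          (t1.cg.symm.rk2 (hr h0)) hd' w0 t2 t3 t4
        exact ⟨Y, k1, k2, fun _ ↦ k3⟩
      · obtain ⟨Y, k1, k2⟩ := steer_0 (by omega) hn w0 t2
        exact ⟨Y, k1, k2, fun h ↦ absurd h h0⟩
    obtain ⟨Y', z1, z2, z3, z4⟩ := fix_ns (T := T') (by omega) (hd' ▸ pow_ne_zero _ hA)
      (y1.cg.det_eq ▸ hA) y2 t2
    refine ((step (np := fun ν ↦ ν = μ) hA w0 hAw (y1.trans z1) z2 t2 t3 hd' rfl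
      fun h e1 e2 ↦ ?_).of_cj t1).cg
    let φ' : Dual F (V ⧸ span F {w}) := (span F {w}).liftQ φ (by simpa using hw)
    have e : qm (rk1 μ u φ) _ (inv_line hAw) = rk1 μ ((span F {w}).mkQ u) φ' :=
      linearMap_qext _ (LinearMap.ext fun x ↦ rfl)
    have hdq := det_qm w0 hAw (inv_line hAw)
    rw [e] at e2 hdq ⊢
    exact ih _ h μ _ φ' (finrank_quot_line w0 hV) (by simpa using huw)
      (fun k ↦ hφ (LinearMap.ext fun x ↦ LinearMap.congr_fun k ((span F {w}).mkQ x)))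
      (right_ne_zero_of_mul (hdq ▸ hA)) (nsc_of_nsq e1 z3) e2
      fun k ↦ rk2_of_rq e1 (z4 _ (y3 k))

theorem r1S (F : Type*) [Field F] : R1S.{u} F := by
  intro _ V _ _ _ T μ u φ h3 hu hφ hA hT hd hr
  obtain ⟨m, hm⟩ : ∃ m, finrank F V = m + 2 := ⟨finrank F V - 2, by omega⟩
  rw [hm] at hd hr ⊢
  exact (r1_ind m V T μ u φ hm hu hφ hA hT hd hr).cj (donto_rk1 h3 μ u φ)

theorem g_ind (h4 : H4 F) (hB : B3S.{u} F) (hI : ITS.{u} F) (hD : DNS.{u} F) (m : ℕ) :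
    ∀ (V : Type u) [AddCommGroup V] [Module F V] [FiniteDimensional F V] (A T : End F V),
    finrank F V = m + 3 → LinearMap.det A ≠ 0 → (∀ ν, Rk2 A ν) → NSc T →
    LinearMap.det T = LinearMap.det A ^ (m + 3) → Tup (Cj A) (m + 3) T fun _ ↦ True := by
  induction m using Nat.strong_induction_on with
  | _ m ih =>
  intro V _ _ _ A T hV hA hr hT hd
  have hn : NSc A := fun c e ↦ let ⟨x, hx⟩ := hr c 0; hx 0 (by simp [e])
  by_cases hE : NoEig A
  · rcases Nat.eq_zero_or_pos m with rfl | hm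
    · obtain ⟨v, v0, -⟩ := hn.exists_vec
      exact (hB h4 V A T 0 hV (hD V A hE (by omega) hV.le).1 hA
        (fun s e ↦ aeval_spl_ne hE v0 s (by rw [e]; rfl)) (fun c x hx x0 ↦ absurd (hE c x hx) x0)
        hT hd).cj (hD V A hE (by omega) hV.le).2
    · obtain ⟨a, R, -, h1, h2, -, -, -, -, h3, -⟩ := exists_state' hA
      exact Tup.noEig (hV ▸ (hI h4 V A a R (by omega) hA h1 h2 (fun c x _ ↦ hE c x)
        fun x _ ↦ h3 x).1 T hT (by rwa [hV])) hE
  simp only [NoEig, not_forall] at hE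
  obtain ⟨l, w, hAw, w0⟩ := hE
  have hl := eig_ne_zero (inj_of_det_ne hA) w0 hAw
  have hq := finrank_quot_line w0 hV
  have hdq : LinearMap.det (qm A _ (inv_line hAw)) ≠ 0 :=
    right_ne_zero_of_mul (det_qm w0 hAw (inv_line hAw) ▸ hA)
  have hdT : LinearMap.det T ≠ 0 := hd ▸ pow_ne_zero _ hA
  obtain ⟨T', w', t1, t2, t3, -⟩ := pick_w (by omega) hdT hT w0 (pow_ne_zero (m + 2) hl)
  have hd' := t1.cg.det_eq.symm.trans hd
  have hdT' : LinearMap.det T' ≠ 0 := hd' ▸ pow_ne_zero _ hA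
  by_cases hr' : ∀ ν, Rk2 (qm A _ (inv_line hAw)) ν
  · rcases m with _ | m
    · have hE := noEig_of_rk2 hq hr'
      have hW : ∀ (c : F) (x : V), A x - c • x ∈ span F {w} → x ∈ span F {w} := fun c x hx ↦
        (Submodule.Quotient.mk_eq_zero _).1 (hE c _ ((Submodule.Quotient.eq _).2 hx))
      obtain ⟨ψ, p1, p2⟩ := exists_dual_of_notMem (W := LinearMap.range (A - l • 1)) (v := w) (by
        rintro ⟨y, hy⟩
        obtain ⟨c, rfl⟩ := mem_span_singleton.1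
          (hW l y (by rw [show A y - l • y = w from hy]; exact mem_span_singleton_self w))
        exact w0 (by rw [← hy]; simp [hAw, smul_comm c l]))
      refine (hB h4 V A T l hV (cyc_of_three hV hA hr) hA (fun s e ↦ ?_) (fun c x hx x0 ↦ ?_)
        hT hd).cj (donto_of_pair hAw (fun x ↦ by simpa [sub_eq_zero] using p2 _ ⟨x, rfl⟩) p1)
      · refine aeval_spl_ne hE (x := (span F {w}).mkQ w') (by simpa using t2) s ?_
        rw [← CL.GLn.aeval_intertwine (f := A) (span F {w}).mkQ (fun _ ↦ rfl), e]; rfl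
      · obtain ⟨a, rfl⟩ := mem_span_singleton.1 (hW c x (by simp [hx]))
        rw [map_smul, hAw, smul_comm] at hx
        exact (smul_left_injective F x0 hx).symm
    · obtain ⟨Y, y1, y2⟩ := steer_0 (by omega) hn w0 t2
      obtain ⟨Y', z1, z2, z3, -⟩ := fix_ns (by omega) hdT' (y1.cg.det_eq ▸ hA) y2 t2
      exact (step hA w0 hAw (y1.trans z1) z2 t2 t3 hd' trivial fun h e1 e2 ↦
        (ih m (by omega) _ _ h hq hdq hr' (nsc_of_nsq e1 z3) e2).cg).of_cj t1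
  push Not at hr'
  obtain ⟨ν, hν⟩ := hr'
  obtain ⟨u, φ, e⟩ := not_rk2 hν
  have hν0 : ν ≠ 0 := mu_ne_zero (u := u) (φ := φ) (by omega) (e ▸ hdq)
  have hn' : NSc (rk1 ν u φ) := fun c k ↦ by
    obtain ⟨x, hx⟩ := hr c w
    obtain ⟨a, ha⟩ := mem_span_singleton.1 ((Submodule.Quotient.eq _).1
      (LinearMap.congr_fun (e.trans k) ((span F {w}).mkQ x)))
    exact hx a ha.symm
  obtain ⟨Y, y1, y2, y3⟩ : ∃ Y, Cj A Y ∧ Y w' = w ∧ Rq T' Y w (ν ^ (m + 2)) := by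
    obtain ⟨v, R, f, -, -, hf, h1, h0, -, -, h2⟩ := exists_state' hA
    rcases (h2 hn).eq_or_lt with h | h
    · obtain ⟨a, b, hq⟩ := exists_quadratic hf (by omega) h0
      refine steer_2 ?_ hA hq hr w0 t2 (pow_ne_zero _ hν0)
      by_contra k
      obtain ⟨c, hc⟩ := not_rk2_three (by omega) hq hn
      exact hc (hr c)
    · exact steer_1 (by omega) hA hdT' h w0 t2 (pow_ne_zero _ hν0)
  obtain ⟨Y', z1, z2, z3, z4⟩ := fix_ns (by omega) hdT' (y1.cg.det_eq ▸ hA) y2 t2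
  refine (step hA w0 hAw (y1.trans z1) z2 t2 t3 hd' trivial fun h e1 e2 ↦ ?_).of_cj t1
  have k := rk2_of_rq e1 (z4 _ y3)
  rw [e] at e2 hdq ⊢
  exact (r1_ind m _ h ν u φ hq (nsc_rk1 hn').1 (nsc_rk1 hn').2 hdq (nsc_of_nsq e1 z3) e2
    fun _ ↦ k).np_all k

theorem gS (hB : B3S.{u} F) (hI : ITS.{u} F) (hD : DNS.{u} F) : GS.{u} F := by
  intro h4 V _ _ _ A T h3 hA hr hT hd
  obtain ⟨m, hm⟩ : ∃ m, finrank F V = m + 3 := ⟨finrank F V - 3, by omega⟩
  rw [hm] at hd ⊢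
  exact g_ind h4 hB hI hD m V A T hm hA hr hT hd

theorem mainS (hG : GS.{u} F) (hS : ScS.{u} F) (hE : ScES.{u} F) : MainS.{u} F := by
  intro h4 V _ _ _ A T h3 hA hn hT
  by_cases hT' : NSc T
  swap
  · simp only [NSc, not_forall, not_not] at hT'
    obtain ⟨c, rfl⟩ := hT'
    have hc : c ≠ 0 := by
      rintro rfl
      simp [LinearMap.det_smul, show finrank F V ≠ 0 by omega] at hT
    obtain ⟨d, hd⟩ := hS h4 V A h3 hA hn
    exact ⟨d * c⁻¹, by rwa [smul_smul, inv_mul_cancel_right₀ hc]⟩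
  refine ⟨1, ?_⟩
  rw [one_smul]
  by_cases hr : ∀ ν, Rk2 A ν
  · exact (hG h4 V A T h3 (by simp [hA]) hr hT' (by simp [hA, hT])).weak
  push Not at hr
  obtain ⟨μ, hμ⟩ := hr
  obtain ⟨u, φ, rfl⟩ := not_rk2 hμ
  obtain ⟨hu, hφ⟩ := nsc_rk1 hn
  by_cases h : φ u = 0 → Rk2 T (μ ^ finrank F V)
  · exact (r1S F h4 V T μ u φ h3 hu hφ (by simp [hA]) hT' (by simp [hA, hT]) h).weak
  push Not at h
  obtain ⟨u', φ', rfl⟩ := not_rk2 h.2
  obtain ⟨hu', hφ'⟩ := nsc_rk1 hT'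
  have hμ0 : μ ≠ 0 := mu_ne_zero (u := u) (φ := φ) (by omega) (by simp [hA])
  have h1 : μ ^ finrank F V = 1 := by simpa [det_rk1 hμ0, h.1] using hA
  have h2 : φ' u' = 0 := by simpa [h1, det_rk1_one] using hT
  have hc := (cg_rk1 μ hu hu' hφ hφ' (h.1.trans h2.symm)).cj (donto_rk1 h3 μ u φ)
  obtain ⟨x, hx, hx'⟩ : ∃ x, φ' x = 0 ∧ x ∉ span F {u'} := by
    by_contra! k
    have a1 := finrank_mono (show LinearMap.ker φ' ≤ span F {u'} from k)
    have a2 := φ'.finrank_range_add_finrank_ker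
    have a3 := finrank_le (LinearMap.range φ')
    rw [finrank_span_singleton hu'] at a1
    rw [finrank_self] at a3
    omega
  have := (hE h4 V _ h3 (hc.cg.det_eq.trans hA)).2.1 μ 1 (φ'.smulRight u') rfl
    (LinearMap.ext fun y ↦ by simp [h2]) ⟨x, by simp [hx], fun y e ↦
      hx' (mem_span_singleton.2 ⟨φ' y, e⟩)⟩
  rw [one_smul] at this
  exact this.mono (fun X hX ↦ hc.trans hX) fun _ k ↦ k

end CL.Lv
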