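/-
Lev's covering number: scalars as products of conjugates (peeling off a line or a plane).
-/
import Cfsg.Agent.Cls.LvBase2

set_option autoImplicit false

namespace CL.Lv

open Module Polynomial CL.SLn Submodule

universe u

variable {F : Type*} [Field F]

namespace P2

section
variable {V : Type*} [AddCommGroup V] [Module F V] {A S : End F V} {W R : Submodule F V}

theorem li4 {a b c d : V} : LinearIndependent F ![a, b, c, d] ↔
    ∀ s t u v : F, s • a + t • b + u • c + v • d = 0 → s = 0 ∧ t = 0 ∧ u = 0 ∧ v = 0 := by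
  rw [Fintype.linearIndependent_iff]
  refine ⟨fun h s t u v e ↦ ?_, fun h g e i ↦ ?_⟩
  · have := h ![s, t, u, v] (by simpa [Fin.sum_univ_four] using e)
    exact ⟨this 0, this 1, this 2, this 3⟩
  · obtain ⟨h0, h1, h2, h3⟩ := h (g 0) (g 1) (g 2) (g 3) (by simpa [Fin.sum_univ_four] using e)
    fin_cases i <;> assumption

theorem rk2_qm (hA : ∀ x ∈ W, A x ∈ W) {ν : F} (a b : V)
    (h : ∀ s t : F, s • (A a - ν • a) + t • (A b - ν • b) ∈ W → s = 0 ∧ t = 0) : Rk2 (qm A W hA) ν :=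
  rk2_of_two (a := W.mkQ a) (b := W.mkQ b) fun s t e ↦ h s t ((Quotient.mk_eq_zero W).1 (by
    change W.mkQ _ = 0
    simpa only [qm_mk, ← map_smul, ← map_sub, ← map_add] using e))

theorem nsc_qm (hS : ∀ x ∈ W, S x ∈ W) (h : ∀ c : F, ¬ ∀ x, S x - c • x ∈ W) : NSc (qm S W hS) :=
  fun c e ↦ h c fun x ↦ (Submodule.Quotient.eq W).1 (LinearMap.congr_fun e (W.mkQ x))

theorem pair_inv {w₁ w₂ : V} {l m : F} (e₁ : A w₁ = l • w₁) (e₂ : A w₂ - m • w₂ ∈ span F {w₁}) :
    ∀ x ∈ span F {w₁, w₂}, A x ∈ span F {w₁, w₂} := fun x hx ↦ by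
  obtain ⟨s, t, rfl⟩ := mem_span_pair.1 hx
  obtain ⟨c, hc⟩ := mem_span_singleton.1 e₂
  exact mem_span_pair.2 ⟨s * l + t * c, t * m, by
    rw [map_add, map_smul, map_smul, e₁, eq_add_of_sub_eq hc.symm]; module⟩

theorem split {C : Submodule F V} (h : IsCompl C R) {x y : V} (hx : x ∈ C) (hy : y ∈ R)
    (e : x + y = 0) : x = 0 ∧ y = 0 := by
  have := disjoint_def.1 h.disjoint x hx (eq_neg_of_add_eq_zero_left e ▸ R.neg_mem hy)
  exact ⟨this, by rwa [this, zero_add] at e⟩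

variable [FiniteDimensional F V]

theorem det_qm (hA : ∀ x ∈ W, A x ∈ W) :
    LinearMap.det A = LinearMap.det (A.restrict hA) * LinearMap.det (qm A W hA) :=
  LinearMap.det_eq_det_mul_det W A hA

theorem det_res (hA : ∀ x ∈ W, A x ∈ W) {l : F} (h : ∀ x ∈ W, A x = l • x) :
    LinearMap.det (A.restrict hA) = l ^ finrank F W := by
  rw [show A.restrict hA = l • 1 from LinearMap.ext fun x ↦ Subtype.ext (h x x.2), LinearMap.det_smul,
    map_one, mul_one]

theorem bot_of_noEig (hR : ∀ x ∈ R, A x ∈ R) (h : ∀ c : F, ∀ x ∈ R, A x = c • x → x = 0)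
    (h1 : finrank F R ≤ 1) : R = ⊥ := eq_bot_iff.2 fun x hx ↦ by
  by_contra h0
  have := eq_of_le_of_finrank_le ((span_singleton_le_iff_mem x R).2 hx)
    (by rwa [finrank_span_singleton h0])
  obtain ⟨c, hc⟩ := mem_span_singleton.1 (this ▸ hR x hx)
  exact h0 (h c x hx hc.symm)

theorem exists_cj (h5 : 5 ≤ finrank F V) {p₁ p₂ q₁ q₂ r₁ r₂ : V}
    (hp : LinearIndependent F ![p₁, p₂, A p₁, A p₂]) (hq : LinearIndependent F ![q₁, q₂, r₁, r₂]) :
    ∃ Y, Cj A Y ∧ Y q₁ = r₁ ∧ Y q₂ = r₂ := by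
  obtain ⟨g, h1, h2⟩ := exists_sl_map hp hq h5
  obtain ⟨g', -, k⟩ := exists_inv (h1 ▸ one_ne_zero : LinearMap.det g ≠ 0)
  have k' : ∀ x, (g * A * g') (g x) = g (A x) := fun x ↦ by
    rw [← End.mul_apply _ g, mul_assoc, k, mul_one, End.mul_apply]
  exact ⟨_, cj_conj A h1 k, (show g p₁ = q₁ from h2 0) ▸ (k' _).trans (h2 2),
    (show g p₂ = q₂ from h2 1) ▸ (k' _).trans (h2 3)⟩

end

variable {V : Type u} [AddCommGroup V] [Module F V] [FiniteDimensional F V] {A : End F V}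

theorem peel1 (hG : GS.{u} F) (h1 : AS1S.{u} F) (h4 : H4 F) (hn : 4 ≤ finrank F V)
    (hd : LinearMap.det A = 1) {w : V} {l : F} (hw : w ≠ 0) (e : A w = l • w)
    (hl : l ^ finrank F V = 1) (hr : ∀ hA ν, Rk2 (qm A (span F {w}) hA) ν) :
    Tup (Cj A) (finrank F V) 1 fun _ ↦ False := by
  obtain ⟨S, s1, s2⟩ := exists_inv (hd ▸ one_ne_zero : LinearMap.det A ≠ 0)
  obtain ⟨N, hN⟩ : ∃ N, finrank F V = N + 1 := ⟨_, (Nat.sub_add_cancel (by omega)).symm⟩
  have hq : finrank F (V ⧸ span F {w}) = N := by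
    have := (span F {w}).finrank_quotient_add_finrank
    rw [finrank_span_singleton hw] at this
    omega
  have eS : S w = l ^ N • w := by
    rw [← one_smul F (S w), ← hl, hN, pow_succ, mul_smul, ← map_smul, ← e, ← End.mul_apply, s2]; rfl
  have k : ∀ {T : End F V} {c : F}, T w = c • w → ∀ x ∈ span F {w}, T x = c • x := fun h x hx ↦ by
    obtain ⟨a, rfl⟩ := mem_span_singleton.1 hx
    rw [map_smul, h, smul_comm]
  have hA : ∀ x ∈ span F {w}, A x ∈ span F {w} := fun x hx ↦ k e x hx ▸ smul_mem _ _ hx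
  have hS : ∀ x ∈ span F {w}, S x ∈ span F {w} := fun x hx ↦ k eS x hx ▸ smul_mem _ _ hx
  have d1 := det_qm hA
  have d2 := det_qm hS
  have d3 := det_mul_of_inv s1
  rw [det_res hA (k e), finrank_span_singleton hw, pow_one, hd] at d1
  rw [hd, one_mul] at d3
  rw [det_res hS (k eS), finrank_span_singleton hw, pow_one, d3] at d2
  have l0 := left_ne_zero_of_mul_eq_one d1.symm
  have key := h1 V A S w l N (fun _ ↦ True) hA hS hw l0 e eS trivial (hq ▸ (hG h4 _ _ _
    (by omega) (right_ne_zero_of_mul_eq_one d1.symm) (hr hA) (nsc_qm hS fun c h ↦ ?_) ?_).cg)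
  · obtain ⟨L, a1, a2, a3, -⟩ := key
    rw [hN, ← s2]
    exact Tup.snoc ⟨L, a1, a2, a3, fun _ h ↦ h.elim⟩ (Cj.refl A)
  · have k1 : ∀ x, x - c • A x ∈ span F {w} := fun x ↦ by
      simpa only [← End.mul_apply S, s2, End.one_apply] using h (A x)
    obtain ⟨x, hx⟩ := hr hA c⁻¹ 0
    obtain ⟨x, rfl⟩ := mkQ_surjective _ x
    by_cases c0 : c = 0
    · have : ∀ y, (span F {w}).mkQ y = 0 := fun y ↦ (Quotient.mk_eq_zero _).2 (by simpa [c0] using k1 y)
      exact hx 0 (by rw [qm_mk, this, this]; simp)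
    · refine hx 0 ?_
      rw [qm_mk, ← map_smul, ← map_sub, smul_zero]
      refine (Quotient.mk_eq_zero _).2 ?_
      rw [show A x - c⁻¹ • x = (-c⁻¹) • (x - c • A x) by
        linear_combination (norm := module) -(inv_mul_cancel₀ c0) • A x]
      exact smul_mem _ _ (k1 x)
  · refine mul_left_cancel₀ (pow_ne_zero N l0) ?_
    rw [← d2, hq, ← mul_pow, ← d1, one_pow]

theorem peel2 (hG : GS.{u} F) (h2 : AS2S.{u} F) (h4 : H4 F) (hn : 5 ≤ finrank F V)
    (hd : LinearMap.det A = 1) {w₁ w₂ p₁ p₂ : V} {l m : F} (hw : LinearIndependent F ![w₁, w₂])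
    (e₁ : A w₁ = l • w₁) (e₂ : A w₂ - m • w₂ ∈ span F {w₁})
    (hr : ∀ hA ν, Rk2 (qm A (span F {w₁, w₂}) hA) ν)
    (hp : LinearIndependent F ![p₁, p₂, A p₁, A p₂]) : Tup (Cj A) (finrank F V) 1 fun _ ↦ False := by
  have hA := pair_inv e₁ e₂
  have inj := inj_of_det_ne (hd ▸ one_ne_zero : LinearMap.det A ≠ 0)
  have hw' := LinearIndependent.pair_iff.1 hw
  have l0 := eig_ne_zero inj (hw.ne_zero 0) e₁
  have m0 : m ≠ 0 := fun e ↦ by
    obtain ⟨c, hc⟩ := mem_span_singleton.1 e₂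
    refine l0 (hw' (-c) l (inj ?_)).2
    rw [map_add, map_smul, map_smul, e₁, eq_add_of_sub_eq hc.symm, e, map_zero]; module
  obtain ⟨N, hN⟩ : ∃ N, finrank F V = N + 1 + 1 := ⟨finrank F V - 2, by omega⟩
  have hq : finrank F (V ⧸ span F {w₁, w₂}) = N := by
    have := (span F {w₁, w₂}).finrank_quotient_add_finrank
    have k := finrank_span_eq_card hw
    rw [Matrix.range_cons_cons_empty, Fintype.card_fin] at k
    omega
  obtain ⟨v₁, hv⟩ := exists_linearIndependent_cons_of_lt_finrank hw (by omega)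
  obtain ⟨v₂, hv⟩ := exists_linearIndependent_cons_of_lt_finrank hv (by omega)
  replace hv := li4.1 hv
  have hv' : ∀ s t : F, s • v₁ + t • v₂ ∈ span F {w₁, w₂} → s = 0 ∧ t = 0 := fun s t h ↦ by
    obtain ⟨a, b, e⟩ := mem_span_pair.1 h
    have := hv t s (-a) (-b) (by linear_combination (norm := module) -e)
    exact ⟨this.2.1, this.1⟩
  have hAN : ∀ x ∈ span F {w₁, w₂}, (A ^ N) x ∈ span F {w₁, w₂} := fun x hx ↦
    End.pow_apply_mem_of_forall_mem N hA x hx
  have injN : Function.Injective (A ^ N) := End.iterate_injective inj N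
  obtain ⟨u₁, m1, f1⟩ := exists_preimage_of_invariant injN hAN (subset_span (by simp) : w₁ ∈ _)
  obtain ⟨u₂, m2, f2⟩ := exists_preimage_of_invariant injN hAN (subset_span (by simp) : w₂ ∈ _)
  obtain ⟨Y₂, c2, a1, a2⟩ := exists_cj hn hp (q₁ := w₁) (q₂ := w₂) (r₁ := v₁) (r₂ := v₂)
    (li4.2 fun s t a b e ↦ by
      have := hv b a s t (by linear_combination (norm := module) e)
      exact ⟨this.2.2.1, this.2.2.2, this.2.1, this.1⟩)
  obtain ⟨Y, c1, b1, b2⟩ := exists_cj hn hp (q₁ := v₁) (q₂ := v₂) (r₁ := u₁) (r₂ := u₂)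
    (li4.2 fun s t a b e ↦ by
      obtain ⟨rfl, rfl⟩ := hv' s t (by
        rw [show s • v₁ + t • v₂ = -(a • u₁ + b • u₂) by linear_combination (norm := module) e]
        exact neg_mem (add_mem (smul_mem _ _ m1) (smul_mem _ _ m2)))
      have := congrArg (A ^ N) e
      exact ⟨rfl, rfl, hw' a b (by simpa [f1, f2] using this)⟩)
  have dP : ∀ {Y}, Cj A Y → LinearMap.det (Y * Y₂) = 1 := fun h ↦ by
    rw [map_mul, h.cg.det_eq, c2.cg.det_eq, hd, one_mul]
  obtain ⟨Y₁, c1, b1, b2, ns⟩ : ∃ Y₁, Cj A Y₁ ∧ Y₁ v₁ = u₁ ∧ Y₁ v₂ = u₂ ∧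
      ∀ c : F, ¬ ∀ x, Y₁ (Y₂ x) - c • x ∈ span F {w₁, w₂} := by
    by_cases ns : ∀ c : F, ¬ ∀ x, Y (Y₂ x) - c • x ∈ span F {w₁, w₂}
    · exact ⟨Y, c1, b1, b2, ns⟩
    push Not at ns
    obtain ⟨c, hc⟩ := ns
    classical
    obtain ⟨z, χ, z1, hχ⟩ := exists_ann (span_ne_top (F := F) (s := {w₁, w₂, v₁, v₂})
      (lt_of_le_of_lt Finset.card_le_four hn))
    have x1 : χ v₁ = 0 := hχ _ (subset_span (by simp))
    have x2 : χ v₂ = 0 := hχ _ (subset_span (by simp))
    have x3 : ∀ x ∈ span F {w₁, w₂}, χ x = 0 := fun x hx ↦ hχ x (span_mono (by simp [Set.insert_subset_iff]) hx)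
    have k : ∀ x, (rk1 1 v₁ χ * Y * rk1 1 v₁ (-χ)) x = Y x - χ x • u₁ + χ (Y x) • v₁ := fun x ↦ by
      simp [rk1_apply, b1, x3 u₁ m1, sub_eq_add_neg]
    refine ⟨_, c1.trans (cj_conj Y (g := rk1 1 v₁ χ) (g' := rk1 1 v₁ (-χ)) (by simp [det_rk1_one, x1])
      (LinearMap.ext fun x ↦ by simp [rk1_apply, x1])), by simp [k, x1, b1, x3 u₁ m1],
      by simp [k, x2, b2, x3 u₂ m2], fun c' h ↦ ?_⟩
    have k1 : ∀ x, (c - c') • x + χ (Y (Y₂ x)) • v₁ ∈ span F {w₁, w₂} := fun x ↦ by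
      convert add_mem (sub_mem (h x) (hc x)) (smul_mem _ (χ (Y₂ x)) m1) using 1
      rw [k]; module
    obtain ⟨y, hy⟩ := LinearMap.injective_iff_surjective.1 (inj_of_det_ne (dP c1 ▸ one_ne_zero)) z
    have k2 := hv' (χ (Y (Y₂ v₂))) (c - c') (add_comm (_ : V) _ ▸ k1 v₂)
    have k3 := k1 y
    rw [k2.2, ← End.mul_apply Y, hy, z1] at k3
    exact one_ne_zero (hv' 1 0 (by simpa using k3)).1
  obtain ⟨S, s1, s2⟩ := exists_inv (dP c1 ▸ one_ne_zero : LinearMap.det (Y₁ * Y₂) ≠ 0)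
  have eS : ∀ x ∈ span F {w₁, w₂}, S x = (A ^ N) x := fun x hx ↦ by
    obtain ⟨a, b, e⟩ := mem_span_pair.1 (hAN x hx)
    have : x = a • u₁ + b • u₂ := injN (by rw [← e, map_add, map_smul, map_smul, f1, f2])
    rw [← e, this, ← b1, ← b2, ← a1, ← a2, map_add, map_smul, map_smul, ← End.mul_apply Y₁,
      ← End.mul_apply Y₁, ← End.mul_apply S, ← End.mul_apply S, s2]; rfl
  have hS : ∀ x ∈ span F {w₁, w₂}, S x ∈ span F {w₁, w₂} := fun x hx ↦ eS x hx ▸ hAN x hx
  have d1 := det_qm hA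
  have d2 := det_qm hS
  have d3 := det_mul_of_inv s1
  rw [dP c1, one_mul] at d3
  rw [hd] at d1
  rw [d3, show S.restrict hS = A.restrict hA ^ N from LinearMap.ext fun x ↦ Subtype.ext (by
    rw [End.pow_restrict]; exact eS x x.2), map_pow] at d2
  have := h2 V A S w₁ w₂ l m N hA hS l0 m0 e₁ e₂ eS (hq ▸ hG h4 _ _ _ (by omega)
    (right_ne_zero_of_mul_eq_one d1.symm) (hr hA) (nsc_qm hS fun c h ↦ ?_) ?_)
  · rw [hN, ← s2, ← mul_assoc]
    exact (this.snoc c1).snoc c2
  · have k1 : ∀ x, x - c • Y₁ (Y₂ x) ∈ span F {w₁, w₂} := fun x ↦ by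
      have := h ((Y₁ * Y₂) x)
      rwa [← End.mul_apply S, s2] at this
    have c0 : c ≠ 0 := fun e ↦ one_ne_zero (hv' 1 0 (by simpa [e] using k1 v₁)).1
    refine ns c⁻¹ fun x ↦ ?_
    rw [show Y₁ (Y₂ x) - c⁻¹ • x = (-c⁻¹) • (x - c • Y₁ (Y₂ x)) by
      linear_combination (norm := module) -(inv_mul_cancel₀ c0) • Y₁ (Y₂ x)]
    exact smul_mem _ _ (k1 x)
  · refine mul_left_cancel₀ (pow_ne_zero N (left_ne_zero_of_mul_eq_one d1.symm)) ?_
    rw [← d2, hq, ← mul_pow, ← d1, one_pow]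

end P2

open P2

theorem p2S (hG : GS.{u} F) (hA : AS2S.{u} F) : P2S.{u} F := by
  intro h4 V _ _ _ A a e R l hn hd hC hR h3 hk eR e0 he
  have c0 := self_mem_cyc A a
  have c1 := apply_mem_cyc c0
  have c2 := apply_mem_cyc c1
  have hp : LinearIndependent F ![a, A a + e, A a, A (A a + e)] := li4.2 fun s t u v h ↦ by
    obtain ⟨k1, k2⟩ := split hC (add_mem (add_mem (smul_mem _ s c0) (smul_mem _ (t + u) c1)) (smul_mem _ v c2))
      (smul_mem _ (t + v * l) eR) (by rw [map_add, he] at h; linear_combination (norm := module) h)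
    obtain ⟨rfl, k3, rfl⟩ := cyc_indep_three h3 k1
    have : t = 0 := by simpa [e0] using k2
    exact ⟨rfl, this, by simpa [this] using k3, rfl⟩
  have k3 : ∀ s t ν : F, s • (A a - ν • a) + t • (A (A a) - ν • A a) = 0 → s = 0 ∧ t = 0 := fun s t ν h ↦ by
    obtain ⟨-, k1, k2⟩ := cyc_indep_three h3 (a := -(s * ν)) (b := s - t * ν) (c := t)
      (by linear_combination (norm := module) h)
    exact ⟨by simpa [k2] using k1, k2⟩
  have k4 : ∀ s t ν : F, s • (A a - ν • a) + t • (A (A a) - ν • A a) ∈ cyc A a := fun s t ν ↦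
    add_mem (smul_mem _ _ (sub_mem c1 (smul_mem _ _ c0))) (smul_mem _ _ (sub_mem c2 (smul_mem _ _ c1)))
  by_cases hα : ∀ y ∈ R, ∀ m : F, A y - m • y ∈ span F {e} → y ∈ span F {e}
  swap
  · push Not at hα
    obtain ⟨y, hy, m, h1, h2⟩ := hα
    refine peel2 hG hA h4 hn hd ((LinearIndependent.pair_iff' e0).2 fun c k ↦ h2 (mem_span_singleton.2 ⟨c, k⟩)) he h1
      (fun hW ν ↦ rk2_qm hW a (A a) fun s t h ↦ k3 s t ν (disjoint_def.1 hC.disjoint _ (k4 s t ν) ?_)) hp
    exact span_le.2 (by simp [Set.insert_subset_iff, eR, hy]) h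
  obtain ⟨f, hf, f1, f2⟩ := exists_order A a
  have f3 : aeval A f a = 0 := (f2 f).2 dvd_rfl
  have f4 : f.eval l = 0 := by simpa [hk f f3, e0] using (aeval_eigen he f).symm
  obtain ⟨q, rfl, q1, q2⟩ := exists_eig_cyc hf.ne_zero f1.le f3 f4
  have q3 := aeval_mem_cyc A a q
  refine peel2 hG hA h4 hn hd (w₂ := aeval A q a) (m := l) (LinearIndependent.pair_iff.2 fun s t h ↦ ?_) he
    (by simp [q2]) (fun hW ν ↦ ?_) hp
  · simpa [e0, q1, and_comm] using split hC (smul_mem _ t q3) (smul_mem _ s eR) (add_comm (_ : V) _ ▸ h)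
  by_cases hRe : R ≤ span F {e}
  · refine rk2_qm hW a (A a) fun s t h ↦ k3 s t ν ?_
    obtain ⟨α, β, h⟩ := mem_span_pair.1 h
    have h1 := (split hC (sub_mem (smul_mem _ β q3) (k4 s t ν)) (smul_mem _ α eR)
      (by linear_combination (norm := module) h)).1
    have q0 : q ≠ 0 := right_ne_zero_of_mul hf.ne_zero
    rw [natDegree_mul (X_sub_C_ne_zero l) q0, natDegree_X_sub_C] at f1
    have d1 := finrank_add_eq_of_isCompl hC
    have d2 := finrank_mono hRe
    rw [finrank_span_singleton e0] at d2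
    have d3 : ((C t * X + C s) * (X - C ν)).natDegree ≤ 2 :=
      natDegree_mul_le.trans (add_le_add natDegree_linear_le (natDegree_X_sub_C_le ν))
    have h2 := eq_zero_of_aeval (g := A) (v := a) (p := C β * q - (C t * X + C s) * (X - C ν))
      (by rw [← h1]; simp [Algebra.algebraMap_eq_smul_one]; module)
      (lt_of_le_of_lt (natDegree_sub_le _ _) (max_lt (lt_of_le_of_lt (natDegree_C_mul_le _ _) (by omega)) (by omega)))
    have β0 : β = 0 := by
      by_contra k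
      rw [← sub_eq_zero.1 h2, natDegree_C_mul k] at d3
      omega
    rwa [β0, zero_smul, zero_sub, neg_eq_zero] at h1
  · obtain ⟨y, hy, hy'⟩ := SetLike.not_le_iff_exists.1 hRe
    refine rk2_qm hW y (A y) fun s t h ↦ ?_
    obtain ⟨α, β, h⟩ := mem_span_pair.1 h
    have y1 := hR y hy
    have y2 := add_mem (smul_mem _ s hy) (smul_mem _ t y1)
    have h1 := (split hC (smul_mem _ β q3) (sub_mem (smul_mem _ α eR) (sub_mem (hR _ y2) (smul_mem _ ν y2)))
      (by rw [map_add, map_smul, map_smul]; linear_combination (norm := module) h)).2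
    have h2 := hα _ y2 ν (mem_span_singleton.2 ⟨α, sub_eq_zero.1 h1⟩)
    have t0 : t = 0 := by
      by_contra k
      refine hy' (hα y hy (-(t⁻¹ * s)) ?_)
      convert smul_mem _ t⁻¹ h2 using 1
      linear_combination (norm := module) -(inv_mul_cancel₀ k) • A y
    exact ⟨by_contra fun k ↦ hy' ((smul_mem_iff _ k).1 (by simpa [t0] using h2)), t0⟩

theorem scS (hG : GS.{u} F) (h1 : AS1S.{u} F) (hP : P2S.{u} F) (hE : ScES.{u} F) (hI : ITS.{u} F) :
    ScS.{u} F := by
  intro h4 V _ _ _ A hn hd hA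
  have hd' : LinearMap.det A ≠ 0 := hd ▸ one_ne_zero
  obtain ⟨a, R, f, hC, hR, hf, f1, f2, f3, f4, f5⟩ := exists_state' hd'
  obtain ⟨E1, E2, E3, E4, E5⟩ := hE h4 V A hn hd
  have d1 := finrank_add_eq_of_isCompl hC
  have d2 := f5 hA
  have c0 := self_mem_cyc A a
  have c1 := apply_mem_cyc c0
  have c2 := apply_mem_cyc c1
  suffices h : Tup (Cj A) (finrank F V) 1 (fun _ ↦ False) ∨ ∃ c : F, Tup (Cj A) (finrank F V) (c • 1) fun _ ↦ False from
    h.elim (fun h ↦ ⟨1, by rwa [one_smul]⟩) id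
  have it : 4 ≤ finrank F V → (∀ c : F, ∀ x ∈ R, A x = c • x → x = 0) → (R = ⊥ ∨ 5 ≤ finrank F V) →
      Tup (Cj A) (finrank F V) 1 fun _ ↦ False := fun k1 k2 k3 ↦
    (hI h4 V A a R k1 hd' hC hR k2 fun x _ ↦ f4 x).2 hd k3
  rcases d2.eq_or_lt with d2' | d3
  · obtain ⟨t, δ, hq⟩ := exists_quadratic hf (f1.trans d2'.symm) f2
    have four : finrank F V = 4 → ∀ b ∈ R, b ≠ 0 → (∀ c : F, A b ≠ c • b) →
        Tup (Cj A) (finrank F V) 1 fun _ ↦ False := fun k b hb b0 hb' ↦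
      E3 a b t (-δ) k (li4.2 fun s r u v h ↦ by
        obtain ⟨k1, k2⟩ := split hC (add_mem (smul_mem _ s c0) (smul_mem _ r c1))
          (add_mem (smul_mem _ u hb) (smul_mem _ v (hR b hb))) (by linear_combination (norm := module) h)
        exact ⟨(cyc_indep_two d2 k1).1, (cyc_indep_two d2 k1).2, LinearIndependent.pair_iff.1
          ((LinearIndependent.pair_iff' b0).2 fun c e ↦ hb' c e.symm) u v k2⟩) fun x ↦ by rw [hq]; module
    have R0 : R ≠ ⊥ := fun e ↦ by rw [e, finrank_bot] at d1; omega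
    obtain ⟨b, hb, b0⟩ := exists_mem_ne_zero_of_ne_bot R0
    by_cases hl : ∀ l : F, l * l - t * l - δ ≠ 0
    · have ne : ∀ c : F, ∀ x, A x = c • x → x = 0 := fun c x e ↦ by
        refine (smul_eq_zero_iff_right (hl c)).1 ?_
        have := hq x
        rw [e, map_smul, e] at this
        linear_combination (norm := module) this
      have : ¬ finrank F R ≤ 1 := fun k ↦ R0 (bot_of_noEig hR (fun c x _ ↦ ne c x) k)
      rcases (by omega : finrank F V = 4 ∨ 5 ≤ finrank F V) with k | k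
      exacts [.inl (four k b hb b0 fun c e ↦ b0 (ne c b e)), .inl (it (by omega) (fun c x _ ↦ ne c x) (.inr k))]
    push Not at hl
    obtain ⟨l, hl⟩ := hl
    have h0 : ∀ x, A (A x - l • x) = (t - l) • (A x - l • x) := fun x ↦ by
      rw [map_sub, map_smul, hq]; linear_combination (norm := module) -(hl • x)
    by_cases lm : l = t - l
    swap
    · exact .inl (E1 l _ lm h0)
    rw [← lm] at h0
    obtain ⟨N, hN⟩ : ∃ N : End F V, A = l • 1 + N := ⟨A - l • 1, by abel⟩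
    have hN' : ∀ x, A x = l • x + N x := fun x ↦ by rw [hN]; rfl
    have NN : ∀ x, N (N x) = 0 := fun x ↦ by
      have := h0 x
      rwa [hN' x, add_sub_cancel_left, hN', add_eq_left] at this
    by_cases hk : ∃ x, N x = 0 ∧ ∀ y, N y ≠ x
    · exact .inr ⟨_, by simpa using E2 l 0 N hN (LinearMap.ext NN) hk⟩
    push Not at hk
    have kr : LinearMap.ker N = LinearMap.range N :=
      le_antisymm (fun x hx ↦ hk x hx) fun _ ⟨x, e⟩ ↦ e ▸ NN x
    have d3 := N.finrank_range_add_finrank_ker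
    rw [kr] at d3
    rcases (by omega : finrank F V = 4 ∨ 3 ≤ finrank F (LinearMap.range N)) with k | k
    · obtain ⟨b, hb, b0⟩ : ∃ b ∈ R, N b ≠ 0 := by
        by_contra! k
        obtain ⟨y, hy⟩ := hk b (k b hb)
        obtain ⟨x, hx, z, hz, rfl⟩ := mem_sup.1 (hC.sup_eq_top ▸ mem_top (x := y))
        rw [map_add, k z hz, add_zero, eq_sub_of_add_eq' (hN' x).symm] at hy
        exact b0 (disjoint_def.1 hC.disjoint b (hy ▸ sub_mem (apply_mem_cyc hx) (smul_mem _ _ hx)) hb)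
      refine .inl (four k b hb (fun e ↦ b0 (by rw [e, map_zero])) fun c e ↦ b0 ?_)
      have e1 : N b = (c - l) • b := by rw [sub_smul, ← e, hN', add_sub_cancel_left]
      have e2 := NN b
      rw [e1, map_smul, smul_eq_zero] at e2
      exact e2.elim (fun k ↦ by rw [e1, k, zero_smul]) id
    · obtain ⟨g, hg⟩ := exists_linearIndependent_of_le_finrank k
      replace hg := Fintype.linearIndependent_iff.1 (hg.map' _ (ker_subtype _))
      obtain ⟨x, hx⟩ := (g 0).2
      obtain ⟨y, hy⟩ := (g 1).2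
      obtain ⟨z, hz⟩ := (g 2).2
      have hg' : ∀ r s t : F, r • N x + s • N y + t • N z = 0 → r = 0 ∧ s = 0 ∧ t = 0 := fun r s t e ↦
        have := hg ![r, s, t] (by simpa [Fin.sum_univ_three, hx, hy, hz] using e)
        ⟨this 0, this 1, this 2⟩
      have hK : ∀ x ∈ LinearMap.ker N, A x = l • x := fun x hx ↦ by rw [hN', hx, add_zero]
      have hK' : ∀ x ∈ LinearMap.ker N, A x ∈ LinearMap.ker N := fun x hx ↦ hK x hx ▸ smul_mem _ _ hx
      refine .inl (peel1 hG h1 h4 (by omega) hd (w := N x) (l := l) (fun e ↦ one_ne_zero (hg' 1 0 0 (by simp [e])).1)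
        (hK _ (NN x)) ?_ fun hW ν ↦ rk2_qm hW y z fun s t h ↦ ?_)
      · rw [← hd, det_qm hK', det_res hK' hK, show qm A _ hK' = l • 1 from LinearMap.ext fun v ↦ ?_,
          LinearMap.det_smul, map_one, mul_one, ← pow_add, add_comm, finrank_quotient_add_finrank]
        obtain ⟨v, rfl⟩ := mkQ_surjective _ v
        exact (Submodule.Quotient.eq _).2 (by rw [hN', add_sub_cancel_left]; exact NN v)
      · obtain ⟨c, hc⟩ := mem_span_singleton.1 h
        rw [hN', hN'] at hc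
        by_cases e : l = ν
        · exact (hg' (-c) s t (by rw [e] at hc; linear_combination (norm := module) -hc)).2
        · have := congrArg N hc
          simp only [map_add, map_smul, map_sub, NN] at this
          have k := hg' 0 (s * (l - ν)) (t * (l - ν)) (by linear_combination (norm := module) -this)
          simpa [sub_eq_zero, e] using k.2
  left
  by_cases ne : ∀ c : F, ∀ x ∈ R, A x = c • x → x = 0
  · rcases (by omega : finrank F V = 3 ∨ finrank F V = 4 ∨ 5 ≤ finrank F V) with k | k | k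
    · exact E4 k ⟨a, eq_top_of_finrank_eq (by omega)⟩
    · exact it k.ge ne (.inl (bot_of_noEig hR ne (by omega)))
    · exact it (by omega) ne (.inr k)
  push Not at ne
  obtain ⟨l, e, eR, he, e0⟩ := ne
  have d4 := finrank_mono ((span_singleton_le_iff_mem e R).2 eR)
  rw [finrank_span_singleton e0] at d4
  rcases (by omega : finrank F V = 4 ∨ 5 ≤ finrank F V) with k | k
  · refine E5 a e l k (li4.2 fun s t u v h ↦ ?_) he ?_
    · obtain ⟨k1, k2⟩ := split hC (add_mem (add_mem (smul_mem _ s c0) (smul_mem _ t c1)) (smul_mem _ u c2))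
        (smul_mem _ v eR) h
      obtain ⟨k3, k4, k5⟩ := cyc_indep_three d3 k1
      exact ⟨k3, k4, k5, by simpa [e0] using k2⟩
    · have f6 : f.natDegree = 3 := by omega
      have := LinearMap.congr_fun f2 a
      have f7 : f.coeff 3 = 1 := f6 ▸ hf.coeff_natDegree
      rw [aeval_eq_sum_range, f6] at this
      simp only [Finset.sum_range_succ, Finset.range_zero, Finset.sum_empty, f7, pow_succ, pow_zero, one_smul,
        LinearMap.add_apply, LinearMap.smul_apply, End.mul_apply, End.one_apply, LinearMap.zero_apply,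
        zero_add] at this
      rw [eq_neg_of_add_eq_zero_right this]
      exact neg_mem (add_mem (add_mem (smul_mem _ _ (subset_span (by simp))) (smul_mem _ _ (subset_span (by simp))))
        (smul_mem _ _ (subset_span (by simp))))
  · exact hP h4 V A a e R l k hd hC hR d3 f3 eR e0 he

end CL.Lv
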