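/-
Lev's covering number: the rank one update, two split cyclic classes, non-split classes in dimension three.
-/
import Cfsg.Agent.Cls.LvBase2

set_option autoImplicit false

namespace CL.Lv

open Module Polynomial CL.SLn

universe u

theorem Cyc.ruSmul {F : Type*} [Field F] {V : Type*} [AddCommGroup V] [Module F V] {B : End F V} {e : V}
    (h : cyc B e = ⊤) {μ : F} (hμ : μ ≠ 0) : cyc (μ • B) e = ⊤ :=
  eq_top_iff.2 (h ▸ cyc_le (self_mem_cyc _ _) fun x hx => by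
    simpa [hμ] using Submodule.smul_mem _ μ⁻¹ (apply_mem_cyc hx))

theorem ruS (F : Type*) [Field F] : RUS.{u} F := by
  intro V _ _ _ B μ u φ P ⟨e, he⟩ hB hμ hu hφ hP hd hdet hne
  haveI := nontrivial_of_ne u 0 hu
  obtain ⟨k, hk⟩ : ∃ k, finrank F V = k + 1 := ⟨_, (Nat.succ_pred_eq_of_pos finrank_pos).symm⟩
  have he' := Cyc.ruSmul he hμ
  obtain ⟨θ, -, t1, -, t2, t3⟩ := exists_cext he' hk hP (hd.trans hk)
  obtain ⟨B', b1, b2⟩ := exists_inv hB
  have b3 : ∀ x, B' (B x) = x := fun x => LinearMap.congr_fun b2 x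
  generalize hz : aeval (μ • B) P e = z at t2 t3
  have e1 : μ • B - θ.smulRight z = rk1 μ (-z) (θ ∘ₗ B') * B := LinearMap.ext fun x => by
    simp [rk1_apply, b3, sub_eq_add_neg]
  rw [e1] at t2 t3
  have e2 := det_of_cyc ⟨e, t2⟩ hP t3 hd
  rw [hdet, map_mul, mul_left_inj' hB, det_rk1 hμ, det_rk1 hμ, mul_right_inj' (pow_ne_zero _ hμ), add_right_inj,
    mul_right_inj' (inv_ne_zero hμ)] at e2
  have z0 : -z ≠ 0 := neg_ne_zero.2 fun h0 => hne.elim (fun h => h (by simp [← e2, h0])) fun h => h (LinearMap.ext fun x => by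
    obtain ⟨p, rfl⟩ := mem_cyc.1 (he'.ge (Submodule.mem_top (x := x)))
    rw [← End.mul_apply, ← map_mul, mul_comm, map_mul, End.mul_apply, hz, h0, map_zero, LinearMap.zero_apply])
  obtain ⟨g, g', -, g1, g2⟩ := (cg_rk1 μ z0 hu (fun h => by
    simpa [b3, t1] using LinearMap.congr_fun h (B (((μ • B) ^ k) e))) hφ e2).exists_conj
  have e3 : rk1 μ u φ * (g * B * g') = g * (rk1 μ (-z) (θ ∘ₗ B') * B) * g' := by
    rw [g2]; simp only [mul_assoc]; rw [← mul_assoc g' g, g1, one_mul]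
  exact ⟨g * B * g', cg_conj B g1, e3 ▸ (cg_conj _ g1).cyc ⟨e, t2⟩, e3 ▸ (cg_conj _ g1).aeval_zero t3⟩

variable {F : Type*} [Field F]

theorem t1S (h : ResS.{u} F) : T1S.{u} F := by
  intro h4 V _ _ _ T D X s t h3 hT hD hX hdet
  have T0 : LinearMap.det T ≠ 0 := left_ne_zero_of_mul (hdet ▸ Multiset.prod_ne_zero hX.2.2.2)
  obtain ⟨v, R, f, hC, hR, hf, hfd, h0, -, -, h2⟩ := exists_state' T0
  by_cases hc : 3 ≤ finrank F (cyc T v) ∨ ∀ β : F, ∃ x ∈ R, T x ≠ β • x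
  · obtain ⟨D', d1, d2⟩ := h h4 V T v R s t h3 T0 hC hR (h2 hT) hc hD.2.2.1 hX.2.2.1 hD.2.2.2 hX.2.2.2 hdet
    exact ⟨D', hD.cg d1, hX.cg d2⟩
  push Not at hc
  obtain ⟨hc, μ, hμ⟩ := hc
  have hd : finrank F (cyc T v) = 2 := by have := h2 hT; omega
  obtain ⟨u, φ, rfl⟩ := not_rk2 (not_rk2_of_state hC hd hf (hfd.trans hd) h0 h3 hμ)
  obtain ⟨u0, φ0⟩ := nsc_rk1 hT
  have μ0 := mu_ne_zero (by omega) T0
  have nd := (natDegree_spl t).trans hX.2.2.1
  by_cases hne : φ u ≠ 0 ∨ aeval (μ • D) (spl t) ≠ 0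
  · obtain ⟨B', b1, b2, b3⟩ := ruS F V D μ u φ (spl t) hD.1 hD.det_ne μ0 u0 φ0 (spl_monic t) nd
      (by rw [← hX.2.2.1, eval_zero_spl, hD.det, hdet]) hne
    exact ⟨B', b1, cg_of_cyc hX.1 b2 (spl_ne_zero t) hX.2.1 b3 nd⟩
  push Not at hne
  have c1 : Cg X (μ • D) := cg_of_cyc hX.1 (hD.1.imp fun _ he => Cyc.ruSmul he μ0) (spl_ne_zero t) hX.2.1 hne.2 nd
  obtain ⟨β, -, w, -, w0, hw⟩ := exists_eig (T := D) (s := s) (U := ⊤) (fun _ _ => trivial) trivial u0 (by simp [hD.2.1])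
  obtain ⟨y, hy⟩ : ∃ y, D y - β • y ∉ F ∙ w := by
    by_contra hy
    push Not at hy
    have e1 := LinearMap.finrank_range_add_finrank_ker (D - β • 1)
    have e2 : finrank F (LinearMap.range (D - β • 1)) ≤ 1 :=
      finrank_span_singleton (K := F) w0 ▸ Submodule.finrank_mono (by rintro _ ⟨y, rfl⟩; exact hy y)
    have e3 : finrank F (LinearMap.ker (D - β • 1)) ≤ 1 :=
      finrank_span_singleton (K := F) w0 ▸ Submodule.finrank_mono fun y hy =>
        Submodule.mem_span_singleton.2 ((hD.1.e1 β w y hw (sub_eq_zero.1 hy) w0).imp fun _ e => e.symm)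
    omega
  obtain ⟨χ, x1, x2⟩ := Submodule.exists_dual_map_eq_bot_of_notMem hy inferInstance
  have x3 : χ w = 0 := (Submodule.mem_bot F).1 (x2 ▸ Submodule.mem_map_of_mem (Submodule.mem_span_singleton_self w))
  obtain ⟨D', d1, d2⟩ := exists_inv hD.det_ne
  have d3 : ∀ x, D' (D x) = x := fun x => LinearMap.congr_fun d2 x
  have d4 : ∀ x, D (D' x) = x := fun x => LinearMap.congr_fun d1 x
  have e1 : rk1 μ w (μ • χ ∘ₗ (D - β • 1) ∘ₗ D') * D = μ • (rk1 1 w χ * D * rk1 1 (-w) χ) := LinearMap.ext fun x => by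
    simp only [End.mul_apply, rk1_apply, LinearMap.smul_apply, LinearMap.comp_apply, d3, LinearMap.sub_apply,
      End.one_apply, map_add, map_smul, map_neg, map_sub, hw, x3, smul_eq_mul]
    module
  obtain ⟨g, g', -, g1, g2⟩ := (cg_rk1 μ w0 u0 (φ := μ • χ ∘ₗ (D - β • 1) ∘ₗ D') (fun h => by
    simpa [d3, μ0, x1, -map_sub] using LinearMap.congr_fun h (D y)) φ0 (by
      rw [hne.1, LinearMap.smul_apply, LinearMap.comp_apply, LinearMap.comp_apply, LinearMap.sub_apply, d4,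
        LinearMap.smul_apply, End.one_apply, ← map_smul D', ← hw, d3, sub_self, map_zero, smul_zero])).exists_conj
  refine ⟨g * D * g', cg_conj D g1, ?_⟩
  rw [g2, show ∀ a : End F V, g * a * g' * (g * D * g') = g * (a * D) * g' from fun a => by
    simp only [mul_assoc]; rw [← mul_assoc g' g, g1, one_mul], e1]
  exact (c1.trans ((cg_conj D (LinearMap.ext fun x => by simp [rk1_apply, x3])).smul μ)).trans (cg_conj _ g1)

theorem b3S (h : T5S.{u} F) : B3S.{u} F := by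
  intro h4 V _ _ _ A T ν h3 hA A0 hs hν hT hdet
  obtain ⟨x, x0, x1, -⟩ := h4 0 (ν * ν) 0
  obtain ⟨a, a0, a1, a2⟩ := h4 0 x (LinearMap.det A ^ 2 / x ^ 2)
  have hx : x ∉ [a, LinearMap.det A ^ 2 / (x * a)] := by
    simp only [List.mem_cons, List.not_mem_nil, or_false, not_or]
    refine ⟨a1.symm, fun e => a2 ?_⟩
    rw [eq_div_iff (mul_ne_zero x0 a0)] at e
    rw [eq_div_iff (pow_ne_zero 2 x0), ← e]; ring
  have hp : [a, LinearMap.det A ^ 2 / (x * a)].prod * x = LinearMap.det A * LinearMap.det A := by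
    simp only [List.prod_cons, List.prod_nil]; field_simp
  have hl : [a, LinearMap.det A ^ 2 / (x * a)].length + 1 = finrank F V := h3.symm
  generalize [a, LinearMap.det A ^ 2 / (x * a)] = l at hx hp hl
  obtain ⟨X, c1, c2, c3, -⟩ := h V A A l x hA hA A0 A0 hl hx hp
  have t2 : Tup (Cg A) 2 (X * A) fun _ => True := ⟨[X, A], rfl, by simp [c1, Cg.refl], by simp, fun c _ y hy => by
    by_contra y0
    have e1 := hy A (by simp)
    obtain rfl := hν c y e1 y0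
    exact x1 (c3 y c _ y0 e1 (by rw [e1, map_smul, hy X (by simp), smul_smul])).symm⟩
  obtain ⟨A', i1, i2⟩ := exists_inv A0
  have i3 := det_mul_of_inv i1
  have A0' := right_ne_zero_of_mul_eq_one i3
  have T0 : LinearMap.det T ≠ 0 := hdet ▸ pow_ne_zero 3 A0
  have hp' : l.prod * x = LinearMap.det A' * LinearMap.det T := by
    rw [hp, hdet]; linear_combination -LinearMap.det A ^ 2 * i3
  by_cases hc : Cyc T
  · obtain ⟨X', d1, d2, -⟩ := h V A' T l x (hA.inv i1) hc A0' T0 hl hx hp'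
    obtain ⟨Y, -, y1⟩ := exists_inv (d1.det_eq ▸ A0' : LinearMap.det X' ≠ 0)
    simpa [← mul_assoc, y1] using (t2.of_cg (c2.cg d2)).cons (d1.inv i2 y1)
  obtain ⟨v, R, f, hC, hR, hf, hfd, h0, -, -, h2⟩ := exists_state' T0
  have hd : finrank F (cyc T v) = 2 := le_antisymm (Nat.le_of_lt_succ ((h3 ▸ Submodule.finrank_le _).lt_of_ne
    fun e => hc ⟨v, Submodule.eq_top_of_finrank_eq (e.trans h3.symm)⟩)) (h2 hT)
  obtain ⟨r, -, hr⟩ := finrank_eq_one_iff'.1 (show finrank F R = 1 by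
    have := Submodule.finrank_add_eq_of_isCompl hC; omega)
  obtain ⟨μ, hμ⟩ := hr ⟨T r, hR r r.2⟩
  obtain ⟨u, φ, rfl⟩ := not_rk2 (not_rk2_of_state hC hd hf (hfd.trans hd) h0 h3.ge (β := μ) fun y hy => by
    obtain ⟨c, e⟩ := hr ⟨y, hy⟩
    rw [← show c • (r : V) = y from congrArg Subtype.val e, map_smul, ← show μ • (r : V) = T r from congrArg Subtype.val hμ,
      smul_comm])
  obtain ⟨u0, φ0⟩ := nsc_rk1 hT
  have μ0 := mu_ne_zero (by omega) T0
  have nd := (natDegree_spl _).trans c2.2.2.1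
  obtain ⟨B', b1, b2, b3⟩ := ruS F V A' μ u φ (spl (x ::ₘ l)) (hA.inv i1) A0' μ0 u0 φ0 (spl_monic _) nd
    (by rw [← c2.2.2.1, eval_zero_spl, Multiset.prod_cons, Multiset.prod_coe, mul_comm, hp', mul_comm])
    (Or.inr fun e => hs _ (LinearMap.ext fun y => by
      simpa [μ0] using aeval_spl_inv (A := μ • A') (B := μ⁻¹ • A) (by rw [smul_mul_smul_comm, mul_inv_cancel₀ μ0, i2, one_smul])
        (by rw [smul_mul_smul_comm, inv_mul_cancel₀ μ0, i1, one_smul]) (μ := μ) _ c2.2.2.2 y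
        (LinearMap.congr_fun e y)))
  obtain ⟨Y, y1, y2⟩ := exists_inv (b1.det_eq ▸ A0' : LinearMap.det B' ≠ 0)
  simpa [mul_assoc, y1] using (t2.of_cg (cg_of_cyc c2.1 b2 (spl_ne_zero _) c2.2.1 b3 nd)).snoc (b1.inv i2 y2)

end CL.Lv
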