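/-
Lev's induction for two arbitrary split cyclic classes (`ResS`).
-/
import Cfsg.Agent.Cls.LvBase

set_option autoImplicit false

namespace CL.Lv

open Module Polynomial CL.SLn

namespace Rs

section Aux

variable {F : Type*} [Field F] {V : Type*} [AddCommGroup V] [Module F V]

/-- `D` and `g D` are cyclic, killed by `P` and `Q`, in general position with respect to `r` at the
eigenvalue `b` and to `c` at the eigenvalue `c₀`. -/
def Res2 (b c₀ : F) (P Q : F[X]) (g : End F V) (c : V) (r : Dual F V) : Prop :=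
  ∃ D : End F V, (∃ u, cyc D u = ⊤) ∧ (∃ u, cyc (g * D) u = ⊤) ∧ aeval D P = 0 ∧
    aeval (g * D) Q = 0 ∧ ((∀ y, ∃ x, g (D x) - c₀ • x = y) ∨ ∀ x, g (D x) - c₀ • x ≠ c) ∧
    ((∀ x, D x = b • x → x = 0) ∨ ∃ k, D k = b • k ∧ r k ≠ 0)

theorem Res2.changeD {b b' c₀ : F} {P Q : F[X]} {g : End F V} {c : V} {r : Dual F V}
    (h : Res2 b c₀ P Q g c r) (hb : b' = b ∨ P.eval b' ≠ 0) : Res2 b' c₀ P Q g c r := by
  rcases hb with rfl | hb
  · exact h
  obtain ⟨D, h1, h2, h3, h4, h5, -⟩ := h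
  exact ⟨D, h1, h2, h3, h4, h5, Or.inl (inj_of_eval_ne_zero h3 hb)⟩

theorem Res2.changeG [FiniteDimensional F V] {b c₀ c₁ : F} {P Q : F[X]} {g : End F V} {c : V}
    {r : Dual F V} (h : Res2 b c₀ P Q g c r) (hb : c₁ = c₀ ∨ Q.eval c₁ ≠ 0) :
    Res2 b c₁ P Q g c r := by
  rcases hb with rfl | hb
  · exact h
  obtain ⟨D, h1, h2, h3, h4, -, h6⟩ := h
  exact ⟨D, h1, h2, h3, h4, Or.inl (surj_of_inj (T := g * D) (inj_of_eval_ne_zero h4 hb)), h6⟩

theorem Res2.lift [FiniteDimensional F V] {β : F} (hβ : β ≠ 0) {P Q : F[X]}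
    {g : End F V} {v c : V} {φ r : Dual F V} (h0 : φ v = 1) (h1 : φ (g v) = 1) (hc : φ c ≠ 0)
    (hr : r v ≠ 0)
    (h : Res2 β β P Q (red h1) (kprj h0 (g v)) (φ ∘ₗ g ∘ₗ (LinearMap.ker φ).subtype)) :
    Res2 β β ((X - C β) * P) ((X - C β) * Q) g c r := by
  obtain ⟨D', ⟨w₁, hw₁⟩, ⟨w₂, hw₂⟩, h3, h4, h5, h6⟩ := h
  let D : End F V := (β • φ - φ ∘ₗ g ∘ₗ (LinearMap.ker φ).subtype ∘ₗ D' ∘ₗ kprj h0).smulRight v +
    (LinearMap.ker φ).subtype ∘ₗ D' ∘ₗ kprj h0
  have hD : ∀ x, D x = (β * φ x - φ (g (D' (kprj h0 x)))) • v + D' (kprj h0 x) := fun x ↦ rfl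
  have hDv : D v = β • v := by simp [hD, h0, kprj_self]
  have hπD : ∀ x, kprj h0 (D x) = D' (kprj h0 x) := fun x ↦ by
    rw [hD, map_add, map_smul, kprj_self, smul_zero, zero_add, kprj_coe]
  have hX : ∀ x, g (D x) = (β * φ x) • g v + (red h1 * D') (kprj h0 x) := fun x ↦ by
    rw [hD, End.mul_apply, coe_red, map_add, map_smul]; module
  have hXH : ∀ y : LinearMap.ker φ, (((red h1 * D') y : LinearMap.ker φ) : V) = (g * D) y :=
    fun y ↦ by rw [End.mul_apply (g) D, hX, kprj_coe, LinearMap.mem_ker.1 y.2]; simp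
  have hφX : ∀ x, φ (g (D x)) = β * φ x := fun x ↦ by
    rw [hX, map_add, map_smul, h1, LinearMap.mem_ker.1 (Subtype.prop _)]; simp
  have hae : ∀ (p : F[X]) (y : LinearMap.ker φ),
      ((aeval (red h1 * D') p y : LinearMap.ker φ) : V) = aeval (g * D) p y :=
    CL.GLn.aeval_intertwine (LinearMap.ker φ).subtype hXH
  have hπ : ∀ (p : F[X]) (x : V), kprj h0 (aeval D p x) = aeval D' p (kprj h0 x) :=
    CL.GLn.aeval_intertwine (kprj h0) hπD
  have top : ∀ U : Submodule F V, v ∈ U → (∀ y, ∃ x ∈ U, kprj h0 x = y) → U = ⊤ := by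
    intro U hv hU
    refine eq_top_iff.2 fun x _ ↦ ?_
    obtain ⟨y, hy, e⟩ := hU (kprj h0 x)
    have e' : y - φ y • v = x - φ x • v := congrArg Subtype.val e
    rw [show x = y + (φ x - φ y) • v by linear_combination (norm := module) -e']
    exact U.add_mem hy (U.smul_mem _ hv)
  have onto : ∀ x : V, cyc D' (kprj h0 x) = ⊤ → ∀ y, ∃ z ∈ cyc D x, kprj h0 z = y := by
    intro x hx y
    obtain ⟨p, rfl⟩ : y ∈ cyc D' (kprj h0 x) := hx ▸ Submodule.mem_top
    exact ⟨_, aeval_mem_cyc D x p, hπ p x⟩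
  refine ⟨D, ?_, ?_, ?_, ?_, Or.inr fun x e ↦ hc ?_, Or.inr ⟨v, hDv, hr⟩⟩
  · have o1 := onto w₁ (by rwa [kprj_coe])
    by_cases hv : v ∈ cyc D w₁
    · exact ⟨_, top _ hv o1⟩
    rcases h6 with h6 | ⟨k, hk, hk'⟩
    · refine ⟨w₁ + v, top _ ?_ (onto _ (by rwa [map_add, kprj_self, add_zero, kprj_coe]))⟩
      have e1 : cyc D' (kprj h0 (D w₁ - β • (w₁ : V))) = ⊤ := by
        refine eq_top_iff.2 fun y _ ↦ ?_
        obtain ⟨y', rfl⟩ := surj_of_inj h6 y
        obtain ⟨p, rfl⟩ : y' ∈ cyc D' w₁ := hw₁ ▸ Submodule.mem_top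
        exact ⟨p, by simp [ev_apply, hπD, kprj_coe, aeval_comm_apply]⟩
      obtain ⟨z, hz, e⟩ := onto _ e1 w₁
      have e' : z - φ z • v = w₁ := congrArg Subtype.val e
      have m1 : z ∈ cyc D w₁ := cyc_le (Submodule.sub_mem _ (apply_mem_cyc (self_mem_cyc _ _))
        (Submodule.smul_mem _ _ (self_mem_cyc _ _))) (fun _ ↦ apply_mem_cyc) hz
      have m2 : z ∈ cyc D (w₁ + v) := cyc_le (by
        have := Submodule.sub_mem _ (apply_mem_cyc (self_mem_cyc D (w₁ + v)))
          (Submodule.smul_mem _ β (self_mem_cyc D (w₁ + v)))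
        rwa [map_add, hDv, smul_add, add_sub_add_right_eq_sub] at this) (fun _ ↦ apply_mem_cyc) hz
      have e2 : φ z = 0 := by
        by_contra hne
        refine hv ((Submodule.smul_mem_iff _ hne).1 ?_)
        rw [show φ z • v = z - w₁ by rw [← e']; abel]
        exact Submodule.sub_mem _ m1 (self_mem_cyc _ _)
      rw [e2, zero_smul, sub_zero] at e'
      simpa [e'] using Submodule.sub_mem _ (self_mem_cyc D (w₁ + v)) m2
    · obtain ⟨z, hz, e⟩ := o1 k
      have e' : z - φ z • v = k := congrArg Subtype.val e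
      have m1 := Submodule.sub_mem _ (apply_mem_cyc hz) (Submodule.smul_mem _ β hz)
      have e2 : D z - β • z = (-β * φ (g k)) • v := by
        rw [hD, e, hk, Submodule.coe_smul, map_smul, map_smul, smul_eq_mul, ← e']
        module
      rw [e2] at m1
      exact absurd ((Submodule.smul_mem_iff _ (mul_ne_zero (neg_ne_zero.2 hβ) hk')).1 m1) hv
  · obtain ⟨s, y, hs, e⟩ : ∃ (s : F) (y : LinearMap.ker φ), s ≠ 0 ∧
        kprj h0 (g v) = s • w₂ + (red h1 (D' y) - β • y) := by
      rcases h5 with h5 | h5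
      · obtain ⟨y, hy⟩ := h5 (kprj h0 (g v) - w₂)
        exact ⟨1, y, one_ne_zero, by rw [hy]; simp⟩
      · obtain ⟨s, y, e⟩ := exists_smul_add_of_cyc hw₂ β (kprj h0 (g v))
        exact ⟨s, y, fun hs ↦ h5 y (by rw [e, hs, zero_smul, zero_add]; rfl), e⟩
    have e' : g v - v = s • (w₂ : V) + (g (D y) - β • (y : V)) := by
      have := congrArg Subtype.val e
      rw [coe_kprj, h1, one_smul] at this
      rw [this]
      exact congrArg (fun z ↦ s • (w₂ : V) + (z - β • (y : V))) (hXH y)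
    have m1 : (w₂ : V) ∈ cyc (g * D) (v - β • y) := by
      have := Submodule.sub_mem _ (apply_mem_cyc (self_mem_cyc (g * D) (v - β • y)))
        (Submodule.smul_mem _ β (self_mem_cyc (g * D) (v - β • y)))
      rw [show (g * D) (v - β • y) - β • (v - β • (y : V)) = (β * s) • (w₂ : V) by
        rw [End.mul_apply, map_sub, hDv, map_sub, map_smul, map_smul, map_smul]
        linear_combination (norm := module) β • e'] at this
      exact (Submodule.smul_mem_iff _ (mul_ne_zero hβ hs)).1 this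
    have m2 : ∀ z : LinearMap.ker φ, (z : V) ∈ cyc (g * D) (v - β • y) := fun z ↦ by
      obtain ⟨p, rfl⟩ : z ∈ cyc (red h1 * D') w₂ := hw₂ ▸ Submodule.mem_top
      rw [ev_apply, hae]
      exact aeval_mem (fun _ ↦ apply_mem_cyc) p m1
    refine ⟨v - β • y, top _ ?_ fun z ↦ ⟨z, m2 z, kprj_coe _ _⟩⟩
    simpa using Submodule.add_mem _ (self_mem_cyc (g * D) (v - β • y))
      (Submodule.smul_mem _ β (m2 y))
  · refine LinearMap.ext fun x ↦ ?_
    have e : (kprj h0 (aeval D P x) : V) = 0 := by rw [hπ, h3]; rfl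
    rw [coe_kprj, sub_eq_zero] at e
    rw [map_mul, End.mul_apply, e]
    simp [hDv, Algebra.algebraMap_eq_smul_one]
  · refine LinearMap.ext fun x ↦ ?_
    have := hae Q ⟨g (D x) - β • x, by simp [hφX]⟩
    rw [h4] at this
    rw [mul_comm, map_mul, End.mul_apply]
    simpa [Algebra.algebraMap_eq_smul_one] using this.symm
  · rw [← e, map_sub, hφX, map_smul, smul_eq_mul, sub_self]

theorem cyc_smul_le (ρ : F) (T : End F V) (u : V) : cyc (ρ • T) u ≤ cyc T u :=
  cyc_le (self_mem_cyc _ _) fun _ hx ↦ Submodule.smul_mem _ _ (apply_mem_cyc hx)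

theorem cyc_smul {ρ : F} (hρ : ρ ≠ 0) (T : End F V) (u : V) : cyc (ρ • T) u = cyc T u := by
  refine le_antisymm (cyc_smul_le ρ T u) ?_
  have := cyc_smul_le ρ⁻¹ (ρ • T) u
  rwa [smul_smul, inv_mul_cancel₀ hρ, one_smul] at this

theorem aeval_spl_smul (ρ : F) (T : End F V) (s : Multiset F) (x : V)
    (hx : aeval T (spl s) x = 0) : aeval (ρ • T) (spl (s.map fun a ↦ ρ * a)) x = 0 := by
  induction s using Multiset.induction_on generalizing x with
  | empty => simpa [spl_zero] using hx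
  | cons a s ih =>
    rw [aeval_spl_cons] at hx
    have := ih _ hx
    rw [Multiset.map_cons, aeval_spl_cons,
      show (ρ • T) x - (ρ * a) • x = ρ • (T x - a • x) by rw [LinearMap.smul_apply]; module,
      map_smul, this, smul_zero]

theorem Res2.scale {b c₀ ρ : F} (hρ : ρ ≠ 0) {P : F[X]} {t : Multiset F} {g : End F V} {c : V}
    {r : Dual F V} (h : Res2 b c₀ P (spl t) g c r) :
    Res2 b (ρ * c₀) P (spl (t.map fun a ↦ ρ * a)) (ρ • g) c r := by
  obtain ⟨D, h1, ⟨u, h2⟩, h3, h4, h5, h6⟩ := h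
  have e : ∀ x, (ρ • g) (D x) - (ρ * c₀) • x = g (D (ρ • x)) - c₀ • ρ • x := fun x ↦ by
    simp only [LinearMap.smul_apply, map_smul]; module
  refine ⟨D, h1, ⟨u, by rw [smul_mul_assoc, cyc_smul hρ, h2]⟩, h3, ?_, ?_, h6⟩
  · rw [smul_mul_assoc]
    exact LinearMap.ext fun x ↦ aeval_spl_smul ρ _ t x (by rw [h4]; rfl)
  · rcases h5 with h5 | h5
    · refine Or.inl fun y ↦ ?_
      obtain ⟨x, hx⟩ := h5 y
      exact ⟨ρ⁻¹ • x, by rw [e, smul_inv_smul₀ hρ, hx]⟩
    · exact Or.inr fun x ↦ by rw [e]; exact h5 _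

/-- The one-dimensional base case. -/
theorem res2_one [FiniteDimensional F V] (hV : finrank F V = 1) {g : End F V} {β γ : F}
    (hg : LinearMap.det g * β = γ) {c : V} (hc : c ≠ 0) {r : Dual F V} (hr : r ≠ 0) :
    Res2 β γ (X - C β) (X - C γ) g c r := by
  have hall : ∀ x, ∃ a : F, a • c = x := (finrank_eq_one_iff_of_nonzero' c hc).1 hV
  obtain ⟨a, ha⟩ := hall (g c)
  obtain rfl : g = a • 1 := LinearMap.ext fun x ↦ by
    obtain ⟨b, rfl⟩ := hall x
    simp [← ha]
  rw [LinearMap.det_smul, hV, pow_one, map_one, mul_one] at hg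
  have hc' : ∀ T : End F V, cyc T c = ⊤ := fun T ↦ eq_top_iff.2 fun x _ ↦ by
    obtain ⟨b, rfl⟩ := hall x
    exact Submodule.smul_mem _ _ (self_mem_cyc _ _)
  refine ⟨β • 1, ⟨c, hc' _⟩, ⟨c, hc' _⟩, by simp [Algebra.algebraMap_eq_smul_one],
    by simp [Algebra.algebraMap_eq_smul_one, smul_smul, ← hg, mul_comm],
    Or.inr fun x ↦ by simpa [smul_smul, ← hg, mul_comm] using hc.symm,
    Or.inr ⟨c, by simp, fun h ↦ hr (LinearMap.ext fun x ↦ ?_)⟩⟩
  obtain ⟨b, rfl⟩ := hall x
  simp [h]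

/-- A vector whose non-vanishing makes `red - ρ` injective. -/
theorem exists_test [FiniteDimensional F V] {g : End F V} {v : V} (hv : cyc g v = ⊤)
    (hd : 3 ≤ finrank F (cyc g v)) {ρ : F} (hρ : ρ ≠ 0) : ∃ u, (∀ a : F, a • (g v - v) ≠ u) ∧
      ∀ (φ : Dual F V) (h1 : φ (g v) = 1), φ u ≠ 0 → ∀ x, red h1 x = ρ • x → x = 0 := by
  by_cases hN : ∀ x, g x = ρ • x → x = 0
  · obtain ⟨u, hu⟩ := surj_of_inj hN (g v)
    refine ⟨u, fun a e ↦ ?_, fun φ h1 hφ x hx ↦ ?_⟩
    · have := (cyc_indep_three hd (a := a * ρ) (b := -(1 + ρ) * a - 1) (c := a) (by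
        rw [← e] at hu
        simp only [map_smul, map_sub] at hu
        linear_combination (norm := module) hu))
      simp [this.2.2] at this
    · have e : g x - φ (g x) • g v = ρ • (x : V) := congrArg Subtype.val hx
      have e2 : (x : V) - φ (g x) • u = 0 := hN _ (by
        rw [map_sub, map_smul]
        linear_combination (norm := module) e - φ (g x) • hu)
      have e3 : φ (g x) = 0 := by
        have := congrArg φ e2
        simpa [hφ] using this
      rw [e3, zero_smul, sub_zero] at e2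
      exact Subtype.ext e2
  · push Not at hN
    obtain ⟨u, hu, hu0⟩ := hN
    have hker : ∀ x, g x = ρ • x → ∃ a : F, x = a • u := fun x hx ↦
      Cyc.e1 ⟨v, hv⟩ ρ u x hu hx hu0
    have hns : ∀ y, g y - ρ • y ≠ v := by
      intro y hy
      have hs : Function.Surjective (g - ρ • 1 : End F V) := fun z ↦ by
        obtain ⟨s, x, rfl⟩ := exists_smul_add_of_cyc hv ρ z
        exact ⟨s • y + x, by
          simp only [← hy, LinearMap.sub_apply, map_add, map_smul, LinearMap.smul_apply,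
            End.one_apply]⟩
      exact hu0 (LinearMap.injective_iff_surjective.2 hs (by simp [hu]))
    refine ⟨u, fun a e ↦ ?_, fun φ h1 hφ x hx ↦ ?_⟩
    · have := (cyc_indep_three hd (a := a * ρ) (b := -(1 + ρ) * a) (c := a) (by
        rw [← e] at hu
        simp only [map_smul, map_sub] at hu
        linear_combination (norm := module) hu))
      exact hu0 (by rw [← e, this.2.2, zero_smul])
    · have e : g x - φ (g x) • g v = ρ • (x : V) := congrArg Subtype.val hx
      by_cases e3 : φ (g x) = 0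
      · rw [e3, zero_smul, sub_zero] at e
        obtain ⟨a, ha⟩ := hker x e
        have : a = 0 := by simpa [hφ] using (congrArg φ ha).symm.trans x.2
        exact Subtype.ext (by rw [ha, this, zero_smul]; rfl)
      · refine absurd ?_ (hns (ρ⁻¹ • ((φ (g x))⁻¹ • (x : V) - v)))
        rw [map_smul, map_sub, map_smul]
        have h1 := mul_inv_cancel₀ e3
        have h2 := mul_inv_cancel₀ hρ
        linear_combination (norm := module) (ρ⁻¹ * (φ (g x))⁻¹) • e + (ρ⁻¹ • h1) • g v + h2 • v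

/-- Equal entries are adjacent. -/
def Grp : List F → Prop
  | [] => True
  | a :: l => (l.head? = some a ∨ a ∉ l) ∧ Grp l

omit [Field F] in
theorem Grp.insert {l : List F} (h : Grp l) (a : F) : ∃ l', Grp l' ∧ l'.Perm (a :: l) ∧
    (a ∈ l → l'.head? = l.head?) := by
  induction l with
  | nil => exact ⟨[a], ⟨Or.inr (by simp), trivial⟩, List.Perm.refl _, by simp⟩
  | cons b l ih =>
    by_cases e : a = b
    · subst e
      exact ⟨a :: a :: l, ⟨Or.inl rfl, h⟩, List.Perm.refl _, fun _ ↦ rfl⟩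
    by_cases hm : a ∈ l
    · obtain ⟨l', h1, h2, h3⟩ := ih h.2
      refine ⟨b :: l', ⟨?_, h1⟩, (h2.cons b).trans (List.Perm.swap _ _ _), fun _ ↦ rfl⟩
      rcases h.1 with h4 | h4
      · exact Or.inl ((h3 hm).trans h4)
      · refine Or.inr fun h5 ↦ ?_
        rcases List.mem_cons.1 (h2.mem_iff.1 h5) with h6 | h6
        · exact e h6.symm
        · exact h4 h6
    · exact ⟨a :: b :: l, ⟨Or.inr (by simp [e, hm]), h⟩, List.Perm.refl _, by simp [e, hm]⟩

omit [Field F] in
theorem exists_grp (s : Multiset F) : ∃ l : List F, Grp l ∧ (l : Multiset F) = s := by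
  induction s using Multiset.induction_on with
  | empty => exact ⟨[], trivial, rfl⟩
  | cons a s ih =>
    obtain ⟨l, h, rfl⟩ := ih
    obtain ⟨l', h1, h2, -⟩ := h.insert a
    exact ⟨l', h1, by rw [Multiset.cons_coe]; exact Multiset.coe_eq_coe.2 h2⟩

theorem Grp.map {l : List F} (h : Grp l) {ρ : F} (hρ : ρ ≠ 0) : Grp (l.map fun a ↦ ρ * a) := by
  induction l with
  | nil => trivial
  | cons a l ih =>
    refine ⟨?_, ih h.2⟩
    rcases h.1 with h1 | h1
    · exact Or.inl (by rw [List.head?_map, h1]; rfl)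
    · refine Or.inr fun h2 ↦ ?_
      obtain ⟨b, hb, e⟩ := List.mem_map.1 h2
      exact h1 (mul_left_cancel₀ hρ e ▸ hb)

theorem Grp.head {a b : F} {l : List F} (h : Grp (a :: b :: l)) :
    a = b ∨ (spl ((b :: l : List F) : Multiset F)).eval a ≠ 0 := by
  rcases h.1 with h1 | h1
  · exact Or.inl (Option.some.inj h1).symm
  · exact Or.inr (eval_spl_ne_zero.2 (by simpa using h1))

theorem spl_coe_cons (a : F) (l : List F) :
    spl ((a :: l : List F) : Multiset F) = (X - C a) * spl (l : Multiset F) := by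
  rw [← Multiset.cons_coe, spl_cons]

end Aux

universe u

variable {F : Type*} [Field F]

/-- The statement of the induction, for the heads `β`, `γ`. -/
def St (m : ℕ) (β γ : F) : Prop :=
  ∀ (V : Type u) [AddCommGroup V] [Module F V] [FiniteDimensional F V] (g : End F V)
    (v c : V) (r : Dual F V) (R : Submodule F V) (ls lt : List F), finrank F V = m + 2 →
    ls.length = m + 1 → lt.length = m + 1 → Grp (β :: ls) → Grp (γ :: lt) →
    (0 : F) ∉ β :: ls → (0 : F) ∉ γ :: lt → LinearMap.det g * (β :: ls).prod = (γ :: lt).prod →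
    IsCompl (cyc g v) R → (∀ x ∈ R, g x ∈ R) → r v ≠ 0 → c ∈ cyc g v →
    (∀ a : F, a • (β • g v - γ • v) ≠ c) → 2 ≤ finrank F (cyc g v) →
    (3 ≤ finrank F (cyc g v) ∨ m = 0 ∨ ∀ b : F, ∃ x ∈ R, g x ≠ b • x) →
    (m = 0 → ∀ x, β • g x = γ • x → x = 0) →
    Res2 β γ (spl ((β :: ls : List F) : Multiset F)) (spl ((γ :: lt : List F) : Multiset F)) g c r

theorem St.of_norm {m : ℕ} {β : F} (h : St.{u} m β β) (γ : F) : St.{u} m β γ := by
  intro V _ _ _ g v c r R ls lt hV l1 l2 g1 g2 z1 z2 hdet hC hR hr hc hc' hd hinv hB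
  have hβ : β ≠ 0 := fun e ↦ z1 (by simp [e])
  have hγ : γ ≠ 0 := fun e ↦ z2 (by simp [e])
  have hρ : β / γ ≠ 0 := div_ne_zero hβ hγ
  have e1 : β / γ * γ = β := div_mul_cancel₀ β hγ
  have e2 : (γ :: lt).map (fun a ↦ β / γ * a) = β :: lt.map fun a ↦ β / γ * a := by
    rw [List.map_cons, e1]
  have hcy := cyc_smul hρ g v
  have := h V ((β / γ) • g) v c r R ls (lt.map fun a ↦ β / γ * a) hV l1 (by simpa using l2) g1
    (e2 ▸ g2.map hρ) z1 (by
      rw [← e2]
      intro h0
      obtain ⟨a, ha, e⟩ := List.mem_map.1 h0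
      exact z2 ((mul_eq_zero.1 e).resolve_left hρ ▸ ha))
    (by
      rw [← e2, List.prod_map_mul, List.map_id', LinearMap.det_smul, hV, mul_assoc, hdet]
      simp [l2, pow_succ'])
    (by rwa [hcy]) (fun x hx ↦ R.smul_mem _ (hR x hx)) hr (by rwa [hcy])
    (fun a e ↦ hc' (a * (β / γ)) (by
      rw [← e, LinearMap.smul_apply]; linear_combination (norm := module) -(a • e1) • v))
    (by rwa [hcy]) (by
      rw [hcy]
      refine hinv.imp_right (Or.imp_right fun h b ↦ ?_)
      obtain ⟨x, hx, e⟩ := h ((β / γ)⁻¹ * b)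
      exact ⟨x, hx, fun e' ↦ e (by rw [mul_smul, ← e', LinearMap.smul_apply, inv_smul_smul₀ hρ])⟩)
    (fun hm x e ↦ hB hm x (smul_right_injective V hρ (by
      rw [LinearMap.smul_apply] at e
      linear_combination (norm := module) e - e1 • x)))
  have h2 := this.scale (inv_ne_zero hρ)
  rw [smul_smul, inv_mul_cancel₀ hρ, one_smul, ← e2, Multiset.map_coe, List.map_map] at h2
  have e3 : (β / γ)⁻¹ * β = γ := by field_simp
  have e4 : ((fun a ↦ (β / γ)⁻¹ * a) ∘ fun a ↦ β / γ * a) = id :=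
    funext fun a ↦ inv_mul_cancel_left₀ hρ a
  rwa [e3, e4, List.map_id] at h2

theorem st_zero (β : F) : St.{u} 0 β β := by
  intro V _ _ _ g v c r R ls lt hV l1 l2 g1 g2 z1 z2 hdet hC hR hr hc hc' hd _ hB
  have hβ : β ≠ 0 := fun e ↦ z1 (by simp [e])
  obtain ⟨β', rfl⟩ := List.length_eq_one_iff.1 l1
  obtain ⟨γ', rfl⟩ := List.length_eq_one_iff.1 l2
  obtain ⟨φ, h0, h1, hφ⟩ := exists_dual_base (c := c) hd fun a e ↦ hc' (a * β⁻¹) (by
    rw [← e, ← smul_sub, smul_smul, mul_assoc, inv_mul_cancel₀ hβ, mul_one])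
  have hb := res2_one (g := red h1) (β := β') (γ := γ') (by have := finrank_ker_add_one h0; omega)
    (by
      rw [det_red h0]
      refine mul_left_cancel₀ hβ ?_
      simp only [List.prod_cons, List.prod_nil, mul_one] at hdet
      linear_combination hdet) (kprj_ne_zero hd h0 h1)
    (r := φ ∘ₗ g ∘ₗ (LinearMap.ker φ).subtype) fun e ↦ by
      obtain ⟨x, hx⟩ := surj_of_inj (T := g) (β := 1)
        (fun x hx ↦ hB rfl x (by rw [hx, one_smul])) v
      have e1 := LinearMap.congr_fun e (kprj h0 x)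
      have e2 := congrArg φ hx
      simp only [LinearMap.comp_apply, Submodule.subtype_apply, coe_kprj, map_sub, map_smul, h0, h1,
        smul_eq_mul, LinearMap.zero_apply, mul_one, one_mul] at e1 e2
      exact one_ne_zero (e2.symm.trans e1)
  have e1 : ∀ a : F, spl (([a] : List F) : Multiset F) = X - C a := fun a ↦ by
    rw [spl_coe_cons]; exact mul_one _
  rw [← e1, ← e1] at hb
  rw [spl_coe_cons β, spl_coe_cons β]
  exact ((hb.changeD g1.head).changeG g2.head).lift hβ h0 h1 hφ hr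

theorem st_succ (h4 : H4 F) {m : ℕ} (ih : ∀ β γ : F, St.{u} m β γ) (β : F) :
    St.{u} (m + 1) β β := by
  intro V _ _ _ g v c r R ls lt hV l1 l2 g1 g2 z1 z2 hdet hC hR hr hc hc₀ hd hinv _
  have hβ : β ≠ 0 := fun e ↦ z1 (by simp [e])
  obtain ⟨β', ls, rfl⟩ := List.exists_cons_of_length_eq_add_one l1
  obtain ⟨γ', lt, rfl⟩ := List.exists_cons_of_length_eq_add_one l2
  have hβ' : β' ≠ 0 := fun e ↦ z1 (by simp [e])
  have hγ' : γ' ≠ 0 := fun e ↦ z2 (by simp [e])
  have hc' : ∀ a : F, a • (g v - v) ≠ c := fun a e ↦ hc₀ (a * β⁻¹) (by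
    rw [← e, ← smul_sub, smul_smul, mul_assoc, inv_mul_cancel₀ hβ, mul_one])
  have hdet' : LinearMap.det g * (β' :: ls).prod = (γ' :: lt).prod := by
    refine mul_left_cancel₀ hβ ?_
    rw [List.prod_cons (a := β), List.prod_cons (a := β)] at hdet
    linear_combination hdet
  have hg : LinearMap.det g ≠ 0 := fun e ↦ by
    rw [e, zero_mul, eq_comm, List.prod_eq_zero_iff] at hdet
    exact z2 hdet
  have hdim : ∀ (φ : Dual F V), φ v = 1 → finrank F (LinearMap.ker φ) = m + 2 := fun φ h0 ↦ by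
    have := finrank_ker_add_one h0; omega
  have fin : ∀ (φ : Dual F V) (h0 : φ v = 1) (h1 : φ (g v) = 1) (v' : LinearMap.ker φ)
      (R' : Submodule F (LinearMap.ker φ)), φ c ≠ 0 → IsCompl (cyc (red h1) v') R' →
      (∀ x ∈ R', red h1 x ∈ R') → φ (g v') ≠ 0 → kprj h0 (g v) ∈ cyc (red h1) v' →
      (∀ a : F, a • (β' • red h1 v' - γ' • v') ≠ kprj h0 (g v)) →
      2 ≤ finrank F (cyc (red h1) v') → (3 ≤ finrank F (cyc (red h1) v') ∨ m = 0) →
      (m = 0 → ∀ x, β' • red h1 x = γ' • x → x = 0) →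
      Res2 β β (spl ((β :: β' :: ls : List F) : Multiset F))
        (spl ((β :: γ' :: lt : List F) : Multiset F)) g c r := by
    intro φ h0 h1 v' R' hφ a1 a2 a3 a4 a5 a6 a7 a8
    have := ih β' γ' _ (red h1) v' (kprj h0 (g v)) (φ ∘ₗ g ∘ₗ (LinearMap.ker φ).subtype) R' ls lt
      (hdim φ h0) (by simpa using l1) (by simpa using l2) g1.2 g2.2
      (fun h ↦ z1 (List.mem_cons_of_mem _ h)) (fun h ↦ z2 (List.mem_cons_of_mem _ h))
      (by rwa [det_red h0]) a1 a2 a3 a4 a5 a6 (a7.imp_right Or.inl) a8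
    rw [spl_coe_cons β, spl_coe_cons β]
    exact ((this.changeD g1.head).changeG g2.head).lift hβ h0 h1 hφ hr
  have hvS := notMem_span_sup hC.disjoint (self_mem_cyc g v) (ne_smul_sub hd)
  have hcS := notMem_span_sup hC.disjoint hc hc'
  have hN2 : 3 ≤ finrank F (cyc g v) → ∀ b : F,
      g (g v) - b • g v ∉ Submodule.span F {g v - v} ⊔ R :=
    fun h3 b ↦ notMem_span_sup hC.disjoint (Submodule.sub_mem _
      (apply_mem_cyc (apply_mem_cyc (self_mem_cyc _ _)))
      (Submodule.smul_mem _ _ (apply_mem_cyc (self_mem_cyc _ _))))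
      fun a e ↦ by
        have := cyc_indep_three h3 (a := -a) (b := a + b) (c := -1)
          (by linear_combination (norm := module) e)
        simp at this
  have hone : ∀ φ : Dual F V, φ v = 1 → (∀ x ∈ Submodule.span F {g v - v} ⊔ R, φ x = 0) →
      φ (g v) = 1 := fun φ h0 h ↦ by
    have := h _ (Submodule.mem_sup_left (Submodule.mem_span_singleton_self _))
    rwa [map_sub, h0, sub_eq_zero] at this
  by_cases hR0 : R = ⊥
  · subst hR0
    have htop : cyc g v = ⊤ := by simpa using hC.sup_eq_top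
    have h3 : 3 ≤ finrank F (cyc g v) := by rw [htop, finrank_top]; omega
    obtain ⟨u, hu, hu'⟩ := exists_test htop h3 (div_ne_zero hγ' hβ')
    obtain ⟨φ, h0, hS, a1, a2, a3⟩ := exists_dual_three h4 hvS hcS (hN2 h3 1)
      (notMem_span_sup hC.disjoint (htop ▸ Submodule.mem_top) hu)
    have h1 := hone φ h0 hS
    have ht := cyc_red_top h0 h1 htop
    have hd' : finrank F (cyc (red h1) (kprj h0 (g v))) = m + 2 := by
      rw [ht, finrank_top, hdim φ h0]
    refine fin φ h0 h1 (kprj h0 (g v)) ⊥ a1 (by rw [ht]; exact isCompl_top_bot) (by simp)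
      (by simpa [coe_kprj, h1] using a2) (self_mem_cyc _ _) (fun a e ↦ ?_) (by omega) (by omega)
      fun _ x e ↦ hu' φ h1 a3 x (smul_right_injective _ hβ' ?_)
    · have := cyc_indep_two (g := red h1) (v := kprj h0 (g v)) (by omega) (a := -a * γ' - 1)
        (b := a * β') (by linear_combination (norm := module) e)
      have ha : a = 0 := (mul_eq_zero.1 this.2).resolve_right hβ'
      simp [ha] at this
    · have : β' * (γ' / β') = γ' := mul_div_cancel₀ _ hβ'
      simp only [e, smul_smul, this]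
  obtain ⟨w, f, ψ, R', hw, hf, hk, hfd, hfR, b1, b2, b3, b4, b5, b6, b7⟩ :=
    exists_summand (inj_of_det_ne hg) hC.disjoint hR hR0
  obtain ⟨φ₀, c0, hS, c1, c2⟩ : ∃ φ₀ : Dual F V, φ₀ v = 1 ∧
      (∀ x ∈ Submodule.span F {g v - v} ⊔ R, φ₀ x = 0) ∧ φ₀ c ≠ 0 ∧
      (3 ≤ finrank F (cyc g v) → φ₀ (g (g v) - (-f.coeff 0) • g v) ≠ 0) := by
    by_cases h3 : 3 ≤ finrank F (cyc g v)
    · obtain ⟨φ, h0, hS, a1, a2, -⟩ := exists_dual_three h4 hvS hcS (hN2 h3 _) hcS
      exact ⟨φ, h0, hS, a1, fun _ ↦ a2⟩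
    · obtain ⟨φ, h0, hS, a1⟩ := exists_dual_one hvS hcS
      exact ⟨φ, h0, hS, a1, fun h ↦ absurd h h3⟩
  have hRR : R' ≤ R := b7 ▸ le_sup_right
  have eC : ∀ x ∈ cyc g v, (φ₀ + ψ) x = φ₀ x := fun x hx ↦ by simp [b1 x hx]
  have eR : ∀ x ∈ R, (φ₀ + ψ) x = ψ x := fun x hx ↦ by simp [hS x (Submodule.mem_sup_right hx)]
  have hpow : ∀ i, (g ^ i) w ∈ R := fun i ↦ by simpa using aeval_mem hR (X ^ i) hw
  generalize φ₀ + ψ = φ at eC eR
  have h0 : φ v = 1 := by rw [eC _ (self_mem_cyc _ _), c0]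
  have h1 : φ (g v) = 1 := by rw [eC _ (apply_mem_cyc (self_mem_cyc _ _)), hone φ₀ c0 hS]
  obtain ⟨d1, d2, d3, d4, d5, d6⟩ := glue_step h0 h1 hC hf hk hfd (hfR w hw)
    (fun i hi hi' ↦ by rw [eR _ (hpow i), b2 i hi hi']) (by rw [eR _ (hpow _), b3]) b4
    (fun x hx ↦ by rw [eR _ (hRR hx), b5 x hx]) b6 b7
  have d7 : ∀ x ∈ R'.comap (LinearMap.ker φ).subtype,
      red h1 x ∈ R'.comap (LinearMap.ker φ).subtype := fun x hx ↦ by
    change (red h1 x : V) ∈ R'
    rw [d2 x hx]; exact b4 _ hx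
  have hdet2 : LinearMap.det (red h1) ≠ 0 := by rwa [det_red h0]
  have hle := Submodule.finrank_le (cyc (red h1) (kprj h0 w))
  rw [hdim φ h0] at hle
  have hφc : φ c ≠ 0 := by rwa [eC c hc]
  rcases hk.eq_or_lt with hk1 | hk2
  · obtain ⟨b, rfl⟩ : ∃ b, f = X - C b := ⟨-f.coeff 0, by
      rw [map_neg, sub_neg_eq_add]; exact hf.eq_X_add_C hk1.symm⟩
    have hb : ∀ x ∈ R, g x = b • x := fun x hx ↦ by
      simpa [Algebra.algebraMap_eq_smul_one, sub_eq_zero] using hfR x hx
    have hφw : b * φ w = 1 := by simpa using d5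
    have hb0 : b ≠ 0 := by rintro rfl; simp at hφw
    have hφg : φ (g w) = 1 := by rw [hb w hw, map_smul, smul_eq_mul, hφw]
    have d4' : kprj h0 (g v) = b • kprj h0 w - red h1 (kprj h0 w) := by
      rw [d4]; simp [Algebra.algebraMap_eq_smul_one]
    rw [natDegree_X_sub_C] at d3
    have h3 : 3 ≤ finrank F (cyc g v) := by
      rcases hinv with h | h | h
      · exact h
      · omega
      · obtain ⟨x, hx, h⟩ := h b
        exact absurd (hb x hx) h
    have hca := cyc_apply (inj_of_det_ne hdet2) (kprj h0 w)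
    refine fin φ h0 h1 (red h1 (kprj h0 w)) _ hφc (by rwa [hca]) d7 ?_ ?_
      (fun a e ↦ ?_) (by rw [hca]; omega) (Or.inl (by rw [hca]; omega)) fun hm ↦ by omega
    · have := c2 h3
      rw [← eC _ (Submodule.sub_mem _ (apply_mem_cyc (apply_mem_cyc (self_mem_cyc _ _)))
        (Submodule.smul_mem _ _ (apply_mem_cyc (self_mem_cyc _ _)))), map_sub, map_smul, h1] at this
      rw [d6, hφg, one_smul, map_sub, hb w hw, map_smul, map_sub, map_smul, hφg]
      simp only [coeff_sub, coeff_X_zero, coeff_C_zero, zero_sub, neg_neg] at this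
      exact fun e ↦ this (by linear_combination -e)
    · rw [hca, d4']
      exact Submodule.sub_mem _ (Submodule.smul_mem _ _ (self_mem_cyc _ _))
        (apply_mem_cyc (self_mem_cyc _ _))
    · have := cyc_indep_three (g := red h1) (v := kprj h0 w) (by omega) (a := -b)
        (b := 1 - a * γ') (c := a * β') (by rw [d4'] at e; linear_combination (norm := module) e)
      exact hb0 (neg_eq_zero.1 this.1)
  · refine fin φ h0 h1 (kprj h0 w) _ hφc d1 d7 ?_ ?_
      (fun a e ↦ ?_) (by omega) (Or.inl (by omega)) fun hm ↦ by omega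
    · have : φ (g w) = 0 := by simpa [eR _ (hR w hw)] using b2 1 le_rfl hk2
      simp only [coe_kprj, map_sub, map_smul, this, h1, smul_eq_mul, mul_one]
      intro e
      have : φ w = 0 := by linear_combination -e
      simp [this] at d5
    · rw [d4]; exact Submodule.neg_mem _ (aeval_mem_cyc _ _ _)
    · have hm : (f + (C (a * β') * X + C (-(a * γ')))).Monic :=
        hf.add_of_left (lt_of_le_of_lt degree_linear_le (by
          rw [degree_eq_natDegree hf.ne_zero]; exact_mod_cast hk2))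
      refine hm.ne_zero (eq_zero_of_aeval (g := red h1) (v := kprj h0 w) ?_ ?_)
      · rw [d4] at e
        simp only [map_add, map_mul (aeval (red h1)), aeval_C, aeval_X,
          Algebra.algebraMap_eq_smul_one,
          LinearMap.add_apply, End.mul_apply, LinearMap.smul_apply, End.one_apply]
        linear_combination (norm := module) e
      · rw [natDegree_add_eq_left_of_natDegree_lt (lt_of_le_of_lt natDegree_linear_le hk2)]
        omega

theorem st_all (h4 : H4 F) (m : ℕ) (β γ : F) : St.{u} m β γ := by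
  induction m generalizing β γ with
  | zero => exact (st_zero β).of_norm γ
  | succ m ih => exact (st_succ h4 ih β).of_norm γ

end Rs

universe u

/-- Lev's induction for arbitrary split cyclic classes. -/
theorem resS (F : Type*) [Field F] : ResS.{u} F := by
  intro h4 V _ _ _ g v R s t hV _ hC hR hd hinv hs ht z1 z2 hdet
  obtain ⟨ls, g1, rfl⟩ := Rs.exists_grp s
  obtain ⟨lt, g2, rfl⟩ := Rs.exists_grp t
  obtain ⟨m, hm⟩ : ∃ m, finrank F V = m + 1 + 2 := ⟨finrank F V - 3, by omega⟩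
  rw [Multiset.coe_card] at hs ht
  obtain ⟨β, ls, rfl⟩ := List.exists_cons_of_length_eq_add_one (hs.trans hm)
  obtain ⟨γ, lt, rfl⟩ := List.exists_cons_of_length_eq_add_one (ht.trans hm)
  have hβ : β ≠ 0 := fun e ↦ z1 (by simp [e])
  obtain ⟨φ, h0, -, -⟩ := exists_dual_base hd (ne_smul_sub hd)
  obtain ⟨D, h1, h2, h3, h4', -⟩ := Rs.st_all.{u} h4 (m + 1) β γ V g v v φ R ls lt hm
    (by simp at hs; omega) (by simp at ht; omega) g1 g2 (by simpa using z1) (by simpa using z2)
    (by simpa using hdet) hC hR (by simp [h0]) (self_mem_cyc _ _) (fun a e ↦ by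
      have := cyc_indep_two hd (a := -a * γ - 1) (b := a * β)
        (by linear_combination (norm := module) e)
      have ha : a = 0 := (mul_eq_zero.1 this.2).resolve_right hβ
      simp [ha] at this) hd (hinv.imp_right Or.inr) (by omega)
  exact ⟨D, ⟨h1, h3, by rwa [Multiset.coe_card], z1⟩, h2, h4', by rwa [Multiset.coe_card], z2⟩

end CL.Lv
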