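/-
Lev's covering number: explicit factorisations of scalars.
-/
import Cfsg.Agent.Cls.LvBase2

set_option autoImplicit false

namespace CL.Lv

open Module Polynomial CL.SLn Matrix

universe u

namespace ScE

variable {F : Type*} [Field F] {V : Type*} [AddCommGroup V] [Module F V] [FiniteDimensional F V] {A : End F V}

theorem sigma {K : End F V} {n : ℕ} (h1 : (A * K) ^ (n + 1) = 1) (h2 : K ^ (n + 1) = 1)
    (h3 : LinearMap.det K = 1 ∨ Donto A) : Tup (Cj A) (n + 1) 1 fun _ => False := by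
  have e1 : K * K ^ n = 1 := (pow_succ' K n).symm.trans h2
  have e2 : ∀ m : ℕ, (K ^ n) ^ m * K ^ m = 1 := fun m => by
    rw [← ((Commute.refl K).pow_left n).mul_pow, ← pow_succ, h2, one_pow]
  have key : ∀ m : ℕ, Tup (Cj A) m ((A * K) ^ m * (K ^ n) ^ m) fun _ => False := fun m => by
    induction m with
    | zero => simpa using Tup.nil (Cj A)
    | succ m ih =>
      convert ih.snoc (h3.elim (fun h => cj_conj A (by rw [map_pow, h, one_pow]) (e2 m))
        fun h => (cg_conj A (e2 m)).cj h) using 1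
      rw [pow_succ, pow_succ' (K ^ n)]
      simp only [mul_assoc]
      rw [← mul_assoc K, e1, one_mul, ← mul_assoc ((K ^ n) ^ m), e2, one_mul]
  have := key (n + 1)
  rwa [h1, one_mul, ← pow_mul, mul_comm n, pow_mul, h2, one_pow] at this

theorem sigmaM {n : ℕ} (b : Basis (Fin (n + 1)) F V) {M : Matrix (Fin (n + 1)) (Fin (n + 1)) F} (hA : A = toLin b b M)
    (K : Matrix (Fin (n + 1)) (Fin (n + 1)) F) (h1 : (M * K) ^ (n + 1) = 1) (h2 : K ^ (n + 1) = 1)
    (h3 : K.det = 1 ∨ Donto A) : Tup (Cj A) (n + 1) 1 fun _ => False :=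
  sigma (K := toLinAlgEquiv b K) (by rw [hA, ← map_one (toLinAlgEquiv b), ← h1, map_pow, map_mul]; rfl)
    (by rw [← map_pow, h2, map_one]) (h3.imp_left fun h => (LinearMap.det_toLin b K).trans h)

omit [FiniteDimensional F V] in
theorem donto_basis [FiniteDimensional F V] {ι : Type*} (b : Basis ι F V) (i : ι) {c : F} (h1 : A (b i) = c • b i)
    (h2 : ∀ j, b.repr (A (b j)) i = c * b.repr (b j) i) : Donto A :=
  donto_of_pair (ψ := b.coord i) h1 (fun x => LinearMap.congr_fun (b.ext (f₁ := b.coord i ∘ₗ A) (f₂ := c • b.coord i) h2) x)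
    (by simp)

omit [FiniteDimensional F V] in
theorem prod_eig {v : V} {k : ℕ} (X : Fin k → End F V) (c : Fin k → F) (h : ∀ j, X j v = c j • v) :
    (List.ofFn X).prod v = (∏ j, c j) • v := by
  induction k with
  | zero => simp
  | succ k ih =>
    rw [List.ofFn_succ, List.prod_cons, End.mul_apply, ih _ _ fun j => h j.succ, map_smul, h, Fin.prod_univ_succ,
      smul_smul, mul_comm]

theorem one (h3 : 3 ≤ finrank F V) (hA : LinearMap.det A = 1) {l m : F} (hlm : l ≠ m)
    (h : ∀ x, A (A x - l • x) = m • (A x - l • x)) : Tup (Cj A) (finrank F V) 1 fun _ => False := by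
  obtain ⟨n, hn⟩ : ∃ n, finrank F V = n + 1 := ⟨finrank F V - 1, by omega⟩
  obtain ⟨s, s1, s2, s3⟩ := exists_linearIndependent F {x | ∃ c : F, A x = c • x}
  have s4 : ⊤ ≤ Submodule.span F (Set.range ((↑) : s → V)) := fun x _ => by
    rw [Subtype.range_coe, s2, show x = (m - l)⁻¹ • ((A x - l • x) - (A x - m • x)) by
      rw [sub_sub_sub_cancel_left, ← sub_smul, inv_smul_smul₀ (sub_ne_zero.2 hlm.symm)]]
    refine Submodule.smul_mem _ _ (sub_mem (Submodule.subset_span ⟨m, h x⟩) (Submodule.subset_span ⟨l, ?_⟩))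
    have := h x
    simp only [map_sub, map_smul] at this ⊢
    rw [eq_add_of_sub_eq this]; module
  let b₀ := Basis.mk s3 s4
  haveI := FiniteDimensional.fintypeBasisIndex b₀
  let b := b₀.reindex (Fintype.equivFinOfCardEq ((finrank_eq_card_basis b₀).symm.trans hn))
  have hb : ∀ i, ∃ c : F, A (b i) = c • b i := fun i => by
    rw [Basis.reindex_apply, Basis.mk_apply]; exact s1 (Subtype.prop _)
  choose d hd using hb
  have e1 : ∏ i, d i = 1 := by
    rw [← hA, ← det_diagonal, ← LinearMap.det_toLin b]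
    exact congrArg _ (b.ext fun i => by rw [hd]; simp [diagonal_apply])
  have hD : Donto A := donto_basis b 0 (hd 0) fun j => by
    rw [hd]; by_cases e : j = 0 <;> simp [e]
  refine ⟨List.ofFn fun j => b.constr F fun i => d (i + j) • b i, by simp [hn], List.forall_mem_ofFn_iff.2 fun j =>
    Cg.cj ⟨b.equiv b (Equiv.subRight j), (LinearEquiv.isUnit_det' _).ne_zero, b.ext fun i => by simp [hd]⟩ hD,
    b.ext fun i => ?_, fun _ => False.elim⟩
  rw [prod_eig _ (fun j => d (i + j)) fun j => b.constr_basis F _ i, show ∏ j, d (i + j) = _ from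
    Equiv.prod_comp (Equiv.addLeft i) d, e1, one_smul, End.one_apply]

theorem two (h4 : H4 F) (h3 : 3 ≤ finrank F V) {l : F} (s : F) {N : End F V} (hA : LinearMap.det (l • 1 + N) = 1)
    (hN : N * N = 0) {x : V} (hx : N x = 0) (hx' : ∀ y, N y ≠ x) :
    Tup (Cj (l • 1 + N)) (finrank F V) (l ^ finrank F V • 1 + s • N) fun _ => False := by
  have l0 : l ≠ 0 := fun e => by
    have := congrArg LinearMap.det hN
    rw [e, zero_smul, zero_add] at hA
    rw [map_mul, hA, ← zero_smul F (1 : End F V), LinearMap.det_smul, zero_pow (by omega)] at this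
    simp at this
  have hC : ∀ a : F, a ≠ 0 → Cg (l • 1 + N) (l • 1 + a • N) := fun a ha => by
    obtain ⟨C, hC⟩ := (LinearMap.ker N).exists_isCompl
    obtain ⟨g, g1, g2, g3⟩ := exists_glue hC 1 (a⁻¹ • 1)
    refine ⟨g, by simp [g1, ha], ?_⟩
    have : g * N = a • N * g := ext_of_isCompl hC (fun y hy => by
      rw [End.mul_apply, End.mul_apply, show g y = y from g2 ⟨y, hy⟩, LinearMap.smul_apply, LinearMap.mem_ker.1 hy,
        map_zero, smul_zero]) fun y hy => by
      rw [End.mul_apply, End.mul_apply, show g y = a⁻¹ • y from g3 ⟨y, hy⟩,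
        show g (N y) = N y from g2 ⟨N y, LinearMap.congr_fun hN y⟩, map_smul, LinearMap.smul_apply, inv_smul_smul₀ ha]
    rw [mul_add, add_mul, this, mul_smul_comm, smul_mul_assoc l, mul_one, one_mul]
  have hD : Donto (l • 1 + N) := by
    obtain ⟨ψ, p1, p2⟩ := (LinearMap.range N).exists_dual_map_eq_bot_of_notMem (fun ⟨y, e⟩ => hx' y e) inferInstance
    have p3 : ∀ y, ψ (N y) = 0 := fun y => (Submodule.mem_bot F).1 (p2 ▸ Submodule.mem_map_of_mem ⟨y, rfl⟩)
    exact donto_of_pair (v := x) (ψ := (ψ x)⁻¹ • ψ) (c := l) (by simp [hx]) (fun y => by simp [p3, mul_left_comm])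
      (by simp [p1])
  have step : ∀ m : ℕ, (∀ t : F, t ≠ 0 → Tup (Cg (l • 1 + N)) (m + 1) (l ^ (m + 1) • 1 + t • N) fun _ => False) →
      ∀ t : F, Tup (Cg (l • 1 + N)) (m + 1 + 1) (l ^ (m + 1 + 1) • 1 + t • N) fun _ => False := fun m h t => by
    obtain ⟨a, a0, a1, -⟩ := h4 0 (t / l ^ (m + 1)) 0
    convert (h ((t - a * l ^ (m + 1)) / l) (div_ne_zero (sub_ne_zero.2 fun e => a1 (by
      rw [e, mul_div_cancel_right₀ _ (pow_ne_zero _ l0)])) l0)).cons (hC a a0) using 1
    simp only [add_mul, mul_add, smul_mul_smul_comm, hN, one_mul, mul_one, smul_zero, mul_div_cancel₀ _ l0]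
    rw [pow_succ' l (m + 1)]; module
  have key : ∀ m : ℕ, ∀ t : F, t ≠ 0 → Tup (Cg (l • 1 + N)) (m + 1) (l ^ (m + 1) • 1 + t • N) fun _ => False := fun m => by
    induction m with
    | zero => exact fun t ht => by simpa using Tup.single (hC t ht)
    | succ m ih => exact fun t _ => step m ih t
  obtain ⟨n, hn⟩ : ∃ n, finrank F V = n + 1 + 1 := ⟨finrank F V - 2, by omega⟩
  exact hn ▸ (step n (key n) s).cj hD

theorem three (hA : LinearMap.det A = 1) {a b : V} {t d : F} (h4 : finrank F V = 4)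
    (hl : LinearIndependent F ![a, A a, b, A b]) (h : ∀ x, A (A x) = t • A x - d • x) :
    Tup (Cj A) 4 1 fun _ => False := by
  let β := basisOfLinearIndependentOfCardEqFinrank hl (by simp [h4])
  have hβ : ∀ i, β i = ![a, A a, b, A b] i := congrFun (coe_basisOfLinearIndependentOfCardEqFinrank _ _)
  have e1 : A = toLin β β !![0, -d, 0, 0; 1, t, 0, 0; 0, 0, 0, -d; 0, 0, 1, t] := β.ext fun i => by
    rw [toLin_self]; fin_cases i <;> simp [hβ, Fin.sum_univ_four, h, sub_eq_neg_add]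
  have e2 : d * d = 1 := by
    rw [e1, LinearMap.det_toLin] at hA
    simpa [det_succ_row_zero, Fin.sum_univ_succ, Fin.succAbove] using hA
  have e3 : Cj A (t • 1 - A) := ⟨toLin β β !![1, t, 0, 0; 0, -1, 0, 0; 0, 0, 1, t; 0, 0, 0, -1], by
    rw [LinearMap.det_toLin]; simp [det_succ_row_zero, Fin.sum_univ_succ, Fin.succAbove], by
      have g : ∀ i, toLin β β !![1, t, 0, 0; 0, -1, 0, 0; 0, 0, 1, t; 0, 0, 0, -1] (![a, A a, b, A b] i) = _ :=
        fun i => hβ i ▸ toLin_self β β _ i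
      have g0 := g 0
      have g1 := g 1
      have g2 := g 2
      have g3 := g 3
      simp [Fin.sum_univ_four, hβ] at g0 g1 g2 g3
      refine β.ext fun i => ?_
      fin_cases i <;> simp [hβ, h, g0, g1, g2, g3] <;> module⟩
  have e4 : A * (t • 1 - A) = d • 1 := LinearMap.ext fun x => by simp [h]
  have e5 := (Tup.single (Cj.refl A)).snoc e3
  simpa [e4, smul_smul, e2] using e5.mul e5

theorem four (hA : LinearMap.det A = 1) (h3 : finrank F V = 3) (hc : Cyc A) : Tup (Cj A) 3 1 fun _ => False := by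
  obtain ⟨v, hv⟩ := hc
  have hl : LinearIndependent F ![v, A v, A (A v)] := Fintype.linearIndependent_iff.2 fun g hg => by
    obtain ⟨h0, h1, h2⟩ := cyc_indep_three (g := A) (v := v) (by rw [hv, finrank_top, h3])
      (by simpa [Fin.sum_univ_three] using hg)
    intro i; fin_cases i <;> assumption
  let β := basisOfLinearIndependentOfCardEqFinrank hl (by simp [h3])
  have hβ : ∀ i, β i = ![v, A v, A (A v)] i := congrFun (coe_basisOfLinearIndependentOfCardEqFinrank _ _)
  obtain ⟨r, q, p, e⟩ : ∃ r q p : F, A (A (A v)) = r • v + q • A v + p • A (A v) :=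
    ⟨_, _, _, by simpa [Fin.sum_univ_three, hβ] using (β.sum_repr (A (A (A v)))).symm⟩
  have e1 : A = toLin β β !![0, 0, r; 1, 0, q; 0, 1, p] := β.ext fun i => by
    rw [toLin_self]; fin_cases i <;> simp [hβ, Fin.sum_univ_three, e]
  obtain rfl : r = 1 := by
    rw [e1, LinearMap.det_toLin] at hA
    simpa [det_fin_three] using hA
  refine sigmaM β e1 !![0, -1, 2 - q; 1, -1, 1 - p; 0, 0, 1] ?_ ?_ (Or.inl (by simp [det_fin_three])) <;>
  · ext i j
    fin_cases i <;> fin_cases j <;> simp [pow_succ, mul_apply, Fin.sum_univ_three] <;> ring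

theorem five (hA : LinearMap.det A = 1) {a e : V} {l : F} (h4 : finrank F V = 4)
    (hl : LinearIndependent F ![a, A a, A (A a), e]) (he : A e = l • e)
    (h : A (A (A a)) ∈ Submodule.span F {a, A a, A (A a)}) : Tup (Cj A) 4 1 fun _ => False := by
  let β := basisOfLinearIndependentOfCardEqFinrank hl (by simp [h4])
  have hβ : ∀ i, β i = ![a, A a, A (A a), e] i := congrFun (coe_basisOfLinearIndependentOfCardEqFinrank _ _)
  obtain ⟨r, q, p, h⟩ := Submodule.mem_span_triple.1 h
  have e1 : A = toLin β β !![0, 0, r, 0; 1, 0, q, 0; 0, 1, p, 0; 0, 0, 0, l] := β.ext fun i => by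
    rw [toLin_self]; fin_cases i <;> simp [hβ, Fin.sum_univ_four, ← h, he]
  have e2 : r * l = 1 := by
    rw [e1, LinearMap.det_toLin] at hA
    simpa [det_succ_row_zero, Fin.sum_univ_succ, Fin.succAbove] using hA
  refine sigmaM β e1 !![-1, 0, -q, 0; 0, 0, -p, 1; 0, 0, 1, 0; 0, -1, 0, 0] ?_ ?_ (Or.inr (donto_basis β 3 (c := l)
    (by simp [hβ, he]) fun j => ?_))
  · rw [show !![0, 0, r, 0; 1, 0, q, 0; 0, 1, p, 0; 0, 0, 0, l] * !![-1, 0, -q, 0; 0, 0, -p, 1; 0, 0, 1, 0; 0, -1, 0, 0] =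
      !![0, 0, r, 0; -1, 0, 0, 0; 0, 0, 0, 1; 0, -l, 0, 0] by
        ext i j; fin_cases i <;> fin_cases j <;> simp [mul_apply, Fin.sum_univ_four]]
    ext i j
    fin_cases i <;> fin_cases j <;> simp [pow_succ, mul_apply, Fin.sum_univ_four, e2, mul_comm l]
  · ext i j
    fin_cases i <;> fin_cases j <;> simp [pow_succ, mul_apply, Fin.sum_univ_four]
  · rw [e1, toLin_self, β.repr_sum_self]
    fin_cases j <;> simp

end ScE

theorem scES (F : Type*) [Field F] : ScES.{u} F := fun h4 _ _ _ _ _ h3 hA =>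
  ⟨fun _ _ h h' => ScE.one h3 hA h h', fun _ s _ e hN ⟨_, hx, hx'⟩ => e ▸ ScE.two h4 h3 s (e ▸ hA) hN hx hx',
    fun _ _ _ _ h hl h' => h ▸ ScE.three hA h hl h', fun h hc => h ▸ ScE.four hA h hc,
    fun _ _ _ h hl he h' => h ▸ ScE.five hA h hl he h'⟩

end CL.Lv
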