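/-
Lev's covering number: surjectivity of the norm and gluing of the blocks.
-/
import Cfsg.Agent.Cls.LvBase2

set_option autoImplicit false

namespace CL.Lv

open Module Polynomial CL.SLn

universe u

theorem dnS (F : Type*) [Field F] [Finite F] : DNS.{u} F := by
  intro V _ _ _ A hA h1 h3
  have hf := A.charpoly_monic
  have hd := A.charpoly_natDegree
  have hr : A.charpoly.roots = 0 := Multiset.eq_zero_of_forall_notMem fun c hc ↦ by
    obtain ⟨x, hx⟩ := ((End.hasEigenvalue_iff_isRoot_charpoly A c).2 (isRoot_of_mem_roots hc)).exists_hasEigenvector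
    exact hx.2 (hA c x hx.apply_eq_smul)
  have h2 : 2 ≤ A.charpoly.natDegree := by
    by_contra h
    rw [hf.eq_X_add_C (by omega), roots_X_add_C] at hr
    exact Multiset.singleton_ne_zero _ hr
  have hi := (hf.irreducible_iff_roots_eq_zero_of_degree_le_three h2 (by omega)).2 hr
  have h0 := A.aeval_self_charpoly
  generalize A.charpoly = f at hf hd hi h0
  have := Module.nontrivial_of_finrank_pos (R := F) (M := V) h1
  obtain ⟨v, hv⟩ := exists_ne (0 : V)
  have hc : cyc A v = ⊤ := by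
    obtain ⟨g, hg, g1, g2⟩ := exists_order A v
    obtain ⟨q, rfl⟩ := (g2 f).1 (by rw [h0]; rfl)
    rcases hi.isUnit_or_isUnit rfl with e | e
    · exact absurd (by simpa using (g2 1).2 e.dvd) hv
    · rw [natDegree_mul hg.ne_zero e.ne_zero, natDegree_eq_zero_of_isUnit e, add_zero] at hd
      exact Submodule.eq_top_of_finrank_eq (g1.symm.trans hd)
  refine ⟨⟨v, hc⟩, fun s _ ↦ ?_⟩
  have : Fact (Irreducible f) := ⟨hi⟩
  have := (AdjoinRoot.powerBasis hf.ne_zero).finite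
  have : Finite (AdjoinRoot f) := Module.finite_of_finite F
  have k1 : ∀ p : F[X], aeval (Algebra.lmul F (AdjoinRoot f) (AdjoinRoot.root f)) p =
      Algebra.lmul F (AdjoinRoot f) (AdjoinRoot.mk f p) := fun p ↦ by
    rw [aeval_algHom_apply, AdjoinRoot.aeval_eq]
  have k2 : CL.GLn.Sim A (Algebra.lmul F (AdjoinRoot f) (AdjoinRoot.root f)) :=
    exists_equiv_of_cyc (v' := 1) hc (eq_top_iff.2 fun a _ ↦ by
      obtain ⟨p, rfl⟩ := AdjoinRoot.mk_surjective a
      exact ⟨p, by rw [ev_apply, k1]; simp⟩) hf.ne_zero h0 (by rw [k1, AdjoinRoot.mk_self, map_zero]) hd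
      (AdjoinRoot.powerBasis hf.ne_zero).finrank.symm
  obtain ⟨a, rfl⟩ := FiniteField.norm_surjective F (AdjoinRoot f) s
  obtain ⟨p, rfl⟩ := AdjoinRoot.mk_surjective a
  exact ⟨aeval A p, by rw [(k2.aeval p).det, k1, Algebra.norm_apply], LinearMap.ext (aeval_comm_apply A p)⟩

section

variable {F : Type*} [Field F] [Finite F] {V : Type*} [AddCommGroup V] [Module F V] [FiniteDimensional F V]

theorem exists_generic {C R : Type*} [AddCommGroup C] [Module F C] [FiniteDimensional F C] [AddCommGroup R]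
    [Module F R] [FiniteDimensional F R] {B N' : End F R} (hB : NoEig B) (X : End F C) {N : End F C} {s : Multiset F}
    (h : SC N s) (h' : E1 N') : ∃ G : R →ₗ[F] C, ∀ (β : F) (c : C) (y : R), y ≠ 0 → N' y = β • y →
      N c + (G (N' y) - X (G (B y))) = β • c → ∀ c', N c' = β • c' → c' = 0 := by
  classical
  have := Fintype.ofFinite F
  let S := s.toFinset.filter fun β ↦ (∃ y : R, y ≠ 0 ∧ N' y = β • y) ∧ LinearMap.range (N - β • (1 : End F C)) ≠ ⊤
  have k1 : ∀ β : S, ∃ y : R, y ≠ 0 ∧ N' y = β.1 • y := fun β ↦ (Finset.mem_filter.1 β.2).2.1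
  choose y y0 hy using k1
  obtain ⟨G, -, hG⟩ := Set.exists_of_ssubset (Submodule.iUnion_ssubset_of_forall_ne_top_of_card_lt Finset.univ
    (fun β : S ↦ (LinearMap.range (N - β.1 • (1 : End F C))).comap
      (β.1 • LinearMap.applyₗ (y β) - X ∘ₗ LinearMap.applyₗ (B (y β)) : (R →ₗ[F] C) →ₗ[F] C)) (fun β e ↦ by
      obtain ⟨k2, -, k3⟩ := Finset.mem_filter.1 β.2
      have k4 : β.1 ≠ 0 := fun e ↦ h.2.2.2 (e ▸ Multiset.mem_toFinset.1 k2)
      obtain ⟨θ, t1, t2⟩ := exists_dual_of_notMem (W := Submodule.span F {B (y β)}) (v := y β) fun k ↦ by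
        obtain ⟨a, ha⟩ := Submodule.mem_span_singleton.1 k
        have : a ≠ 0 := fun e ↦ y0 β (by rw [← ha, e, zero_smul])
        exact y0 β (hB a⁻¹ _ ((eq_inv_smul_iff₀ this).2 ha))
      refine k3 (eq_top_iff.2 fun c _ ↦ (Submodule.smul_mem_iff _ k4).1 ?_)
      simpa [t1, t2 _ (Submodule.mem_span_singleton_self _)] using e.ge (Submodule.mem_top (x := θ.smulRight c)))
    (by
      rw [ENat.card_eq_coe_fintype_card, Nat.cast_lt, Finset.card_univ, Fintype.card_coe]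
      exact Finset.card_lt_univ_of_notMem fun k ↦ h.2.2.2 (Multiset.mem_toFinset.1 (Finset.mem_filter.1 k).1)))
  refine ⟨G, fun β c z z0 hz e ↦ ?_⟩
  by_cases hs : β ∈ s
  swap
  · exact inj_of_eval_ne_zero h.2.1 (eval_spl_ne_zero.2 hs)
  by_cases hr : LinearMap.range (N - β • (1 : End F C)) = ⊤
  · exact fun c' e ↦ LinearMap.injective_iff_surjective.2 (LinearMap.range_eq_top.1 hr) (by simp [e])
  let b : S := ⟨β, Finset.mem_filter.2 ⟨Multiset.mem_toFinset.2 hs, ⟨z, z0, hz⟩, hr⟩⟩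
  obtain ⟨a, ha⟩ := h' β z (y b) hz (hy b) z0
  refine (hG (Set.mem_iUnion₂.2 ⟨b, Finset.mem_univ b, -(a • c), ?_⟩)).elim
  rw [hz, map_smul] at e
  simp only [ha, b, LinearMap.sub_apply, LinearMap.smul_apply, LinearMap.comp_apply, LinearMap.applyₗ_apply_apply,
    map_smul, map_neg, End.one_apply]
  linear_combination (norm := module) -(a • e)

theorem glue {A : End F V} {W R : Submodule F V} (h : IsCompl W R) (hW : ∀ x ∈ W, A x ∈ W) (hR : ∀ x ∈ R, A x ∈ R)
    (hne : NoEig (A.restrict hR)) {g₁ X₁ : End F W} {g₂ X₂ : End F R} (e1 : g₁ * A.restrict hW = X₁ * g₁)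
    (e2 : g₂ * A.restrict hR = X₂ * g₂) {s t : Multiset F} (h1 : SC (X₁ * A.restrict hW) s)
    (h2 : SC (X₂ * A.restrict hR) t) : ∃ X g : End F V, LinearMap.det g = LinearMap.det g₁ * LinearMap.det g₂ ∧
      g * A = X * g ∧ SC (X * A) (s + t) := by
  obtain ⟨G, hG⟩ := exists_generic hne X₁ h1 h2.1.e1
  obtain ⟨X, -, x1, x2⟩ := exists_glue h X₁ X₂
  obtain ⟨g, g0, g1, g2⟩ := exists_glue h g₁ g₂
  have a1 : ∀ x : W, A x = A.restrict hW x := fun _ ↦ rfl
  have a2 : ∀ x : R, A x = A.restrict hR x := fun _ ↦ rfl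
  generalize A.restrict hW = A₁ at *
  generalize A.restrict hR = A₂ at *
  let H : End F V := LinearMap.ofIsCompl h 0 (W.subtype ∘ₗ G)
  have H1 : ∀ x : W, H x = 0 := fun x ↦ by simp [H]
  have H2 : ∀ x : R, H x = G x := fun x ↦ by simp [H]
  let π : V →ₗ[F] R := LinearMap.ofIsCompl h 0 LinearMap.id
  have p1 : ∀ x : W, π x = 0 := fun x ↦ by simp [π]
  have p2 : ∀ x : R, π x = x := fun x ↦ by simp [π]
  have dec : ∀ v, ∃ (c : W) (y : R), (c : V) + y = v := fun v ↦
    (Submodule.existsUnique_add_of_isCompl h v).imp fun _ ↦ Exists.imp fun _ ↦ And.left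
  have k1 : (1 - H) * (1 + H) = 1 := LinearMap.ext fun v ↦ by
    obtain ⟨c, y, rfl⟩ := dec v
    simp [H1, H2]
  have k2 : LinearMap.det (1 + H) = 1 := by
    have hle : W ≤ W.comap (1 + H) := fun x hx ↦ by simpa [H1 ⟨x, hx⟩] using hx
    rw [LinearMap.det_eq_det_mul_det W _ hle, show (1 + H).restrict hle = 1 from
      LinearMap.ext fun x ↦ Subtype.ext (by simp [H1]), show W.mapQ W _ hle = 1 from
      Submodule.linearMap_qext _ (LinearMap.ext fun v ↦ by
        obtain ⟨c, y, rfl⟩ := dec v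
        simp [H1, H2, (Submodule.Quotient.mk_eq_zero W).2 (G y).2]), map_one, map_one, mul_one]
  have k3 : g * A = X * g := LinearMap.ext fun v ↦ by
    obtain ⟨c, y, rfl⟩ := dec v
    simp only [End.mul_apply, map_add, a1, a2, g1, g2, x1, x2]
    rw [← End.mul_apply g₁, ← End.mul_apply g₂, e1, e2]; rfl
  refine ⟨(1 + H) * X * (1 - H), (1 + H) * g, by rw [map_mul, k2, one_mul, g0], by
    rw [mul_assoc, k3, mul_assoc, ← mul_assoc (1 - H), k1, one_mul, mul_assoc], ?_⟩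
  have n1 : ∀ c : W, ((1 + H) * X * (1 - H) * A) c = (X₁ * A₁) c := fun c ↦ by simp [a1, H1, x1]
  have n2 : ∀ y : R, ((1 + H) * X * (1 - H) * A) y =
      (G ((X₂ * A₂) y) - X₁ (G (A₂ y)) : W) + ((X₂ * A₂) y : V) := fun y ↦ by
    simp [a2, H1, H2, x1, x2]; abel
  generalize (1 + H) * X * (1 - H) * A = N at n1 n2
  generalize X₁ * A₁ = N₁ at *
  generalize X₂ * A₂ = N₂ at *
  have n3 : ∀ v, π (N v) = N₂ (π v) := fun v ↦ by
    obtain ⟨c, y, rfl⟩ := dec v
    simp only [map_add, n1, n2, p1, p2, zero_add]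
  have n4 : aeval N (spl (s + t)) = 0 := LinearMap.ext fun v ↦ by
    obtain ⟨c, y, e⟩ := dec (aeval N (spl t) v)
    have := CL.GLn.aeval_intertwine π n3 (spl t) v
    rw [h2.2.1, ← e, map_add, p1, p2, zero_add, LinearMap.zero_apply] at this
    rw [spl_add, map_mul, End.mul_apply, ← e, this, Submodule.coe_zero, add_zero]
    exact (CL.GLn.aeval_intertwine W.subtype (fun x ↦ (n1 x).symm) (spl s) c).symm.trans (by rw [h1.2.1]; rfl)
  have n5 : (0 : F) ∉ s + t := fun e ↦ (Multiset.mem_add.1 e).elim h1.2.2.2 h2.2.2.2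
  have n6 : ∀ (β : F) (c : W) (y : R), N (c + y) = β • ((c : V) + y) →
      N₂ y = β • y ∧ N₁ c + (G (N₂ y) - X₁ (G (A₂ y))) = β • c := fun β c y e ↦ by
    have e' := congrArg π e
    rw [n3, map_smul, map_add, p1, p2, zero_add] at e'
    rw [map_add, n1, n2, ← add_assoc, smul_add, show (N₂ y : V) = β • (y : V) from congrArg _ e', add_left_inj] at e
    exact ⟨e', Subtype.ext e⟩
  refine ⟨cyc_of_e1 (det_ne_of_inj fun x hx ↦ inj_of_eval_ne_zero n4 (eval_spl_ne_zero.2 n5) x (by simpa using hx))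
    n4 fun β x z hx hz x0 ↦ ?_, n4, by
      rw [Multiset.card_add, h1.2.2.1, h2.2.2.1, Submodule.finrank_add_eq_of_isCompl h], n5⟩
  obtain ⟨c, y, rfl⟩ := dec x
  obtain ⟨c', y', rfl⟩ := dec z
  obtain ⟨m1, m2⟩ := n6 β c y hx
  obtain ⟨m3, m4⟩ := n6 β c' y' hz
  by_cases hy : y = 0
  · subst hy
    have hc : c ≠ 0 := fun e ↦ x0 (by simp [e])
    replace m2 : N₁ c = β • c := by simpa using m2
    obtain rfl : y' = 0 := by_contra fun e ↦ hc (hG β c' y' e m3 m4 c m2)
    obtain ⟨a, rfl⟩ := h1.1.e1 β c c' m2 (by simpa using m4) hc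
    exact ⟨a, by simp⟩
  · obtain ⟨a, rfl⟩ := h2.1.e1 β y y' m1 m3 hy
    have := hG β c y hy m1 m2 (c' - a • c) (by
      simp only [map_smul, map_sub] at m4 ⊢
      linear_combination (norm := module) m4 - a • m2)
    exact ⟨a, by rw [sub_eq_zero.1 this]; simp⟩

end

section

variable {F : Type*} [Field F] [Finite F]

theorem t3_step (h : BLS.{u} F) (h4 : H4 F) {V : Type u} [AddCommGroup V] [Module F V] [FiniteDimensional F V]
    {A : End F V} {a : V} {R : Submodule F V} (hd : LinearMap.det A ≠ 0) (hC : IsCompl (cyc A a) R)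
    (hR : ∀ x ∈ R, A x ∈ R) (hne : NoEig (A.restrict hR)) (h2 : 2 ≤ finrank F (cyc A a))
    (hE : ∃ X t, SC (X * A.restrict hR) t ∧ Cj (A.restrict hR) X) :
    ∃ (X : End F V) (s : Multiset F), SC (X * A) s ∧ Cg A X ∧ (4 ≤ finrank F (cyc A a) → Cj A X) := by
  obtain ⟨X₂, t, k1, g₂, k2, k3⟩ := hE
  obtain ⟨X₁, s, x, -, k4, k5, k6⟩ := h h4 _ _ (cyc_restrict A a) (det_restrict_ne hd _) h2
  by_cases e : 4 ≤ finrank F (cyc A a)
  · obtain ⟨⟨g₁, k7, k8⟩, -⟩ := k6 e
    obtain ⟨X, g, m1, m2, m3⟩ := glue hC _ hR hne k8 k3 k4 k1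
    have : Cj A X := ⟨g, by rw [m1, k7, k2, mul_one], m2⟩
    exact ⟨X, _, m3, this.cg, fun _ ↦ this⟩
  · obtain ⟨g₁, k7, k8⟩ := k5
    obtain ⟨X, g, m1, m2, m3⟩ := glue hC _ hR hne k8 k3 k4 k1
    exact ⟨X, _, m3, ⟨g, by rwa [m1, k2, mul_one], m2⟩, fun e' ↦ absurd e' e⟩

theorem t3_noEig (h : BLS.{u} F) (h4 : H4 F) (n : ℕ) : ∀ (V : Type u) [AddCommGroup V] [Module F V]
    [FiniteDimensional F V] (A : End F V), finrank F V = n → NoEig A → ∃ X t, SC (X * A) t ∧ Cj A X := by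
  induction n using Nat.strong_induction_on with
  | _ n ih =>
  intro V _ _ _ A hn hA
  rcases subsingleton_or_nontrivial V with hV | hV
  · exact ⟨A, 0, ⟨⟨0, Subsingleton.elim _ _⟩, Subsingleton.elim _ _, finrank_zero_of_subsingleton.symm, by simp⟩,
      Cj.refl A⟩
  have hd : LinearMap.det A ≠ 0 := det_ne_of_inj fun x hx ↦ hA 0 x (by simpa using hx)
  obtain ⟨a, R, f, hC, hR, -, -, -, -, -, h2⟩ := exists_state' hd
  obtain ⟨v, hv⟩ := exists_ne (0 : V)
  replace h2 := h2 fun c e ↦ hv (hA c v (by simp [e]))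
  have res : ∀ {W : Submodule F V} (hW : ∀ x ∈ W, A x ∈ W), NoEig (A.restrict hW) := fun hW c x e ↦
    Subtype.ext (hA c x (congrArg Subtype.val e))
  have := Submodule.finrank_add_eq_of_isCompl hC
  obtain ⟨X, s, k1, k2, k3⟩ := t3_step h h4 hd hC hR (res hR) h2 (ih _ (by omega) R _ rfl (res hR))
  refine ⟨X, s, k1, ?_⟩
  by_cases e : 4 ≤ finrank F (cyc A a)
  · exact k3 e
  · exact k2.cj (Donto.of_isCompl hC (fun _ ↦ apply_mem_cyc) hR (dnS F _ _ (res _) (by omega) (by omega)).2)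

end

theorem t3S (F : Type*) [Field F] [Finite F] (h : BLS.{u} F) : T3S.{u} F := by
  intro h4 V _ _ _ A a R hd hC hR hne h2
  have : NoEig (A.restrict hR) := fun c x e ↦ Subtype.ext (hne c x x.2 (congrArg Subtype.val e))
  exact t3_step h h4 hd hC hR this h2 (t3_noEig h h4 _ R _ rfl this)

end CL.Lv
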