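/-
Lev's covering number: pole placement and the lemma on one cyclic block.
-/
import Cfsg.Agent.Cls.LvBase2

set_option autoImplicit false

namespace CL.Lv

open Module Polynomial CL.SLn

universe u

section

variable {F : Type*} [Field F] {V : Type*} [AddCommGroup V] [Module F V]

theorem wt_eq_prod (l : List F) : wt l = ∏ i ∈ Finset.range (l.length + 1), (l.take i).prod := by
  induction l with
  | nil => simp [wt]
  | cons a l ih =>
    rw [wt, ih, List.length_cons, Finset.prod_range_succ' _ (l.length + 1)]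
    simp [Finset.prod_mul_distrib]

theorem wt_neg (l : List F) :
    wt (l.map fun a ↦ -a) = ∏ i : Fin (l.length + 1), (-1) ^ (i : ℕ) * (l.take i).prod := by
  rw [wt_eq_prod, List.length_map, Finset.prod_range]
  refine Finset.prod_congr rfl fun i _ ↦ ?_
  rw [← List.map_take, List.prod_map_neg, List.length_take, min_eq_left (Nat.le_of_lt_succ i.2)]

theorem wt_inv (l : List F) : wt (l.map fun a ↦ a⁻¹) = (wt l)⁻¹ := by
  induction l with
  | nil => simp [wt]
  | cons a l ih => simp [wt, ih, mul_comm]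

theorem wt_replicate (i : ℕ) (l : List F) : wt (List.replicate i 1 ++ l) = wt l := by
  induction i with
  | zero => simp
  | succ i ih => simp [List.replicate_succ, wt, ih]

theorem sign_rev (n : ℕ) : (((Fin.revPerm (n := n)).sign : ℤ) : F) = ∏ i : Fin n, (-1) ^ (i : ℕ) := by
  rw [Equiv.Perm.sign_eq_prod_prod_Iio, Units.coe_prod, Int.cast_prod]
  refine Finset.prod_congr rfl fun i _ ↦ ?_
  rw [Finset.prod_congr rfl fun j hj ↦ if_neg (by
    simpa using (Finset.mem_Iio.1 hj).le), Finset.prod_const, Fin.card_Iio]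
  simp

/-- the recursion for the pole placement -/
noncomputable def tp (n : ℕ → F) : ℕ → F[X]
  | 0 => 0
  | 1 => 1
  | i + 2 => C (n i) * tp n (i + 1) + X * tp n i

theorem natDegree_tp (n : ℕ → F) : ∀ i, (tp n i).natDegree ≤ i - 1
  | 0 => by simp [tp]
  | 1 => by simp [tp]
  | 2 => by simp [tp]
  | i + 3 => by
    have h1 := natDegree_tp n (i + 1 + 1)
    have h2 := natDegree_tp n (i + 1)
    rw [tp]
    refine (natDegree_add_le _ _).trans (max_le ((natDegree_C_mul_le _ _).trans (by omega))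
      (natDegree_mul_le.trans ?_))
    rw [natDegree_X]; omega

theorem coeff_tp (l : List F) : ∀ i ≤ l.length, (tp (fun j ↦ l.getD j 0) (i + 1)).coeff 0 = (l.take i).prod
  | 0, _ => by simp [tp]
  | i + 1, h => by
    rw [tp, coeff_add, coeff_C_mul, coeff_X_mul_zero, add_zero, coeff_tp l i (by omega),
      List.prod_take_succ _ _ h, mul_comm, List.getD_eq_getElem]

theorem e1_of_dual {N : End F V} (h : ∀ β : F, ∃ φ : Dual F V, ∀ v, N v = β • v → φ v = 0 → v = 0) : E1 N := by
  intro β x y hx hy h0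
  obtain ⟨φ, hφ⟩ := h β
  have h1 : φ x ≠ 0 := fun e ↦ h0 (hφ x hx e)
  refine ⟨φ y / φ x, sub_eq_zero.1 (hφ _ ?_ ?_)⟩
  · rw [map_sub, map_smul, hx, hy]; module
  · simp [h1]

variable [FiniteDimensional F V]

theorem exists_basis_cyc {T : End F V} {v : V} (hc : cyc T v = ⊤) {k : ℕ} (hk : k + 1 = finrank F V) :
    ∃ b : Basis (Fin (k + 1)) F V, ∀ i, b i = (T ^ (i : ℕ)) v := by
  have h : LinearIndependent F fun i : Fin (k + 1) ↦ (T ^ (i : ℕ)) v := by
    refine Fintype.linearIndependent_iff.2 fun g hg i ↦ ?_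
    have := eq_zero_of_aeval (g := T) (v := v) (p := ∑ j : Fin (k + 1), monomial (j : ℕ) (g j))
      (by simpa [aeval_monomial, Algebra.algebraMap_eq_smul_one] using hg) (by
        rw [hc, finrank_top, ← hk]
        exact Nat.lt_succ_of_le (natDegree_sum_le_of_forall_le _ _ fun j _ ↦
          (natDegree_monomial_le _).trans (Nat.le_of_lt_succ j.2)))
    simpa [coeff_monomial, Fin.val_inj] using congrArg (coeff · i) this
  exact ⟨basisOfLinearIndependentOfCardEqFinrank h (by simpa using hk), by simp⟩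

omit [FiniteDimensional F V] in
theorem repr_aeval {T : End F V} {v : V} {k : ℕ} {b : Basis (Fin (k + 1)) F V} (hb : ∀ i, b i = (T ^ (i : ℕ)) v)
    {p : F[X]} (hp : p.natDegree ≤ k) (j : Fin (k + 1)) : b.repr (aeval T p v) j = p.coeff j := by
  rw [aeval_eq_sum_range' (Nat.lt_succ_of_le hp), Finset.sum_range, LinearMap.sum_apply]
  simp [← hb, Finsupp.single_apply]

omit [FiniteDimensional F V] in
theorem det_tp {T : End F V} {v : V} (l : List F) {b : Basis (Fin (l.length + 1)) F V}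
    (hb : ∀ i, b i = (T ^ (i : ℕ)) v) :
    LinearMap.det (b.constr F fun i ↦ aeval T (X ^ (l.length - i) * tp (fun j ↦ l.getD j 0) (i + 1)) v) =
      wt (l.map fun a ↦ -a) := by
  rw [← LinearMap.det_toMatrix b]
  set M := LinearMap.toMatrix b b _ with hM
  have h1 : ∀ j i, M j i = (X ^ (l.length - i) * tp (fun j ↦ l.getD j 0) (i + 1)).coeff j := fun j i ↦ by
    rw [hM, LinearMap.toMatrix_apply, Basis.constr_basis, repr_aeval hb]
    have := natDegree_tp (fun j ↦ l.getD j 0) (i + 1)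
    have := i.2
    exact natDegree_mul_le.trans (by rw [natDegree_X_pow]; omega)
  have h2 := Matrix.det_permute Fin.revPerm M
  rw [Matrix.det_of_isUpperTriangular (fun j i (h : i < j) ↦ by
    rw [Matrix.submatrix_apply, h1, coeff_X_pow_mul', if_neg]
    have := j.2
    have : (i : ℕ) < j := h
    simp only [Fin.revPerm_apply, Fin.val_rev, id]
    omega), sign_rev] at h2
  have h3 : (∏ i : Fin (l.length + 1), (-1 : F) ^ (i : ℕ)) * ∏ i : Fin (l.length + 1), (-1 : F) ^ (i : ℕ) = 1 := by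
    rw [← Finset.prod_mul_distrib]; simp [← mul_pow]
  rw [← one_mul M.det, ← h3, mul_assoc, ← h2, wt_neg, Finset.prod_mul_distrib]
  refine congrArg _ (Finset.prod_congr rfl fun i _ ↦ ?_)
  rw [Matrix.submatrix_apply, h1, ← coeff_tp l i (Nat.le_of_lt_succ i.2), ← coeff_X_pow_mul _ (l.length - i) 0]
  simp only [Fin.revPerm_apply, Fin.val_rev, id, zero_add, Nat.add_sub_add_right]

/-- the bidiagonal maps -/
theorem bidiag {N : End F V} (l : List F) {x : F} (b : Basis (Fin (l.length + 1)) F V) (θ : ℕ → Dual F V)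
    (hθ : ∀ (i : Fin (l.length + 1)) v, b.repr v i = θ i v)
    (hθ' : ∀ j (i : Fin (l.length + 1)), θ j (b i) = if (i : ℕ) = j then 1 else 0)
    (hN : ∀ j (i : Fin (l.length + 1)), (i : ℕ) < l.length →
      θ j (N (b i)) = l.getD i 0 * θ j (b i) + θ (j + 1) (b i))
    (hx : x ∉ l) (h0 : l.prod * x ≠ 0) (hd : LinearMap.det N = l.prod * x) :
    SC N (x ::ₘ (l : Multiset F)) ∧ ∀ v, θ l.length (N v) = x * θ l.length v := by
  have ht : (LinearMap.toMatrix b b N).IsUpperTriangular := fun j i (h : i < j) ↦ by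
    have := j.2
    have : (i : ℕ) < j := h
    rw [LinearMap.toMatrix_apply, hθ, hN j i (by omega), hθ', hθ', if_neg (by omega), if_neg (by omega)]; simp
  have h1 : ∀ i : Fin l.length, LinearMap.toMatrix b b N i.castSucc i.castSucc = l[i.1] := fun i ↦ by
    rw [LinearMap.toMatrix_apply, hθ, hN _ _ (by simp), hθ', hθ']; simp
  have h2 : LinearMap.toMatrix b b N (Fin.last _) (Fin.last _) = x := by
    rw [← LinearMap.det_toMatrix b, Matrix.det_of_isUpperTriangular ht, Fin.prod_univ_castSucc] at hd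
    simp only [h1, Fin.prod_univ_getElem] at hd
    exact mul_left_cancel₀ (left_ne_zero_of_mul h0) hd
  have h3 : N.charpoly = spl (x ::ₘ (l : Multiset F)) := by
    rw [← LinearMap.charpoly_toMatrix N b, Matrix.charpoly_of_isUpperTriangular _ ht, Fin.prod_univ_castSucc, h2,
      spl_cons, mul_comm]
    simp only [h1]
    rw [Fin.prod_univ_fun_getElem l fun a ↦ X - C a]
    simp [spl]
  have h4 : ∀ v, θ l.length (N v) = x * θ l.length v := LinearMap.congr_fun (f := θ l.length ∘ₗ N)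
    (g := x • θ l.length) (b.ext fun i ↦ by
      rcases i.eq_castSucc_or_eq_last with ⟨i, rfl⟩ | rfl
      · have := i.2
        rw [LinearMap.comp_apply, hN _ _ (by simp), LinearMap.smul_apply, hθ', hθ', if_neg (by simp; omega),
          if_neg (by simp; omega)]
        simp
      · rw [LinearMap.toMatrix_apply, hθ] at h2
        simpa [hθ'] using h2)
  have h5 : ∀ j < l.length, ∀ v, θ l.length v = 0 → θ j (N v) = l.getD j 0 * θ j v + θ (j + 1) v := fun j hj v hv ↦ by
    have := LinearMap.congr_fun (f := θ j ∘ₗ N) (g := l.getD j 0 • θ j + θ (j + 1) +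
      (θ j (N (b (Fin.last _))) - θ (j + 1) (b (Fin.last _))) • θ l.length) (b.ext fun i ↦ by
        rcases i.eq_castSucc_or_eq_last with ⟨i, rfl⟩ | rfl
        · have := i.2
          rw [LinearMap.comp_apply, hN _ _ (by simp)]
          by_cases e : (i : ℕ) = j
          · simp [hθ', e, hj.ne]
          · simp [hθ', e, this.ne]
        · simp [hθ', hj.ne']) v
    simpa [hv] using this
  have h6 : ∀ v, (∀ j ≤ l.length, θ j v = 0) → v = 0 := fun v hv ↦
    b.ext_elem fun i ↦ by rw [hθ, hv i (Nat.le_of_lt_succ i.2)]; simp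
  have h7 := N.aeval_self_charpoly
  rw [h3] at h7
  refine ⟨⟨cyc_of_e1 (hd ▸ h0) h7 (e1_of_dual fun β ↦ ?_), h7, by simp [finrank_eq_card_basis b], ?_⟩, h4⟩
  · by_cases e : β = x
    · refine ⟨θ l.length, fun v h1 h2 ↦ h6 v fun j hj ↦ Nat.decreasingInduction (fun j hj ih ↦ ?_) h2 hj⟩
      have := h5 j hj v h2
      rw [h1, ih, map_smul, smul_eq_mul, add_zero, mul_eq_mul_right_iff, List.getD_eq_getElem _ _ hj] at this
      exact this.resolve_left fun k ↦ hx (e ▸ k ▸ List.getElem_mem hj)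
    · refine ⟨θ 0, fun v h1 h2 ↦ h6 v fun j hj ↦ ?_⟩
      have h3 : θ l.length v = 0 := by
        have := h4 v
        rw [h1, map_smul, smul_eq_mul, mul_eq_mul_right_iff] at this
        exact this.resolve_left e
      induction j with
      | zero => exact h2
      | succ j ih => simpa [h1, ih (by omega)] using (h5 j hj v h3).symm
  · rw [Multiset.mem_cons, Multiset.mem_coe, not_or]
    exact ⟨(right_ne_zero_of_mul h0).symm, fun e ↦ left_ne_zero_of_mul h0 (List.prod_eq_zero e)⟩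

end

theorem t5S (F : Type*) [Field F] : T5S.{u} F := by
  intro V _ _ _ A Y l x hA ⟨e, he⟩ dA dY hk hx hd
  obtain ⟨a, ha, hae⟩ : ∃ a, cyc A a = ⊤ ∧ (A = Y → a = e) := by
    by_cases h : A = Y
    · exact ⟨e, h ▸ he, fun _ ↦ rfl⟩
    · exact hA.imp fun a ha ↦ ⟨ha, fun e ↦ absurd e h⟩
  obtain ⟨w, hw⟩ := exists_basis_cyc ha hk
  obtain ⟨b, hb⟩ := exists_basis_cyc he hk
  have h0 : l.prod * x ≠ 0 := hd ▸ mul_ne_zero dA dY
  have h1 := det_tp l hw
  have h2 : wt (l.map fun a ↦ -a) ≠ 0 := by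
    rw [wt_neg]
    refine Finset.prod_ne_zero_iff.2 fun i _ ↦ mul_ne_zero (by simp) (List.prod_ne_zero fun k ↦ ?_)
    exact left_ne_zero_of_mul h0 (List.prod_eq_zero (List.mem_of_mem_take k))
  set h₀ := w.constr F fun i ↦ aeval A (X ^ (l.length - i) * tp (fun j ↦ l.getD j 0) (i + 1)) a with hh
  let u : End F V := b.equiv w (Equiv.refl _)
  obtain ⟨g, g1, g2⟩ := exists_inv (A := h₀ * u) (by
    rw [map_mul, h1]; exact mul_ne_zero h2 (b.equiv w (Equiv.refl _)).isUnit_det'.ne_zero)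
  have h3 : ∀ i : Fin (l.length + 1),
      (h₀ * u) (b i) = aeval A (X ^ (l.length - i) * tp (fun j ↦ l.getD j 0) (i + 1)) a := fun i ↦ by
    simp [u, hh]
  have h4 : ∀ i : Fin (l.length + 1),
      g (aeval A (X ^ (l.length - i) * tp (fun j ↦ l.getD j 0) (i + 1)) a) = b i := fun i ↦ by
    rw [← h3, ← End.mul_apply, g2, End.one_apply]
  let θ : ℕ → Dual F V := fun j ↦ b.constr F fun i ↦ if (i : ℕ) = j then 1 else 0
  have hθ' : ∀ j (i : Fin (l.length + 1)), θ j (b i) = if (i : ℕ) = j then 1 else 0 := fun j i ↦ Basis.constr_basis _ _ _ _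
  have hθ : ∀ (i : Fin (l.length + 1)) v, b.repr v i = θ i v := fun i ↦
    LinearMap.congr_fun (f := b.coord i) (b.ext fun j ↦ by simp [hθ', Finsupp.single_apply, Fin.val_inj])
  have hY : ∀ (i : ℕ) (hi : i < l.length), Y (b ⟨i, by omega⟩) = b ⟨i + 1, by omega⟩ := fun i hi ↦ by
    rw [hb, hb, pow_succ', End.mul_apply]
  have hc := cg_conj A g1
  obtain ⟨k1, k2⟩ := bidiag (N := g * A * (h₀ * u) * Y) l b θ hθ hθ' (fun j ⟨i, hi'⟩ hi ↦ by
    replace hi : i < l.length := hi
    have e1 : X * (X ^ (l.length - (i + 1)) * tp (fun j ↦ l.getD j 0) (i + 1 + 1)) =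
        C (l.getD i 0) * (X ^ (l.length - i) * tp (fun j ↦ l.getD j 0) (i + 1)) +
          X ^ (l.length - i + 1) * tp (fun j ↦ l.getD j 0) i := by
      rw [tp, show l.length - i = l.length - (i + 1) + 1 by omega]; ring
    have e2 : θ j (g (aeval A (X ^ (l.length - i + 1) * tp (fun j ↦ l.getD j 0) i) a)) =
        θ (j + 1) (b ⟨i, hi'⟩) := by
      rcases i with _ | i
      · simp [tp, hθ']
      · rw [show l.length - (i + 1) + 1 = l.length - i by omega, h4 ⟨i, by omega⟩]
        simp [hθ']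
    rw [End.mul_apply, hY i hi, End.mul_apply, h3, End.mul_apply, ← End.mul_apply A, ← e2, ← h4 ⟨i, hi'⟩]
    have e3 := congrArg (fun p ↦ θ j (g (aeval A p a))) e1
    simp only [map_mul (aeval A) X, aeval_X, map_add, map_mul (aeval A) (C _), aeval_C, LinearMap.add_apply,
      Algebra.algebraMap_eq_smul_one, smul_mul_assoc, one_mul, LinearMap.smul_apply, map_smul, smul_eq_mul] at e3
    exact e3) hx h0 (by rw [map_mul, hc.det_eq, hd])
  refine ⟨_, hc, k1, fun y ν c hy e1 e2 ↦ ?_, fun h ↦ ⟨g, ?_, by rw [mul_assoc _ _ g, g1, mul_one]⟩⟩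
  · have := k2 y
    rw [End.mul_apply, e2, map_smul, smul_eq_mul, mul_eq_mul_right_iff] at this
    refine this.resolve_right fun e3 ↦ hy (b.ext_elem fun i ↦ ?_)
    rw [hθ, map_zero, Finsupp.zero_apply]
    refine Nat.decreasingInduction (motive := fun j _ ↦ θ j y = 0) (fun j hj ih ↦ ?_) e3 (Nat.le_of_lt_succ i.2)
    have := LinearMap.congr_fun (f := θ (j + 1) ∘ₗ Y) (g := θ j + θ (j + 1) (Y (b (Fin.last _))) • θ l.length)
      (b.ext fun ⟨i, hi⟩ ↦ by
        rcases (Nat.le_of_lt_succ hi).eq_or_lt with rfl | hi'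
        · simp [hθ', hj.ne', Fin.last]
        · simp [hθ', hY i hi', hi'.ne]) y
    simpa [e1, e3, ih] using this.symm
  · have : u = 1 := b.ext fun i ↦ by
      rw [End.one_apply, show u (b i) = w i by simp [u], hb, hw, hae h, h]
    rw [← h1, ← map_mul, ← mul_one h₀, ← this, g2, map_one]

theorem blS (F : Type*) [Field F] : BLS.{u} F := by
  intro h4 V _ _ _ A hA hd h2
  set δ := LinearMap.det A with hδ
  have T := fun l x ↦ t5S F V A A l x hA hA hd hd
  obtain h | h | h : finrank F V = 2 ∨ finrank F V = 3 ∨ 4 ≤ finrank F V := by omega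
  · obtain ⟨β, b0, b1, b2⟩ := h4 0 δ (-δ)
    obtain ⟨X, k1, k2, -⟩ := T [β] (δ * δ / β) (by simp [h]) (by
      rw [List.mem_singleton, div_eq_iff b0, eq_comm, mul_self_eq_mul_self_iff]; tauto) (by simp [mul_div_cancel₀ _ b0, hδ])
    exact ⟨X, _, _, by
      rw [Multiset.mem_coe, List.mem_singleton, div_eq_iff b0, eq_comm, mul_self_eq_mul_self_iff]; tauto,
      k2, k1, fun e ↦ by omega⟩
  · obtain ⟨β, b0, b1, b2⟩ := h4 0 1 (δ * δ)
    have : (1 : F) ∉ [β, δ * δ / β] := by simp [b1.symm, eq_div_iff b0, b2]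
    obtain ⟨X, k1, k2, -⟩ := T [β, δ * δ / β] 1 (by simp [h]) this (by simp [mul_div_cancel₀ _ b0, hδ])
    exact ⟨X, _, _, this, k2, k1, fun e ↦ by omega⟩
  have key : ∀ (l : List F) (x s : F), l.length + 1 = finrank F V → x ∉ l → l.prod * x = δ * δ →
      wt (l.map fun a ↦ -a) = s ^ finrank F V → ∃ X, Cj A X ∧ SC (X * A) (x ::ₘ (l : Multiset F)) := by
    intro l x s k1 k2 k3 k4
    obtain ⟨X, -, k5, -, k6⟩ := T l x k1 k2 k3
    obtain ⟨g, k7, k8⟩ := k6 rfl
    exact ⟨X, ⟨s • g, by rw [LinearMap.det_smul, ← k4, mul_comm, k7], by simp [k8]⟩, k5⟩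
  obtain ⟨n, hn⟩ := Nat.exists_eq_add_of_le' h
  obtain ⟨m, s, m1, m2, m3, m4⟩ : ∃ (m : List F) (s : F), m.length = n + 3 ∧ m.prod ≠ 0 ∧ wt m = s ^ (n + 4) ∧
      ∀ a ∈ m, a * m.prod ≠ (-1) ^ n * (δ * δ) := by
    by_cases h : ∃ a : F, a ≠ 0 ∧ a * a ≠ (-1) ^ n * (δ * δ) ∧ a * (a * a) ≠ (-1) ^ n * (δ * δ)
    · obtain ⟨a, a0, a1, a2⟩ := h
      refine ⟨a :: (List.replicate (n + 1) 1 ++ [a]), a, by simp, by simp [a0], ?_, by simp [a1, a2]⟩
      rw [wt, wt_replicate]; simp [wt, pow_succ]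
    · push Not at h
      have hc : (-1) ^ n * (δ * δ) = 1 := by
        by_contra e
        exact e (by simpa using (h 1 one_ne_zero (by simpa using Ne.symm e)).symm)
      obtain ⟨a, a0, a1, a2⟩ := h4 0 1 (-1)
      have a3 : a * a ≠ 1 := by rw [Ne, mul_self_eq_one_iff]; tauto
      rw [hc] at h ⊢
      refine ⟨List.replicate n 1 ++ [a, 1, 1], 1, by simp, by simp [a0], ?_, by simp [or_imp, forall_and, a1, a3]⟩
      rw [wt_replicate]; simpa [wt, pow_succ, mul_assoc] using h a a0 a3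
  have e0 : ((-1 : F) ^ n) * (-1) ^ n = 1 := by simp [← mul_pow]
  have e1 : (m.map fun a ↦ -a).prod * -((-1) ^ n * (δ * δ) / m.prod) = δ * δ := by
    rw [List.prod_map_neg, m1]; field_simp; linear_combination e0
  have e2 : -((-1) ^ n * (δ * δ) / m.prod) ∉ m.map fun a ↦ -a := fun e ↦ by
    obtain ⟨a, ha, e⟩ := List.mem_map.1 e
    exact m4 a ha ((eq_div_iff m2).1 (neg_inj.1 e))
  have e3 : wt ((m.map fun a ↦ -a).map fun a ↦ -a) = s ^ finrank F V := by simp [m3, hn]
  have e4 : (m.map fun a ↦ -a).length + 1 = finrank F V := by simp [m1, hn]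
  generalize (m.map fun a ↦ -a) = l at e1 e2 e3 e4
  generalize -((-1) ^ n * (δ * δ) / m.prod) = x at e1 e2
  obtain ⟨X, k1, k2⟩ := key l x s e4 e2 e1 e3
  refine ⟨X, l, x, e2, k2, k1.cg, fun _ ↦ ⟨k1, fun e ↦ ?_⟩⟩
  rw [Multiset.map_cons, Multiset.map_coe]
  refine key _ _ s⁻¹ (by simpa using e4) (by simpa using e2) ?_ ?_
  · rw [← List.prod_inv, ← mul_inv, e1, ← sq, e, inv_one]
  · rw [inv_pow, ← e3, ← wt_inv]; simp [Function.comp_def]

end CL.Lv
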