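/-
Pronormality of the subgroups of index prime to `p`: reductions, and the case of the defining characteristic.
-/
import Cfsg.Agent.S3820
import Cfsg.Agent.Known.LieForm

set_option autoImplicit false

open Subgroup CL.Grp Cfsg
open scoped Pointwise

namespace CL.Pron

section General

variable {G G' : Type*} [Group G] [Group G']

/-- Every subgroup of index prime to `p` is pronormal. -/
def AllPron (p : ℕ) (G : Type*) [Group G] : Prop := ∀ H : Subgroup G, ¬ p ∣ H.index → IsPronormal H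

theorem isPronormal_iff {H : Subgroup G} : IsPronormal H ↔
    ∀ g : G, ∃ x ∈ H ⊔ MulAut.conj g • H, MulAut.conj g • H = MulAut.conj x • H := Iff.rfl

theorem map_conj_smul (f : G →* G') (g : G) (H : Subgroup G) :
    (MulAut.conj g • H).map f = MulAut.conj (f g) • H.map f := by
  rw [conj_smul_eq_map, conj_smul_eq_map, map_map, map_map]
  congr 1
  ext x
  simp

theorem isPronormal_map {H : Subgroup G} (h : IsPronormal H) (f : G →* G') (hf : Function.Surjective f) :
    IsPronormal (H.map f) := by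
  rw [isPronormal_iff] at h ⊢
  intro g
  obtain ⟨g, rfl⟩ := hf g
  obtain ⟨x, hx, e⟩ := h g
  refine ⟨f x, ?_, by rw [← map_conj_smul, e, map_conj_smul]⟩
  rw [← map_conj_smul, ← Subgroup.map_sup]
  exact mem_map_of_mem f hx

theorem AllPron.of_surjective {p : ℕ} (h : AllPron p G) (f : G →* G') (hf : Function.Surjective f) :
    AllPron p G' := fun H hH => by
  rw [← map_comap_eq_self_of_surjective hf H]
  exact isPronormal_map (h _ (by rwa [index_comap_of_surjective _ hf])) f hf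

theorem AllPron.of_equiv {p : ℕ} (h : AllPron p G) (e : G ≃* G') : AllPron p G' :=
  h.of_surjective e.toMonoidHom e.surjective

theorem AllPron.quot {p : ℕ} (h : AllPron p G) (N : Subgroup G) [N.Normal] : AllPron p (G ⧸ N) :=
  h.of_surjective _ (QuotientGroup.mk'_surjective N)

variable [Finite G] {p : ℕ} [Fact p.Prime]

theorem isPronormal_of_isSylowIn {S : Subgroup G} (hS : IsSylowIn p S ⊤) : IsPronormal S := by
  rw [isPronormal_iff]
  intro g
  obtain ⟨x, hx, e⟩ := (hS.of_le le_sup_left le_top).exists_conj_eq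
    ((hS.conj_smul_of_mem (mem_top g)).of_le (le_sup_right (a := S)) le_top)
  exact ⟨x, hx, e.symm⟩

theorem allPron_of {S : Subgroup G} (hS : IsSylowIn p S ⊤) (h : ∀ H, S ≤ H → ∀ g ∈ normalizer (S : Set G),
    ∃ x ∈ H ⊔ MulAut.conj g • H, MulAut.conj g • H = MulAut.conj x • H) : AllPron p G := fun H hH => by
  obtain ⟨T, hT⟩ := exists_isSylowIn p H
  have hT' : IsSylowIn p T ⊤ := ⟨le_top, hT.isPGroup, by
    rw [relIndex_top_right, ← relIndex_mul_index hT.le]
    exact Nat.Prime.not_dvd_mul Fact.out hT.not_dvd hH⟩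
  obtain ⟨c, -, hc⟩ := hT'.exists_conj_eq hS
  have h1 : S ≤ MulAut.conj c • H := hc ▸ pointwise_smul_le_pointwise_smul_iff.2 hT.le
  have h2 := isPronormal_map
    ((Cfsg.Agent.S3820.result S _ h1 (isPronormal_of_isSylowIn hS)).2 (h _ h1))
    (MulAut.conj c⁻¹).toMonoidHom (MulAut.conj c⁻¹).surjective
  rwa [← conj_smul_eq_map, conj_smul_conj_smul, inv_mul_cancel, map_one, one_smul] at h2

theorem allPron_of_normalizer {S : Subgroup G} (hS : IsSylowIn p S ⊤)
    (h : ∀ H, S ≤ H → normalizer (S : Set G) ≤ normalizer (H : Set G)) : AllPron p G :=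
  allPron_of hS fun H hH g hg => ⟨1, one_mem _, by
    rw [map_one, one_smul, conj_smul_eq_self_iff]; exact h H hH hg⟩

/-- An element normalising a Sylow 2-subgroup `S` is an element of `S` times a power of odd order. -/
theorem exists_odd_part {S : Subgroup G} (hS : IsSylowIn 2 S ⊤) {g : G} (hg : g ∈ normalizer (S : Set G)) :
    ∃ s ∈ S, ∃ t ∈ normalizer (S : Set G), Odd (orderOf t) ∧ g = s * t := by
  obtain ⟨k, m, hm, e⟩ := Nat.exists_eq_two_pow_mul_odd (orderOf_pos g).ne'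
  have hc : (2 ^ k).Coprime m := Nat.Coprime.pow_left _ (Nat.coprime_two_left.2 hm)
  obtain ⟨a, b, hab⟩ : ∃ a b : ℤ, a * (2 ^ k : ℕ) + b * m = 1 := Nat.isCoprime_iff_coprime.2 hc
  have h1 : IsPGroup 2 (zpowers (g ^ m)) := IsPGroup.of_card (n := k) (by
    rw [Nat.card_zpowers, orderOf_pow_of_dvd hm.pos.ne' (e ▸ dvd_mul_left _ _), e, Nat.mul_div_cancel _ hm.pos])
  have h2 : g ^ m ∈ S := by
    have := hS.eq_of_le (IsPGroup.to_sup_of_normal_left' hS.isPGroup h1 (zpowers_le.2 (pow_mem hg m)))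
      le_sup_left le_top
    exact this ▸ mem_sup_right (mem_zpowers _)
  refine ⟨(g ^ m) ^ b, zpow_mem h2 b, (g ^ 2 ^ k) ^ a, zpow_mem (pow_mem hg _) a, ?_, ?_⟩
  · refine hm.of_dvd_nat ((orderOf_dvd_of_mem_zpowers (zpow_mem_zpowers _ a)).trans ?_)
    rw [orderOf_dvd_iff_pow_eq_one, ← pow_mul, ← e, pow_orderOf_eq_one]
  · rw [← zpow_natCast, ← zpow_natCast, ← zpow_mul, ← zpow_mul, ← zpow_add, mul_comm _ b, mul_comm _ a, add_comm,
      hab, zpow_one]

theorem allPron_of_odd {S : Subgroup G} (hS : IsSylowIn 2 S ⊤)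
    (h : ∀ g ∈ normalizer (S : Set G), Odd (orderOf g) → g ∈ center G) : AllPron 2 G :=
  allPron_of_normalizer hS fun H hH g hg => by
    obtain ⟨s, hs, t, ht, ho, rfl⟩ := exists_odd_part hS hg
    exact mul_mem (le_normalizer (hH hs)) (center_le_normalizer _ (h t ht ho))

end General

section Lie

open CL.Chev CL.Chev.BN CL.Chev.St

variable {G : Type*} [Group G] {Q : SharpBN G}

/-- An overgroup of `U` is normalised by the torus. -/
theorem conj_mem_of_U_le (hc : ∀ a ∈ Q.H, ∀ b ∈ Q.H, a * b = b * a) {X : Subgroup G} (hX : Q.U ≤ X) {h : G}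
    (hh : h ∈ Q.H) {x : G} (hx : x ∈ X) : h * x * h⁻¹ ∈ X := by
  have key : ∀ w : Weyl Q.P, ∀ n : Q.N, mk Q.P n = w → (n : G) ∈ X → h * n * h⁻¹ ∈ X := by
    intro w
    induction w using (invGen Q.P).induction_right with
    | one =>
      intro n hn hx
      rwa [hc h hh n ⟨mk_eq_one_iff.1 hn, n.2⟩, mul_inv_cancel_right]
    | step s w hw ih =>
      intro n hn hx
      have e1 : mk Q.P (n * (genN s)⁻¹) = w := by rw [map_mul, map_inv, hn, ← gen_def, mul_inv_cancel_right]
      have h1 : ∀ c ∈ Q.Un s, (s : G)⁻¹ * c * s ∈ X := fun c hc => by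
        have h2 := SharpBN.conj_mem_U_of_add (n := n * (genN s)⁻¹) (n' := genN s) (by
          rw [e1, ← gen_def, (exchange Q.P).wlen_gen (invGen Q.P)]
          exact le_antisymm ((invGen Q.P).wlen_mul_gen_le s w) hw) hc
        have h3 := X.mul_mem (X.mul_mem (X.inv_mem hx) (hX h2)) hx
        simpa [mul_assoc] using h3
      obtain ⟨c, hc1, hc2⟩ := SharpBN.exists_ne_one_mem_Un s
      obtain ⟨m, hm, a, ha, b, hb, e⟩ := Q.exists_bruhat ((s : G)⁻¹ * c * s)
      have e2 : mk Q.P ⟨m, hm⟩ = gen Q.P s := eq_of_mem_cell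
        (SharpBN.mul_mem_cell (n := ⟨m, hm⟩) ha.1 hb) (e ▸ SharpBN.mem_cell_gen_of_mem_Un hc1 hc2)
      have e3 : m = a⁻¹ * ((s : G)⁻¹ * c * s) * b⁻¹ := by rw [e]; group
      have h4 : m ∈ X := e3 ▸ mul_mem (mul_mem (inv_mem (hX ha.1)) (h1 c hc1)) (inv_mem (hX hb))
      have h5 : h * m * h⁻¹ ∈ X := by
        have h6 := h1 _ (SharpBN.conj_Un (Q.subset s.2) (SharpBN.conj_H (Q.subset s.2) hh) hc1)
        have h7 := mul_mem (mul_mem (inv_mem (hX (Q.conj_U h hh.1 a ha.1))) h6) (inv_mem (hX (Q.conj_U h hh.1 b hb)))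
        rw [e3]
        convert h7 using 1
        group
      have h8 := mul_mem (ih (n * (⟨m, hm⟩ : Q.N)⁻¹) (by rw [map_mul, map_inv, hn, e2, mul_inv_cancel_right])
        (mul_mem hx (inv_mem h4))) h5
      simpa [mul_assoc] using h8
  obtain ⟨n, hn, a, ha, b, hb, rfl⟩ := Q.exists_bruhat x
  have h1 : n ∈ X := by simpa [mul_assoc] using mul_mem (mul_mem (inv_mem (hX ha.1)) hx) (inv_mem (hX hb))
  have h2 := mul_mem (mul_mem (hX (Q.conj_U h hh.1 a ha.1)) (key _ ⟨n, hn⟩ rfl h1)) (hX (Q.conj_U h hh.1 b hb))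
  convert h2 using 1
  group

theorem normalizer_U_le_B : normalizer (Q.U : Set G) ≤ Q.B := by
  have h1 : Q.B ≤ normalizer (Q.U : Set G) := fun b hb => mem_normalizer_iff.2 fun u =>
    ⟨Q.conj_U b hb u, fun hu => by simpa [mul_assoc] using SharpBN.conj_U' hb hu⟩
  rw [eq_cellSubgroup_of_le (P := Q.P) h1, ← cellSubgroup_empty (P := Q.P), cellSubgroup_le_cellSubgroup]
  intro s hs
  obtain ⟨c, hc1, hc2⟩ := SharpBN.exists_ne_one_mem_Un s
  refine gen_ne_one s (eq_of_mem_cell (SharpBN.mem_cell_gen_of_mem_Un hc1 hc2) (mem_cell_one.2 (Q.U_le_B ?_)))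
  simpa using (mem_normalizer_iff.1 (inv_mem hs) c).1 hc1.1

theorem allPron_of_hasPreLie [Finite G] {p : ℕ} [Fact p.Prime] {P : Prop} (h : HasPreLie p G P) : AllPron p G := by
  obtain ⟨Q, L, -⟩ := h
  refine allPron_of_normalizer (S := Q.U) ⟨le_top, L.pgroup, by
    rw [relIndex_top_right]; exact L.pSplit.not_dvd_index⟩ fun X hX g hg => ?_
  obtain ⟨u, hu, h, hh, rfl⟩ := SharpBN.split' (normalizer_U_le_B hg)
  refine mul_mem (le_normalizer (hX hu)) (mem_normalizer_iff.2 fun x => ⟨conj_mem_of_U_le L.comm hX hh, fun hx => ?_⟩)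
  simpa [mul_assoc] using conj_mem_of_U_le L.comm hX (inv_mem hh) hx

end Lie

end CL.Pron
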