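/-
Frames (planes with a complement), wreath products acting on sums of planes.
-/
import Cfsg.Agent.Cls.Pron1
import Cfsg.Agent.Blk.SqLin
import Cfsg.Agent.Known.AltSelfNorm
import Cfsg.Agent.Cls.SL2Quat

set_option autoImplicit false

open Subgroup CL.Grp CL.Wr Module
open scoped Pointwise

namespace CL.Pron

section Frame

variable {K U V : Type*} [Field K] [AddCommGroup U] [Module K U] [AddCommGroup V] [Module K V]

/-- A copy of `U` in `V` together with a complement. -/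
structure Frame (K U V : Type*) [Field K] [AddCommGroup U] [Module K U] [AddCommGroup V] [Module K V] where
  ψ : U →ₗ[K] V
  φ : V →ₗ[K] U
  φψ : ∀ u, φ (ψ u) = u

namespace Frame

variable (f : Frame K U V)

/-- Extension by the identity on the complement. -/
def kapE : (U ≃ₗ[K] U) →* End K V where
  toFun y := 1 + f.ψ ∘ₗ ((y : U →ₗ[K] U) - 1) ∘ₗ f.φ
  map_one' := by ext v; simp
  map_mul' y z := by ext v; simp [f.φψ]; abel

/-- Extension by the identity on the complement. -/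
noncomputable def kap : (U ≃ₗ[K] U) →* (V ≃ₗ[K] V) :=
  (LinearMap.GeneralLinearGroup.generalLinearEquiv K V).toMonoidHom.comp f.kapE.toHomUnits

theorem kap_apply (y : U ≃ₗ[K] U) (v : V) : f.kap y v = v + f.ψ (y (f.φ v) - f.φ v) := rfl

theorem ψ_injective : Function.Injective f.ψ := Function.LeftInverse.injective f.φψ

theorem kap_ψ (y : U ≃ₗ[K] U) (u : U) : f.kap y (f.ψ u) = f.ψ (y u) := by simp [kap_apply, f.φψ]

theorem φ_kap (y : U ≃ₗ[K] U) (v : V) : f.φ (f.kap y v) = y (f.φ v) := by simp [kap_apply, f.φψ]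

theorem kap_of_φ (y : U ≃ₗ[K] U) {v : V} (h : f.φ v = 0) : f.kap y v = v := by simp [kap_apply, h]

theorem kap_injective : Function.Injective f.kap := fun y z h =>
  LinearEquiv.ext fun u => f.ψ_injective (by rw [← kap_ψ, h, kap_ψ])

/-- The image of a frame under an automorphism. -/
def map (g : V ≃ₗ[K] V) : Frame K U V where
  ψ := (g : V →ₗ[K] V) ∘ₗ f.ψ
  φ := f.φ ∘ₗ (g.symm : V →ₗ[K] V)
  φψ u := by simp [f.φψ]

theorem map_ψ (g : V ≃ₗ[K] V) (u : U) : (f.map g).ψ u = g (f.ψ u) := rfl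

theorem map_φ (g : V ≃ₗ[K] V) (v : V) : (f.map g).φ v = f.φ (g⁻¹ v) := rfl

theorem kap_map (g : V ≃ₗ[K] V) (y : U ≃ₗ[K] U) : (f.map g).kap y = g * f.kap y * g⁻¹ :=
  LinearEquiv.ext fun v => by
    rw [LinearEquiv.mul_apply, LinearEquiv.mul_apply, kap_apply, kap_apply, map_add, CL.Sp.apply_inv_apply]
    rfl

/-- The projection of a frame. -/
def π (v : V) : V := f.ψ (f.φ v)

/-- The involution of a frame. -/
noncomputable def z : V ≃ₗ[K] V := f.kap (LinearEquiv.neg K)

theorem z_apply (v : V) : f.z v = v - (2 : K) • f.π v := by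
  rw [z, kap_apply, π, LinearEquiv.neg_apply, map_sub, map_neg, two_smul]
  abel

theorem z_map (g : V ≃ₗ[K] V) : (f.map g).z = g * f.z * g⁻¹ := f.kap_map g _

theorem z_mul_z : f.z * f.z = 1 := by
  rw [z, ← map_mul, ← map_one f.kap]
  congr 1
  ext u
  simp

theorem z_ψ (u : U) : f.z (f.ψ u) = -f.ψ u := by rw [z, kap_ψ, LinearEquiv.neg_apply, map_neg]

theorem kap_mul_self {y : U ≃ₗ[K] U} (h : ∀ u, y (y u) = -u) : f.kap y * f.kap y = f.z := by
  rw [← map_mul]
  exact congrArg _ (LinearEquiv.ext h)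

theorem π_eq_of_z (h2 : (2 : K) ≠ 0) {v : V} (h : f.z v = -v) : f.π v = v := by
  rw [z_apply, sub_eq_iff_eq_add, ← sub_eq_iff_eq_add', sub_neg_eq_add, ← two_smul K] at h
  exact (smul_right_injective V h2 h).symm

theorem φ_eq_zero_of_z (h2 : (2 : K) ≠ 0) {v : V} (h : f.z v = v) : f.φ v = 0 := by
  rw [z_apply, sub_eq_self, smul_eq_zero_iff_right h2] at h
  exact f.ψ_injective (h.trans (map_zero _).symm)

variable {f} in
theorem π_eq_of_z_eq (h2 : (2 : K) ≠ 0) {f' : Frame K U V} (h : f.z = f'.z) (v : V) : f.π v = f'.π v := by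
  have := LinearEquiv.congr_fun h v
  rw [z_apply, z_apply, sub_right_inj] at this
  exact smul_right_injective V h2 this

variable {f} in
theorem exists_of_z_eq (h2 : (2 : K) ≠ 0) {f' : Frame K U V} (h : f.z = f'.z) :
    ∃ t : U ≃ₗ[K] U, (∀ u, f.ψ u = f'.ψ (t u)) ∧ ∀ y, f.kap y = f'.kap (t * y * t⁻¹) := by
  have h1 := π_eq_of_z_eq h2 h
  simp only [π] at h1
  let t : U ≃ₗ[K] U := LinearEquiv.ofLinearMap (f'.φ ∘ₗ f.ψ) (f.φ ∘ₗ f'.ψ)
    (LinearMap.ext fun u => by simp [h1, f'.φψ]) (LinearMap.ext fun u => by simp [← h1, f.φψ])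
  have e : ∀ u, f.ψ u = f'.ψ (t u) := fun u => by
    change _ = f'.ψ (f'.φ (f.ψ u))
    rw [← h1, f.φψ]
  refine ⟨t, e, fun y => LinearEquiv.ext fun v => ?_⟩
  have e' : t⁻¹ (f'.φ v) = f.φ v := by
    change f.φ (f'.ψ (f'.φ v)) = _
    rw [← h1, f.φψ]
  rw [kap_apply, kap_apply, LinearEquiv.mul_apply, LinearEquiv.mul_apply, e', map_sub, map_sub, ← e, h1]

end Frame

end Frame

section Wreath

variable {H ι : Type*} [Group H]

/-- The wreath product of a subgroup with a permutation group. -/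
def wsub (T : Subgroup H) (P : Subgroup (Equiv.Perm ι)) : Subgroup (W H ι) where
  carrier := {w | (∀ i, w.left i ∈ T) ∧ w.right ∈ P}
  one_mem' := ⟨fun _ => one_mem _, one_mem _⟩
  mul_mem' hx hy := ⟨fun i => mul_mem (hx.1 i) (hy.1 _), mul_mem hx.2 hy.2⟩
  inv_mem' {x} hx := ⟨fun i => by rw [inv_left_apply]; exact inv_mem (hx.1 _), inv_mem hx.2⟩

theorem mem_wsub {T : Subgroup H} {P : Subgroup (Equiv.Perm ι)} {w : W H ι} :
    w ∈ wsub T P ↔ (∀ i, w.left i ∈ T) ∧ w.right ∈ P := Iff.rfl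

theorem inl_mem_wsub {T : Subgroup H} {P : Subgroup (Equiv.Perm ι)} {f : ι → H} :
    SemidirectProduct.inl f ∈ wsub T P ↔ ∀ i, f i ∈ T := ⟨fun h => h.1, fun h => ⟨h, one_mem _⟩⟩

theorem inr_mem_wsub {T : Subgroup H} {P : Subgroup (Equiv.Perm ι)} {σ : Equiv.Perm ι} :
    SemidirectProduct.inr σ ∈ wsub T P ↔ σ ∈ P := ⟨fun h => h.2, fun h => ⟨fun _ => one_mem _, h⟩⟩

theorem single_mem_wsub [DecidableEq ι] {T : Subgroup H} {P : Subgroup (Equiv.Perm ι)} {i : ι} {y : H} :
    SemidirectProduct.inl (Pi.mulSingle i y) ∈ wsub T P ↔ y ∈ T := by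
  refine inl_mem_wsub.trans ⟨fun h => by simpa using h i, fun h j => ?_⟩
  by_cases e : j = i
  · simpa [e] using h
  · simp [e]

theorem wsub_mono {T T' : Subgroup H} {P P' : Subgroup (Equiv.Perm ι)} (h : T ≤ T') (h' : P ≤ P') :
    wsub T P ≤ wsub T' P' := fun _ hw => ⟨fun i => h (hw.1 i), h' hw.2⟩

theorem card_wsub [Finite ι] (T : Subgroup H) (P : Subgroup (Equiv.Perm ι)) :
    Nat.card (wsub T P) = Nat.card T ^ Nat.card ι * Nat.card P := by
  rw [← Nat.card_fun, ← Nat.card_prod]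
  exact Nat.card_congr
    { toFun w := (fun i => ⟨w.1.left i, w.2.1 i⟩, ⟨w.1.right, w.2.2⟩)
      invFun x := ⟨⟨fun i => x.1 i, x.2⟩, fun i => (x.1 i).2, x.2.2⟩
      left_inv _ := rfl
      right_inv _ := rfl }

theorem eq_inl {w : W H ι} (h : w.right = 1) : w = SemidirectProduct.inl w.left := SemidirectProduct.ext rfl h

theorem inl_conj_inr (f : ι → H) (σ : Equiv.Perm ι) :
    ((SemidirectProduct.inl f : W H ι) * SemidirectProduct.inr σ * (SemidirectProduct.inl f)⁻¹).left =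
      fun i => f i * (f (σ⁻¹ i))⁻¹ := by
  funext i
  simp [mul_left_apply, inv_left_apply]

/-- The Sylow subgroups of a group containing a wreath product with the same `p`-part. -/
theorem isSylowIn_wsub {G : Type*} [Group G] {p : ℕ} [Fact p.Prime] {n : ℕ} (φ : W H (Fin n) →* G)
    (hφ : Function.Injective φ) {L T : Subgroup H} [Finite L] (hT : IsSylowIn p T L)
    {P : Subgroup (Equiv.Perm (Fin n))} (hP : IsSylowIn p P ⊤) {M : Subgroup G} [Finite M]
    (hM : (wsub L ⊤).map φ ≤ M) (hv : padicValNat p (Nat.card M) = padicValNat p (Nat.card (W L (Fin n)))) :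
    IsSylowIn p ((wsub T P).map φ) M := by
  have hp : p.Prime := Fact.out
  have h1 : Nat.card T = p ^ padicValNat p (Nat.card L) := by
    rw [← Nat.factorization_def _ hp, ← hT.toSylow.card_eq_multiplicity, hT.coe_toSylow,
      Nat.card_congr (subgroupOfEquivOfLe hT.le).toEquiv]
  have h2 : Nat.card P = p ^ padicValNat p n.factorial := by
    rw [hP.card_eq_pow, card_top, Nat.factorization_def _ hp, Nat.card_perm, Nat.card_eq_fintype_card,
      Fintype.card_fin]
  have h3 : Nat.card ((wsub T P).map φ) = p ^ padicValNat p (Nat.card M) := by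
    rw [card_map_of_injective hφ, card_wsub, h1, h2, hv, val_card_W, val_factorial, ← pow_mul, ← pow_add,
      Nat.card_eq_fintype_card (α := Fin n), Fintype.card_fin, mul_comm]
  have h4 : (wsub T P).map φ ≤ M := (map_mono (wsub_mono hT.le le_top)).trans hM
  refine ⟨h4, IsPGroup.of_card h3, fun h => ?_⟩
  have h5 := card_mul_index (((wsub T P).map φ).subgroupOf M)
  rw [Nat.card_congr (subgroupOfEquivOfLe h4).toEquiv, h3] at h5
  refine pow_succ_padicValNat_not_dvd (p := p) (Nat.card_pos (α := M)).ne' ?_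
  rw [pow_succ]
  exact (Nat.mul_dvd_mul_left _ h).trans h5.dvd

theorem exists_sylow_trans (k : ℕ) : ∃ P : Subgroup (Equiv.Perm (Fin (2 ^ k))), IsSylowIn 2 P ⊤ ∧
    ∀ i j, ∃ σ ∈ P, σ i = j := by
  obtain ⟨T, hT, h⟩ := CL.Blk.exists_swapping k
  obtain ⟨P, hP, hle⟩ := exists_isSylowIn_ge hT (le_top : T ≤ ⊤)
  exact ⟨P, hP, fun i j => (h i j).imp fun σ hσ => ⟨hle hσ.1, hσ.2.1⟩⟩

theorem right_mem_normalizer [Finite ι] {S : Subgroup (W H ι)} {P : Subgroup (Equiv.Perm ι)}
    (h1 : ∀ w ∈ S, w.right ∈ P) (h2 : ∀ σ ∈ P, SemidirectProduct.inr σ ∈ S) {w : W H ι}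
    (hw : w ∈ normalizer (S : Set (W H ι))) : w.right ∈ normalizer (P : Set (Equiv.Perm ι)) :=
  mem_normalizer_fintype fun σ hσ => by simpa using h1 _ ((mem_normalizer_iff.1 hw _).1 (h2 σ hσ))

variable {K U : Type*} [Field K] [AddCommGroup U] [Module K U] [DecidableEq ι]

/-- The frame of a block. -/
def blk (K U : Type*) [Field K] [AddCommGroup U] [Module K U] (i : ι) : Frame K U (ι → U) where
  ψ := LinearMap.single K (fun _ => U) i
  φ := LinearMap.proj i
  φψ u := by simp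

theorem blk_ψ (i : ι) (u : U) : (blk K U i).ψ u = Pi.single i u := rfl

theorem blk_φ (i : ι) (v : ι → U) : (blk K U i).φ v = v i := rfl

variable {ρ : H →* (U ≃ₗ[K] U)}

theorem wrRep_single (w : W H ι) (j : ι) (u : U) :
    wrRep ρ ι w (Pi.single j u) = Pi.single (w.right j) (ρ (w.left (w.right j)) u) := by
  funext l
  rw [wrRep_apply]
  by_cases h : l = w.right j
  · simp [h]
  · rw [Pi.single_eq_of_ne h, Pi.single_eq_of_ne (fun e => h (Equiv.Perm.inv_eq_iff_eq.1 e)), map_zero]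

theorem blk_kap (i : ι) (y : H) :
    (blk K U i).kap (ρ y) = wrRep ρ ι (SemidirectProduct.inl (Pi.mulSingle i y)) :=
  LinearEquiv.ext fun v => funext fun l => by
    rw [Frame.kap_apply, wrRep_apply, blk_ψ, blk_φ]
    by_cases h : l = i <;> simp [h]

theorem blk_z_apply (i : ι) (v : ι → U) (l : ι) : (blk K U i).z v l = if l = i then -v l else v l := by
  rw [Frame.z, Frame.kap_apply, blk_ψ, blk_φ]
  by_cases h : l = i <;> simp [h]

theorem exists_wrRep [Finite ι] [Nontrivial U] {g : (ι → U) ≃ₗ[K] (ι → U)}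
    (h : ∀ j, ∃ l y, ∀ u, g (Pi.single j u) = Pi.single l (ρ y u)) : ∃ w, wrRep ρ ι w = g := by
  choose τ y h using h
  obtain ⟨u, hu⟩ := exists_ne (0 : U)
  have hτ : Function.Injective τ := fun i j e => by
    by_contra hij
    have h1 : Pi.single i u = Pi.single j ((ρ (y j))⁻¹ (ρ (y i) u)) :=
      g.injective (by rw [h, h, e, CL.Sp.apply_inv_apply])
    exact hu (by simpa [hij] using congrFun h1 i)
  let σ := Equiv.ofBijective τ (Finite.injective_iff_bijective.1 hτ)
  refine ⟨⟨fun l => y (σ⁻¹ l), σ⟩, LinearEquiv.toLinearMap_injective (LinearMap.pi_ext fun j u => ?_)⟩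
  rw [LinearEquiv.coe_coe, LinearEquiv.coe_coe, wrRep_single, h]
  simp only [Equiv.Perm.coe_inv, Equiv.symm_apply_apply]
  rfl

variable [FiniteDimensional K U] [Nontrivial U] {f : Frame K U (ι → U)}

theorem right_eq_one (h2 : (2 : K) ≠ 0) {y : U ≃ₗ[K] U} (hy : ∀ u, y (y u) = -u) {w : W H ι}
    (e : wrRep ρ ι w = f.kap y) : w.right = 1 := by
  by_contra hw
  obtain ⟨j, hj⟩ : ∃ j, w.right j ≠ j := not_forall.1 fun h => hw (Equiv.ext h)
  let θ : U →ₗ[K] U := f.φ ∘ₗ (blk K U j).ψ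
  have hθ : Function.Injective θ := (injective_iff_map_eq_zero θ).2 fun u hu => by
    have h1 := congrFun (f.kap_of_φ y (v := Pi.single j u) hu) j
    rwa [← e, wrRep_single, Pi.single_eq_of_ne hj.symm, Pi.single_eq_same, eq_comm] at h1
  obtain ⟨u, hu⟩ := exists_ne (0 : U)
  obtain ⟨u', hu'⟩ := LinearMap.injective_iff_surjective.1 hθ (y (θ u))
  have h1 : f.kap y (f.kap y (Pi.single j u)) + Pi.single j u' =
      f.kap y (Pi.single j u) + f.kap y (Pi.single j u') := by
    have h3 : f.φ (Pi.single j u') = y (f.φ (Pi.single j u)) := hu'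
    rw [f.kap_apply y (f.kap y _), f.φ_kap, f.kap_apply y (Pi.single j u'), h3]
    abel
  have h3 := congrFun h1 (w.right j)
  simp only [← e, wrRep_single, Pi.add_apply, Pi.single_eq_same] at h3
  rw [Pi.single_eq_of_ne (w.right.injective.ne hj).symm, Pi.single_eq_of_ne hj, add_zero, ← map_add, eq_comm,
    LinearEquiv.map_eq_zero_iff, add_eq_zero_iff_neg_eq] at h3
  rw [← h3, map_neg] at hu'
  have h4 := hy (θ u)
  rw [← hu', map_neg, ← hu', neg_neg, ← add_eq_zero_iff_eq_neg, ← two_smul K, smul_eq_zero_iff_right h2] at h4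
  exact hu (hθ (h4.trans (map_zero θ).symm))

theorem exists_z_eq_blk (h2 : (2 : K) ≠ 0) (h : ∀ l, (∀ v, f.z v l = v l) ∨ ∀ v, f.z v l = -v l) :
    ∃ l, f.z = (blk K U l).z := by
  obtain ⟨u, hu⟩ := exists_ne (0 : U)
  have h1 : ∀ l, (∀ v, f.z v l = -v l) → ∀ u, f.π (Pi.single l u) = Pi.single l u := fun l hl u =>
    f.π_eq_of_z h2 (funext fun k => by
      by_cases e : k = l
      · rw [e, hl]; rfl
      · rcases h k with h | h <;> simp [h, e])
  obtain ⟨l, hl⟩ : ∃ l, ∀ v, f.z v l = -v l := by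
    by_contra h3
    have h4 : f.z (f.ψ u) = f.ψ u := funext fun k => (h k).resolve_right (fun e => h3 ⟨k, e⟩) _
    exact hu ((f.φψ u).symm.trans (f.φ_eq_zero_of_z h2 h4))
  refine ⟨l, LinearEquiv.ext fun v => funext fun k => ?_⟩
  rw [blk_z_apply]
  split_ifs with e
  · rw [e, hl]
  refine (h k).resolve_right (fun hk => hu ?_) v
  let θ : U →ₗ[K] U := f.φ ∘ₗ (blk K U l).ψ
  have hθ : Function.Injective θ := (injective_iff_map_eq_zero θ).2 fun u hu => by
    have h3 : f.φ (Pi.single l u) = 0 := hu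
    have h4 := congrFun (h1 l hl u) l
    rwa [Frame.π, h3, map_zero, Pi.single_eq_same, eq_comm] at h4
  obtain ⟨u', hu'⟩ := LinearMap.injective_iff_surjective.1 hθ (f.φ (Pi.single k u))
  have h3 : f.φ (Pi.single l u') = f.φ (Pi.single k u) := hu'
  have h4 := h1 k hk u
  rw [Frame.π, ← h3, ← Frame.π, h1 l hl] at h4
  simpa [e] using (congrFun h4 k).symm

end Wreath

end CL.Pron
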