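/-
Sylow 2-normalisers in linear and unitary groups of 2-power dimension.
-/
import Cfsg.Agent.Cls.Pron2
import Cfsg.Agent.Cls.OrthOmega

set_option autoImplicit false
set_option linter.unusedSectionVars false

open Subgroup CL.Grp CL.Wr CL.GL2 CL.SL2 Module Matrix
open scoped Pointwise MatrixGroups

namespace CL.Pron

theorem eq_one_of_odd {G : Type*} [Group G] {T : Subgroup G} (hT : IsPGroup 2 T) {k : G} (hk : k ∈ T) {n : ℕ}
    (hn : Odd n) (h : k ^ n = 1) : k = 1 := by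
  obtain ⟨m, hm⟩ := hT ⟨k, hk⟩
  have h1 : k ^ 2 ^ m = 1 := congrArg Subtype.val hm
  rw [← orderOf_dvd_iff_pow_eq_one] at h h1
  exact orderOf_eq_one_iff.1 (Nat.eq_one_of_dvd_coprimes (Nat.Coprime.pow_left m (Nat.coprime_two_left.2 hn)) h1 h)

variable {K : Type*} [Field K]

theorem exists_second_central {T : Subgroup (GL2 K)} [Finite T] (hT : IsPGroup 2 T) {c : GL2 K} (hc : c ∈ T)
    (hc' : ¬ IsScal (c : M2 K)) : ∃ e ∈ T, ¬ IsScal (e : M2 K) ∧
      ∀ t ∈ T, (t : M2 K) * e = e * t ∨ (t : M2 K) * e = -(e * t) := by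
  let π := QuotientGroup.mk' (center (GL2 K))
  have : Finite (T.map π) := Finite.of_surjective _ (π.subgroupMap_surjective T)
  have : Nontrivial (T.map π) := ⟨⟨⟨π c, mem_map_of_mem _ hc⟩, 1, fun h =>
    hc' (mem_center_GL_iff.1 ((QuotientGroup.eq_one_iff _).1 (congrArg Subtype.val h)))⟩⟩
  have := (hT.map π).center_nontrivial
  obtain ⟨⟨⟨_, e, he, rfl⟩, h1⟩, h2⟩ := exists_ne (1 : center (T.map π))
  refine ⟨e, he, fun h => h2 (Subtype.ext (Subtype.ext
    ((QuotientGroup.eq_one_iff _).2 (mem_center_GL_iff.2 h)))), fun t ht => ?_⟩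
  have h3 : π (e * t) = π (t * e) := by
    rw [map_mul, map_mul]
    exact (congrArg Subtype.val (mem_center_iff.1 h1 ⟨π t, mem_map_of_mem _ ht⟩)).symm
  obtain ⟨x, hx⟩ := isScal_iff.1 (mem_center_GL_iff.1 (QuotientGroup.eq.1 h3))
  have h4 : (t : M2 K) * e = x • ((e : M2 K) * t) := by
    rw [← coe_mul_GL, ← mul_inv_cancel_left (e * t) (t * e), coe_mul_GL, hx, mul_smul_comm, mul_one, coe_mul_GL]
  have h5 := congrArg det h4
  rw [det_smul, det_mul, det_mul, mul_comm (det (e : M2 K)), Fintype.card_fin, eq_comm,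
    mul_eq_right₀ (mul_ne_zero (det_GL_ne_zero t) (det_GL_ne_zero e)), sq_eq_one_iff] at h5
  rcases h5 with h5 | h5 <;> simp [h4, h5]

theorem isScal_of_normalizes (h2 : (2 : K) ≠ 0) {T : Subgroup (GL2 K)} [Finite T] (hT : IsPGroup 2 T)
    {a b : SL(2, K)} (hab : QPair a b) (ha : a.toGL ∈ T) (hb : b.toGL ∈ T) {c : GL2 K} (hc : c ∈ T)
    (hc' : ¬ IsScal ((c : M2 K) * (c : M2 K))) {g : GL2 K} (hg : g ∈ normalizer (T : Set (GL2 K)))
    (ho : Odd (orderOf g)) : IsScal (g : M2 K) := by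
  obtain ⟨e, he, he1, he2⟩ := exists_second_central hT ha (hab.not_isScal h2)
  have hu : ∀ {x : K} {s t : GL2 K}, x • ((s : M2 K) * t) = -(x • ((s : M2 K) * t)) → x = 0 := fun {x s t} h => by
    rw [← add_eq_zero_iff_eq_neg, ← two_smul K, smul_eq_zero_iff_right h2, smul_eq_zero, ← coe_mul_GL] at h
    exact h.resolve_right (Units.ne_zero _)
  obtain ⟨t, ht, hte⟩ : ∃ t ∈ T, (t : M2 K) * e = -(e * t) := by
    by_contra h
    have h1 : ∀ t ∈ T, (t : M2 K) * e = e * t := fun t ht => (he2 t ht).resolve_right fun e => h ⟨t, ht, e⟩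
    exact hab.not_commute h2 (ext_SL (comm_of_commute_nonscal he1 (h1 _ hb) (h1 _ ha)))
  have htr : (e : M2 K).trace = 0 := by
    have := trace_eq_of_intertwine (M := -(e : M2 K)) (N := e) (det_GL_ne_zero t) (by rw [hte, neg_mul])
    rwa [trace_neg, neg_eq_iff_add_eq_zero, ← two_mul, mul_eq_zero_iff_left h2] at this
  have hge : (g : M2 K) * e = e * g := by
    have h1 : ((g * e * g⁻¹ : GL2 K) : M2 K) * g = g * e := by rw [← coe_mul_GL, inv_mul_cancel_right, coe_mul_GL]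
    rcases he2 _ ((mem_normalizer_iff.1 hg e).1 he) with h | h
    · obtain ⟨x, y, h3⟩ := (commute_iff he1 _).1 h
      have h4 := trace_eq_of_intertwine (det_GL_ne_zero g) h1
      have h5 := det_eq_of_intertwine (det_GL_ne_zero g) h1
      rw [h3, trace_smul_one_add_smul, htr, zero_mul, add_zero, mul_eq_zero_iff_left h2] at h4
      rw [h3, det_smul_one_add_smul, h4, htr] at h5
      have h6 : y = 1 ∨ y = -1 := by
        rw [← mul_self_eq_one_iff]
        exact mul_left_cancel₀ (det_GL_ne_zero e) (by linear_combination h5)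
      rw [h3, h4, zero_smul, zero_add] at h1
      rcases h6 with rfl | rfl
      · rw [← h1, one_smul]
      · have h7 : ∀ n : ℕ, ((g ^ n : GL2 K) : M2 K) * e = (-1 : K) ^ n • (e * (g ^ n : GL2 K)) := fun n => by
          induction n with
          | zero => simp
          | succ n ih =>
            rw [pow_succ g, coe_mul_GL, mul_assoc, ← h1, smul_mul_assoc, mul_smul_comm, ← mul_assoc, ih,
              smul_mul_assoc, smul_smul, mul_assoc, pow_succ']
        have h8 := h7 (orderOf g)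
        rw [ho.neg_one_pow, pow_orderOf_eq_one] at h8
        exact absurd (hu (x := 1) (s := 1) (t := e) (by simpa using h8)) one_ne_zero
    · have h3 : ∀ s : GL2 K, (∀ t ∈ T, (t : M2 K) * s = s * t ∨ (t : M2 K) * s = -(s * t)) →
          (c : M2 K) * c * s = s * (c * c) := fun s hs => by
        rcases hs c hc with h | h
        · rw [mul_assoc, h, ← mul_assoc, h, mul_assoc]
        · rw [mul_assoc, h, mul_neg, ← mul_assoc, h, neg_mul, neg_neg, mul_assoc]
      obtain ⟨x, y, h4⟩ := (commute_iff he1 _).1 (h3 e he2)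
      have h5 := h3 (g * e * g⁻¹) fun t ht => by
        have e2 : t * (g * e * g⁻¹) = g * (g⁻¹ * t * g * e) * g⁻¹ := by group
        have e3 : g * e * g⁻¹ * t = g * (e * (g⁻¹ * t * g)) * g⁻¹ := by group
        rw [← coe_mul_GL, ← coe_mul_GL, e2, e3, coe_mul_GL, coe_mul_GL, coe_mul_GL _ e, coe_mul_GL _ g⁻¹,
          coe_mul_GL g, coe_mul_GL e]
        rcases he2 _ ((mem_normalizer_iff''.1 hg t).1 ht) with h | h <;> rw [h]
        exacts [Or.inl rfl, Or.inr (by rw [mul_neg, neg_mul])]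
      rw [h4, add_mul, mul_add, smul_mul_assoc, smul_mul_assoc, mul_smul_comm, mul_smul_comm, one_mul, mul_one,
        add_right_inj, h, smul_neg] at h5
      exact (hc' (h4 ▸ (isScal_smul_one_add_smul_iff he1 x y).2 (hu h5))).elim
  obtain ⟨x, y, h3⟩ := (commute_iff he1 _).1 hge
  have h4 : ((t * g * t⁻¹ : GL2 K) : M2 K) = x • (1 : M2 K) + (-y) • (e : M2 K) := by
    rw [coe_mul_GL, Units.mul_inv_eq_iff_eq_mul, coe_mul_GL, h3, mul_add, add_mul, mul_smul_comm, mul_smul_comm, hte]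
    simp
  have h5 : Commute g (t * g * t⁻¹) :=
    ext_GL (comm_of_commute_nonscal he1 hge ((commute_iff he1 _).2 ⟨_, _, h4⟩))
  have h6 : g * (t * g * t⁻¹)⁻¹ = 1 := by
    refine eq_one_of_odd hT ?_ ho ?_
    · simpa [mul_assoc] using mul_mem ((mem_normalizer_iff.1 hg t).1 ht) (inv_mem ht)
    · rw [h5.inv_right.mul_pow, inv_pow, conj_pow, pow_orderOf_eq_one]
      simp
  rw [mul_inv_eq_one] at h6
  rw [← h6, h3] at h4
  have h7 := (smul_one_add_smul_inj he1 h4).2
  rw [← add_eq_zero_iff_eq_neg, ← two_mul, mul_eq_zero_iff_left h2] at h7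
  exact h3 ▸ (isScal_smul_one_add_smul_iff he1 x y).2 h7

/-- The natural representation of `GL₂`. -/
noncomputable abbrev rho (K : Type*) [Field K] : GL2 K →* ((Fin 2 → K) ≃ₗ[K] (Fin 2 → K)) :=
  (CL.Cls.glEquiv (Fin 2) K).toMonoidHom

theorem rho_apply (g : GL2 K) (u : Fin 2 → K) : rho K g u = (g : M2 K) *ᵥ u := rfl

theorem rho_injective : Function.Injective (rho K) := (CL.Cls.glEquiv (Fin 2) K).injective

theorem rho_sq {a : SL(2, K)} (ha : a * a = -1) (u : Fin 2 → K) : rho K a.toGL (rho K a.toGL u) = -u := by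
  rw [rho_apply, rho_apply, mulVec_mulVec, coe_toGL, ← coe_mul_SL, ha]
  simp [neg_mulVec]

theorem gl_eq_of_mul_self (h2 : (2 : K) ≠ 0) {g : GL2 K} (h : g * g = 1) (hd : (g : M2 K).det = 1) :
    (g : M2 K) = 1 ∨ (g : M2 K) = -1 :=
  (sl_eq_of_mul_self h2 (g := mkSL g hd) (ext_SL (congrArg Units.val h))).imp (congrArg Subtype.val)
    (congrArg Subtype.val)

variable {ι : Type*} [Fintype ι] [DecidableEq ι]

theorem exists_z_eq_blk_of_pair (h2 : (2 : K) ≠ 0) {f : Frame K (Fin 2 → K) (ι → Fin 2 → K)} {a b : SL(2, K)}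
    (hab : QPair a b) {x y : W (GL2 K) ι} (hx : wrRep (rho K) ι x = f.kap (rho K a.toGL))
    (hy : wrRep (rho K) ι y = f.kap (rho K b.toGL)) : ∃ l, f.z = (blk K (Fin 2 → K) l).z := by
  have h1 := right_eq_one h2 (rho_sq hab.sq_left) hx
  have h3 := right_eq_one h2 (rho_sq hab.sq_right) hy
  have hz : wrRep (rho K) ι (x * x) = f.z := by rw [map_mul, hx, f.kap_mul_self (rho_sq hab.sq_left)]
  have h4 : x * x * (x * x) = 1 := wrRep_injective rho_injective (by rw [map_mul, hz, f.z_mul_z, map_one])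
  have h5 : y * x = x * x * (x * y) := wrRep_injective rho_injective (by
    simp only [map_mul, hx, hy]
    simp only [← map_mul]
    rw [hab.anti, hab.sq_left, neg_one_mul])
  refine exists_z_eq_blk h2 fun l => ?_
  have h6 := congrFun (congrArg SemidirectProduct.left h4) l
  have h7 := congrArg (fun g : GL2 K => (g : M2 K).det) (congrFun (congrArg SemidirectProduct.left h5) l)
  simp only [mul_left_apply, SemidirectProduct.mul_right, h1, h3, mul_one, inv_one, Equiv.Perm.one_apply] at h6 h7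
  rw [coe_mul_GL, coe_mul_GL _ (_ * _), coe_mul_GL _ (y.left l), det_mul, det_mul, det_mul, mul_comm, eq_comm,
    mul_eq_right₀ (mul_ne_zero (det_GL_ne_zero _) (det_GL_ne_zero _))] at h7
  refine (gl_eq_of_mul_self h2 h6 h7).imp (fun h v => ?_) fun h v => ?_ <;>
    simp only [← hz, wrRep_apply, mul_left_apply, SemidirectProduct.mul_right, h1, mul_one, inv_one,
      Equiv.Perm.one_apply, rho_apply, h, one_mulVec, neg_mulVec]

theorem scalar_of_normalizes [Nontrivial ι] (h2 : (2 : K) ≠ 0) {T : Subgroup (GL2 K)} [Finite T] (hT : IsPGroup 2 T)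
    {a b : SL(2, K)} (hab : QPair a b) (ha : a.toGL ∈ T) (hb : b.toGL ∈ T) {c : GL2 K} (hc : c ∈ T)
    (hc' : ¬ IsScal ((c : M2 K) * (c : M2 K))) {P : Subgroup (Equiv.Perm ι)} (hP : IsSylowIn 2 P ⊤)
    (htr : ∀ i j, ∃ σ ∈ P, σ i = j) {g : (ι → Fin 2 → K) ≃ₗ[K] (ι → Fin 2 → K)}
    (hg : ∀ s ∈ (wsub T P).map (wrRep (rho K) ι) ⊓ LinearEquiv.det.ker,
      g * s * g⁻¹ ∈ (wsub T P).map (wrRep (rho K) ι)) (ho : Odd (orderOf g)) : ∃ x : K, ∀ v, g v = x • v := by
  have hS : ∀ s ∈ wsub T P, ∏ i, GeneralLinearGroup.det (s.left i) = 1 →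
      g * wrRep (rho K) ι s * g⁻¹ ∈ (wsub T P).map (wrRep (rho K) ι) := fun s hs h =>
    hg _ ⟨mem_map_of_mem _ hs, (CL.Blk.det_wrRep s).trans h⟩
  have hS1 : ∀ j, ∀ y : SL(2, K), y.toGL ∈ T →
      ∃ x, wrRep (rho K) ι x = ((blk K (Fin 2 → K) j).map g).kap (rho K y.toGL) := fun j y hy => by
    obtain ⟨x, -, hx⟩ := hS _ (single_mem_wsub (i := j).2 hy) (Finset.prod_eq_one fun i _ => by
      by_cases h : i = j <;> simp [h])
    exact ⟨x, by rw [hx, Frame.kap_map, blk_kap]⟩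
  obtain ⟨w, rfl⟩ : ∃ w, wrRep (rho K) ι w = g := exists_wrRep fun j => by
    obtain ⟨x, hx⟩ := hS1 j a ha
    obtain ⟨y, hy⟩ := hS1 j b hb
    obtain ⟨l, hl⟩ := exists_z_eq_blk_of_pair h2 hab hx hy
    obtain ⟨t, ht, -⟩ := Frame.exists_of_z_eq h2 hl
    obtain ⟨t, rfl⟩ := (CL.Cls.glEquiv (Fin 2) K).surjective t
    exact ⟨l, t, ht⟩
  have hinj : Function.Injective (wrRep (rho K) ι) := wrRep_injective rho_injective
  simp only [← map_mul, ← map_inv, mem_map_iff_mem hinj] at hS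
  rw [orderOf_injective _ hinj] at ho
  have h1 : w.right = 1 := CL.Known.eq_one_of_odd_of_normalizes _ ι rfl P hP _
    (mem_normalizer_fintype fun σ hσ => by simpa using (hS _ (inr_mem_wsub.2 hσ) (by simp)).2) _ ho
    (by rw [← SemidirectProduct.rightHom_eq_right, ← map_pow, pow_orderOf_eq_one, map_one])
  obtain ⟨f, rfl⟩ : ∃ f, w = SemidirectProduct.inl f := ⟨_, eq_inl h1⟩
  rw [orderOf_injective _ SemidirectProduct.inl_injective] at ho
  have h3 : ∀ i, f i ^ orderOf f = 1 := fun i => congrFun (pow_orderOf_eq_one f) i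
  have h4 : ∀ i, IsScal (f i : M2 K) := fun i => by
    refine isScal_of_normalizes h2 hT hab ha hb hc hc' (mem_normalizer_fintype fun t ht => ?_)
      (ho.of_dvd_nat (orderOf_dvd_of_pow_eq_one (h3 i)))
    obtain ⟨j, hj⟩ := exists_ne i
    have h6 := mul_mem (single_mem_wsub (P := P) (i := i).2 ht) (single_mem_wsub (i := j).2 (inv_mem ht))
    rw [← map_mul] at h6
    have h7 : ∀ (l : ι) (y : GL2 K), ∏ k, GeneralLinearGroup.det ((Pi.mulSingle l y : ι → GL2 K) k) =
        GeneralLinearGroup.det y := fun l y => by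
      rw [Finset.prod_eq_single l (fun k _ hk => by simp [hk]) (by simp), Pi.mulSingle_eq_same]
    have h5 := (hS _ h6 (by
      rw [SemidirectProduct.left_inl]
      simp only [Pi.mul_apply, MonoidHom.map_mul, Finset.prod_mul_distrib, h7]
      simp)).1 i
    simpa [← map_mul, ← map_inv, hj.symm] using h5
  have h5 : ∀ i j, f i = f j := fun i j => by
    obtain ⟨σ, hσ, rfl⟩ := htr j i
    have h6 := (hS _ (inr_mem_wsub.2 hσ) (by simp)).1 (σ j)
    rw [inl_conj_inr] at h6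
    simp only [Equiv.Perm.coe_inv, Equiv.symm_apply_apply] at h6
    have h7 : Commute (f (σ j)) (f j) := ext_GL ((h4 _).mul_comm _)
    exact mul_inv_eq_one.1 (eq_one_of_odd hT h6 ho (by rw [h7.inv_right.mul_pow, inv_pow, h3, h3, inv_one, mul_one]))
  obtain ⟨i⟩ : Nonempty ι := inferInstance
  obtain ⟨x, hx⟩ := isScal_iff.1 (h4 i)
  exact ⟨x, fun v => funext fun l => by
    rw [wrRep_apply, rho_apply, SemidirectProduct.left_inl, h5 l i, hx, smul_mulVec, one_mulVec]; rfl⟩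

theorem exists_odd_pow {G : Type*} [Group G] [Finite G] (g : G) : ∃ m, Odd m ∧ IsPGroup 2 (zpowers (g ^ m)) := by
  obtain ⟨k, m, hm, e⟩ := Nat.exists_eq_two_pow_mul_odd (orderOf_pos g).ne'
  exact ⟨m, hm, IsPGroup.of_card (n := k) (by
    rw [Nat.card_zpowers, orderOf_pow_of_dvd hm.pos.ne' (e ▸ dvd_mul_left _ _), e, Nat.mul_div_cancel _ hm.pos])⟩

theorem QPair.isPGroup_closure {a b : SL(2, K)} (h : QPair a b) : IsPGroup 2 (closure {a, b} : Subgroup SL(2, K)) := by
  let X : Subgroup SL(2, K) :=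
    { carrier := {x | ∃ s, (s = 1 ∨ s = -1) ∧ (x = s ∨ x = s * a ∨ x = s * b ∨ x = s * (a * b))}
      one_mem' := ⟨1, Or.inl rfl, Or.inl rfl⟩
      mul_mem' := by
        have h1 : ∀ x, a * (a * x) = -x := fun x => by rw [← mul_assoc, h.sq_left, neg_one_mul]
        have h3 : ∀ x, b * (a * x) = -(a * (b * x)) := fun x => by rw [← mul_assoc, h.anti, neg_mul, mul_assoc]
        rintro _ _ ⟨s, rfl | rfl, rfl | rfl | rfl | rfl⟩ ⟨s, rfl | rfl, rfl | rfl | rfl | rfl⟩ <;>
          simp [mul_assoc, h1, h3, h.sq_left, h.sq_right, h.anti]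
      inv_mem' := by
        have h1 : a⁻¹ = -a := by rw [inv_eq_iff_mul_eq_one, mul_neg, h.sq_left, neg_neg]
        have h3 : b⁻¹ = -b := by rw [inv_eq_iff_mul_eq_one, mul_neg, h.sq_right, neg_neg]
        rintro _ ⟨s, rfl | rfl, rfl | rfl | rfl | rfl⟩ <;> simp [h1, h3, h.anti] }
  refine IsPGroup.to_le (K := X) (CL.Even.isPGroup_iff_forall.2 ?_) ((closure_le _).2 ?_)
  · have h1 : ∀ x : SL(2, K), x * x = 1 ∨ x * x = -1 → x ^ 2 ^ 2 = 1 := fun x hx => by
      rw [show x ^ 2 ^ 2 = x * x * (x * x) by simp [pow_succ, mul_assoc]]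
      rcases hx with hx | hx <;> simp [hx]
    rintro _ ⟨s, rfl | rfl, rfl | rfl | rfl | rfl⟩ <;> refine ⟨2, h1 _ ?_⟩ <;>
      simp [h.sq_left, h.sq_right, h.mul_right.sq_right]
  · rintro _ (rfl | rfl)
    exacts [⟨1, Or.inl rfl, by simp⟩, ⟨1, Or.inl rfl, by simp⟩]

theorem allPron_special [Finite K] (h2 : (2 : K) ≠ 0) {L : Subgroup (GL2 K)} {a b : SL(2, K)} (hab : QPair a b)
    (ha : a.toGL ∈ L) (hb : b.toGL ∈ L) {c : GL2 K} (hc : c ∈ L) {x : K}
    (hx : (c : M2 K) * (c : M2 K) = x • (a : M2 K)) {k : ℕ} (hk : 1 ≤ k)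
    {M : Subgroup ((Fin (2 ^ k) → Fin 2 → K) ≃ₗ[K] (Fin (2 ^ k) → Fin 2 → K))}
    (hM : (wsub L ⊤).map (wrRep (rho K) _) ≤ M)
    (hv : padicValNat 2 (Nat.card M) = padicValNat 2 (Nat.card (W L (Fin (2 ^ k))))) :
    AllPron 2 ↥(M ⊓ LinearEquiv.det.ker) := by
  have : Finite ((Fin (2 ^ k) → Fin 2 → K) ≃ₗ[K] (Fin (2 ^ k) → Fin 2 → K)) := DFunLike.finite _
  have : Nontrivial (Fin (2 ^ k)) := Fin.nontrivial_iff_two_le.2 (Nat.le_self_pow (by omega) 2)
  obtain ⟨T, hT, hQ⟩ := exists_isSylowIn_ge ((QPair.isPGroup_closure hab).map SpecialLinearGroup.toGL) (H := L)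
    (by rw [MonoidHom.map_closure, closure_le]; rintro _ ⟨_, rfl | rfl, rfl⟩; exacts [ha, hb])
  obtain ⟨m, hm, h1⟩ := exists_odd_pow c
  obtain ⟨d, -, hd⟩ := hT.exists_conj_le h1 (zpowers_le.2 (pow_mem hc m))
  have h3 : ¬ IsScal (((d * c ^ m * d⁻¹ : GL2 K) : M2 K) * ((d * c ^ m * d⁻¹ : GL2 K) : M2 K)) := fun h => by
    have h3 : ((d * c ^ m * d⁻¹ * (d * c ^ m * d⁻¹) : GL2 K) : M2 K) * d = d * ((c * c) ^ m : GL2 K) := by
      rw [← coe_mul_GL, ← coe_mul_GL, (Commute.refl c).mul_pow]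
      congr 1
      group
    rw [← coe_mul_GL, isScal_iff_of_intertwine (det_GL_ne_zero d) h3, Units.val_pow_eq_pow_val, coe_mul_GL, hx,
      smul_pow] at h
    obtain ⟨j, rfl⟩ := hm
    have h4 : (a : M2 K) * (a : M2 K) = (-1 : K) • (1 : M2 K) := by
      rw [← coe_mul_SL, hab.sq_left]
      simp
    have h5 : x ≠ 0 := fun e => (c * c).ne_zero (by rw [coe_mul_GL, hx, e, zero_smul])
    rw [pow_succ (a : M2 K), pow_mul (a : M2 K), pow_two (a : M2 K), h4, smul_pow, one_pow, smul_mul_assoc, one_mul,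
      smul_smul, ← zero_add (_ • _), ← zero_smul K (1 : M2 K), isScal_smul_one_add_smul_iff (hab.not_isScal h2)] at h
    simp [h5] at h
  obtain ⟨P, hP, htr⟩ := exists_sylow_trans k
  have hS := (isSylowIn_wsub _ (wrRep_injective rho_injective) hT hP hM hv).inf_of_normalized
    (N := M ⊓ LinearEquiv.det.ker) inf_le_left (le_normalizer_inf' le_normalizer le_normalizer_of_normal)
  refine allPron_of_odd (isSylowIn_top hS.toSylow) fun g hg ho => ?_
  obtain ⟨y, hy⟩ := scalar_of_normalizes h2 hT.isPGroup hab (hQ (mem_map_of_mem _ (subset_closure (by simp))))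
    (hQ (mem_map_of_mem _ (subset_closure (by simp)))) (hd (conj_mem_conj_smul d (mem_zpowers _))) h3
    hP htr (g := g) (fun s hs => ((mem_normalizer_iff.1 hg ⟨s, hM (map_mono (wsub_mono hT.le le_top) hs.1), hs.2⟩).1
      ⟨hs.1, hM (map_mono (wsub_mono hT.le le_top) hs.1), hs.2⟩).1) (by rwa [orderOf_coe])
  exact mem_center_iff.2 fun s => Subtype.ext (LinearEquiv.ext fun v => by
    rw [coe_mul, coe_mul, LinearEquiv.mul_apply, LinearEquiv.mul_apply, hy, hy, map_smul])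

end CL.Pron
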