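/-
Overgroups of Sylow 2-subgroups in `SL₂(q)`; pronormality of the subgroups of odd index in `SL` and `SU` of
2-power dimension.
-/
import Cfsg.Agent.Cls.Pron3
import Cfsg.Agent.Cls.SL2Redund
import Cfsg.Agent.Inv.BSQ8a
import Cfsg.Agent.Grp.Coprime

set_option autoImplicit false
set_option linter.unusedSectionVars false

open Subgroup CL.Grp CL.Wr CL.GL2 CL.SL2 Module Matrix Cfsg
open scoped Pointwise MatrixGroups

namespace CL.Pron

theorem eq_or_eq_of_card {G : Type*} [Group G] [Finite G] {Q X N : Subgroup G} (h1 : Q ≤ X) (h2 : X ≤ N)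
    (h : Nat.card N = 3 * Nat.card Q) : X = Q ∨ X = N := by
  obtain ⟨k, hk⟩ := card_dvd_of_le h1
  have h3 := card_dvd_of_le h2
  rw [hk, h, mul_comm 3, Nat.mul_dvd_mul_iff_left Nat.card_pos, Nat.dvd_prime Nat.prime_three] at h3
  rcases h3 with rfl | rfl
  · exact Or.inl (eq_of_le_of_card_ge h1 (by omega)).symm
  · exact Or.inr (eq_of_le_of_card_ge h2 (by omega))

theorem zpowers_eq_of_isCyclic {G : Type*} [Group G] {O : Subgroup G} [Finite O] (h : IsCyclic O) {x y : G}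
    (hx : x ∈ O) (hy : y ∈ O) (e : orderOf x = orderOf y) : zpowers x = zpowers y := by
  let _ := h.commGroup
  have key : ∀ z : O, zpowers z = (powMonoidHom (orderOf z) : O →* O).ker := fun z =>
    eq_of_le_of_card_ge (zpowers_le.2 (pow_orderOf_eq_one z)) (by
      rw [IsCyclic.card_powMonoidHom_ker, Nat.card_zpowers]
      exact Nat.gcd_le_right _ (orderOf_pos z))
  have h1 : zpowers (⟨x, hx⟩ : O) = zpowers ⟨y, hy⟩ := by
    rw [key, key, ← orderOf_coe, ← orderOf_coe, e]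
  simpa [MonoidHom.map_zpowers] using congrArg (Subgroup.map O.subtype) h1

theorem commute_of_normalizer_zpowers {G : Type*} [Group G] {y g h : G} (hg : g ∈ normalizer (zpowers y : Set G))
    (hh : h ∈ normalizer (zpowers y : Set G)) : Commute (g * h * g⁻¹ * h⁻¹) y := by
  obtain ⟨i, hi⟩ := mem_zpowers_iff.1 ((mem_normalizer_iff''.1 hg y).1 (mem_zpowers y))
  obtain ⟨j, hj⟩ := mem_zpowers_iff.1 ((mem_normalizer_iff''.1 hh y).1 (mem_zpowers y))
  have h1 : ∀ {g h : G} {i j : ℤ}, y ^ i = g⁻¹ * y * g → y ^ j = h⁻¹ * y * h →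
      h⁻¹ * (g⁻¹ * y * g) * h = y ^ (j * i) := fun {g h i j} hi hj => by
    rw [← hi, _root_.zpow_mul, hj]
    simpa using (conj_zpow (a := h⁻¹) (b := y) (i := i)).symm
  have h2 := (h1 hi hj).trans ((congrArg _ (mul_comm _ _)).trans (h1 hj hi).symm)
  calc g * h * g⁻¹ * h⁻¹ * y = g * h * (g⁻¹ * (h⁻¹ * y * h) * g) * g⁻¹ * h⁻¹ := by group
    _ = _ := by rw [← h2]; group

variable {F : Type*} [Field F]

theorem QPair.not_fix (h2 : (2 : F) ≠ 0) {a b : SL(2, F)} (h : QPair a b) {x : P1 F} (ha : a • x = x)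
    (hb : b • x = x) : False := by
  obtain ⟨c, rfl⟩ := exists_sl_one x
  have h1 : ∀ {g : SL(2, F)}, g • c • (pinf : P1 F) = c • pinf → (c⁻¹ * g * c) 1 0 = 0 := fun hg => by
    rw [← sl_smul_pinf_eq_pinf, mul_smul, mul_smul, hg, inv_smul_smul]
  have h3 : (c⁻¹ * b * c) * (c⁻¹ * a * c) = -((c⁻¹ * a * c) * (c⁻¹ * b * c)) := by
    simp only [mul_assoc, mul_inv_cancel_left]
    rw [← mul_assoc b, h.anti, neg_mul, mul_neg, mul_assoc]
  have h4 := sl_det (c⁻¹ * a * c)
  have h5 := sl_det (c⁻¹ * b * c)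
  have h6 := h1 ha
  have h7 := h1 hb
  generalize c⁻¹ * a * c = A at *
  generalize c⁻¹ * b * c = B at *
  have h8 : B 0 0 * A 0 0 + B 0 1 * A 1 0 = -(A 0 0 * B 0 0 + A 0 1 * B 1 0) :=
    (mul00 B.1 A.1).symm.trans ((congrArg (fun g : SL(2, F) => g.1 0 0) h3).trans (congrArg Neg.neg (mul00 A.1 B.1)))
  refine h2 ?_
  rw [h6] at h4 h8
  rw [h7] at h5 h8
  linear_combination (A 1 1 * B 1 1) * h8 - 2 * B 0 0 * B 1 1 * h4 - 2 * h5

theorem QPair.mem_cases (h2 : (2 : F) ≠ 0) {a b : SL(2, F)} (h : QPair a b) {Q : Subgroup SL(2, F)}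
    (e : Q ≃* QuaternionGroup 2) (ha : a ∈ Q) (hb : b ∈ Q) {g : SL(2, F)} (hg : g ∈ Q) :
    g = 1 ∨ g = a ∨ g = -1 ∨ g = -a ∨ g = b ∨ g = a * b ∨ g = -b ∨ g = -(a * b) := by
  have h1 : a⁻¹ = -a := by rw [inv_eq_iff_mul_eq_one, mul_neg, h.sq_left, neg_neg]
  have key : ∀ x y : Q, e x = e y ↔ (x : SL(2, F)) = y := fun x y => e.injective.eq_iff.trans Subtype.ext_iff
  have h3 := CL.Inv.q8_dec7 (e ⟨a, ha⟩) (e ⟨b, hb⟩) (e ⟨g, hg⟩)
  simp only [← map_mul, ← map_inv, ← map_one e, ne_eq, key, coe_mul, coe_inv, coe_one, h1, h.sq_left, h.sq_right,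
    neg_mul, one_mul] at h3
  exact h3 (neg_one_ne_one_sl h2) (neg_one_ne_one_sl h2) (fun e => h.not_commute h2 (by rw [e]))
    fun e => h.not_commute h2 (by rw [e, neg_mul, mul_neg])

theorem orderOf_eq_four (h2 : (2 : F) ≠ 0) {a : SL(2, F)} (h : a * a = -1) : orderOf a = 4 :=
  orderOf_eq_prime_pow (p := 2) (n := 1) (by rw [pow_one, pow_two, h]; exact neg_one_ne_one_sl h2)
    (by rw [show a ^ 2 ^ (1 + 1) = a * a * (a * a) by simp [pow_succ, mul_assoc], h]; simp)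

variable [Fintype F]

theorem two_ne_zero_of_odd (hodd : Odd (Fintype.card F)) : (2 : F) ≠ 0 := fun h =>
  Nat.not_even_iff_odd.2 hodd (even_card_of_two_eq_zero h)

theorem exists_sylow_qpair : ∃ (Q : Sylow 2 SL(2, F)) (a b : SL(2, F)), QPair a b ∧ a ∈ Q ∧ b ∈ Q := by
  obtain ⟨a, b, h⟩ := exists_qpair_of_finite (F := F)
  obtain ⟨Q, hQ⟩ := (QPair.isPGroup_closure h).exists_le_sylow
  exact ⟨Q, a, b, h, hQ (subset_closure (by simp)), hQ (subset_closure (by simp))⟩

theorem normalizer_cases (hodd : Odd (Fintype.card F)) (Q : Sylow 2 SL(2, F)) :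
    normalizer ((Q : Subgroup SL(2, F)) : Set SL(2, F)) = Q ∨ (Nonempty (Q ≃* QuaternionGroup 2) ∧
      Nat.card (normalizer ((Q : Subgroup SL(2, F)) : Set SL(2, F))) = 3 * Nat.card Q) := by
  classical
  by_cases h : Fintype.card F % 8 = 3 ∨ Fintype.card F % 8 = 5
  · obtain ⟨k, e, hk⟩ := sylow_two_quaternion hodd Q
    obtain rfl := hk.2 h
    obtain ⟨h1, h2⟩ := card_normalizer_sylow_two hodd h Q
    exact Or.inr ⟨e, by rw [h1, h2]⟩
  · exact Or.inl (normalizer_sylow_two_eq hodd (by have := Nat.odd_iff.1 hodd; omega) Q)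

theorem eq_or_mem_sup (hodd : Odd (Fintype.card F)) {Q : Sylow 2 SL(2, F)} {a b : SL(2, F)} (hab : QPair a b)
    (ha : a ∈ Q) (hb : b ∈ Q) {Y : Subgroup SL(2, F)} (hY : (Q : Subgroup SL(2, F)) ≤ Y) {c : SL(2, F)}
    (hc : c ∈ normalizer ((Q : Subgroup SL(2, F)) : Set SL(2, F))) : Y = Q ∨ c ∈ Y ⊔ MulAut.conj c • Y := by
  have h2 := two_ne_zero_of_odd hodd
  obtain ⟨p, _, -, hp, -⟩ := FiniteField.card' F
  have := Fact.mk hp
  by_contra h
  obtain ⟨hY', hc'⟩ := not_or.1 h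
  set K := Y ⊔ MulAut.conj c • Y
  have hQK : (Q : Subgroup SL(2, F)) ≤ K := hY.trans le_sup_left
  obtain ⟨⟨e⟩, h3⟩ := (normalizer_cases hodd Q).resolve_left fun h => hc' (hQK (h ▸ hc))
  have h4 := (eq_or_eq_of_card (le_inf le_normalizer hQK) inf_le_left h3).resolve_right fun h => hc' (h.ge hc).2
  have h5 : HasNormalPComplement 2 K := by
    by_contra h5
    obtain ⟨n, hn, h6⟩ := CL.Inv.q8_exists_conj_normalizer (Q.subtype hQK)
      ((subgroupOfEquivOfLe hQK).trans e) h5 (a := ⟨a, hQK ha⟩) (b := ⟨b, hQK hb⟩) ha hb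
      (by rw [← orderOf_coe]; exact orderOf_eq_four h2 hab.sq_left)
      (by rw [← orderOf_coe]; exact orderOf_eq_four h2 hab.sq_right)
    have h7 : (n : SL(2, F)) * a = b * n := mul_inv_eq_iff_eq_mul.1 (congrArg Subtype.val h6)
    have h8 : (n : SL(2, F)) ∈ (Q : Subgroup SL(2, F)) := h4.le ⟨mem_normalizer_fintype fun x hx =>
      (mem_normalizer_iff.1 hn ⟨x, hQK hx⟩).1 hx, n.2⟩
    have h9 : (n : SL(2, F)) * a = a * n ∨ (n : SL(2, F)) * a = -a * n := by
      rcases QPair.mem_cases h2 hab e ha hb h8 with h | h | h | h | h | h | h | h <;> simp [h, hab.anti, mul_assoc]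
    rcases h9 with h9 | h9 <;> rw [h7, mul_left_inj] at h9 <;> exact hab.not_commute h2 (by simp [h9])
  set O := (pResidual 2 K).map K.subtype
  have hO : Odd (Nat.card O) := by
    rw [card_map_of_injective K.subtype_injective]
    exact Nat.coprime_two_right.1 (hasNormalPComplement_iff_coprime_pResidual.1 h5)
  have hO1 : ∀ x ∈ K, Odd (orderOf x) → x ∈ O := fun x hx h => mem_map_of_mem K.subtype
    (mem_pResidual_of_coprime (g := ⟨x, hx⟩) (by rw [← orderOf_coe]; exact Nat.coprime_two_right.2 h))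
  have hO2 : K ≤ normalizer (O : Set SL(2, F)) := by
    have := le_normalizer_map (H := pResidual 2 K) K.subtype
    rwa [normalizer_eq_top, ← MonoidHom.range_eq_map, range_subtype] at this
  have h6 : ¬ p ∣ Nat.card O := fun h6 => by
    obtain ⟨k, hk⟩ := IsPGroup.iff_card.1 Q.isPGroup'
    obtain ⟨R, hR, h7⟩ := exists_isSylowIn_le_normalizer p (hQK.trans hO2)
      (hk ▸ Nat.Coprime.pow_left k (Nat.coprime_two_left.2 hO)) (Or.inl (have := Q.isPGroup'.isNilpotent; inferInstance))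
    have h8 : R ≠ ⊥ := fun h => hR.not_dvd (by rwa [h, relIndex_bot_left])
    obtain ⟨x, hx⟩ := (uhyp_sl p).exists_le_Q hR.isPGroup h8
    obtain ⟨⟨r, hr⟩, hr1⟩ := ne_bot_iff_exists_ne_one.1 h8
    have h9 : ∀ g ∈ Q, g • x = x := fun g hg => by
      have := (hx ((mem_normalizer_iff.1 (h7 hg) r).1 hr))
      exact (uhyp_sl p).eq_of_fix (fun h => hr1 (Subtype.ext (by simpa using h))) this.2
        ((uhyp_sl p).conj_mem_Q (hx hr)).1 this.1
    exact QPair.not_fix h2 hab (h9 a ha) (h9 b hb)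
  have h7 : IsCyclic O := isCyclic_of_odd_pgl p (SpecialLinearGroup.toPGL.comp O.subtype)
    ((injective_iff_map_eq_one _).2 fun x hx => by
      have h8 : (x * x) ^ 1 = 1 := by
        rcases toPGL_eq_one_iff.1 hx with h | h <;> exact Subtype.ext (by simp [show x.1 = _ from h])
      have h9 := (hO.of_dvd_nat (orderOf_dvd_natCard x))
      rw [pow_one, ← pow_two, ← orderOf_dvd_iff_pow_eq_one] at h8
      exact orderOf_eq_one_iff.1 (Nat.eq_one_of_dvd_coprimes (Nat.coprime_two_left.2 h9) h8 dvd_rfl)) h6 hO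
  obtain ⟨y, hy, hy1, hy2⟩ : ∃ y ∈ Y, y ≠ 1 ∧ Odd (orderOf y) := by
    by_contra h8
    refine hY' ((isSylowIn_top Q).eq_of_le (CL.Even.isPGroup_iff_forall.2 fun x hx => ?_) hY le_top)
    obtain ⟨k, hk⟩ := exists_pow_orderOf_coprime Nat.prime_two x
    exact ⟨k, by_contra fun h => h8 ⟨_, pow_mem hx _, h, Nat.coprime_two_right.1 hk⟩⟩
  have h8 : ∀ g, g * y * g⁻¹ ∈ K → g ∈ normalizer (zpowers y : Set SL(2, F)) := fun g hg => by
    have h9 : orderOf (g * y * g⁻¹) = orderOf y := (MulAut.conj g).orderOf_eq y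
    rw [mem_normalizer_iff_map_conj_eq, MonoidHom.map_zpowers]
    exact zpowers_eq_of_isCyclic h7 (hO1 _ hg (h9 ▸ hy2)) (hO1 _ (mem_sup_left hy) hy2) h9
  have h9 : (Q : Subgroup SL(2, F)) ≤ normalizer (zpowers y : Set SL(2, F)) := fun g hg =>
    h8 g (mul_mem (mul_mem (hQK hg) (mem_sup_left hy)) (inv_mem (hQK hg)))
  have h10 := (eq_or_eq_of_card (le_inf le_normalizer h9) inf_le_left h3).resolve_left fun h =>
    hc' (hQK (h.le ⟨hc, h8 c (mem_sup_right (conj_mem_conj_smul c hy))⟩))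
  obtain ⟨t, -, -, ht1, ht2⟩ := exists_order_three_of_pair h2 hab.sq_left hab.sq_right hab.anti
  have h11 : ∀ x : SL(2, F), t * -x * t⁻¹ = -(t * x * t⁻¹) := fun x => by rw [mul_neg, neg_mul]
  have h12 : t * (a * b) * t⁻¹ = b * (a * b) :=
    calc _ = t * a * t⁻¹ * (t * b * t⁻¹) := by group
      _ = _ := by rw [ht1, ht2]
  have h13 : -1 ∈ (Q : Subgroup SL(2, F)) := hab.sq_left ▸ mul_mem ha ha
  have h14 : ∀ x ∈ (Q : Subgroup SL(2, F)), -x ∈ (Q : Subgroup SL(2, F)) := fun x hx => by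
    simpa using mul_mem h13 hx
  have ht : t ∈ normalizer (zpowers y : Set SL(2, F)) := (h10.ge (mem_normalizer_fintype fun x hx => by
    rcases QPair.mem_cases h2 hab e ha hb hx with h | h | h | h | h | h | h | h <;>
      simp only [h, h11, ht1, ht2, h12, mul_one, mul_inv_cancel] <;>
      repeat first | assumption | exact one_mem _ | apply h14 | apply mul_mem)).2
  have h15 := commute_of_normalizer_zpowers ht (h9 hb)
  rw [ht2, mul_inv_cancel_right] at h15
  have h16 := commute_of_normalizer_zpowers ht (h9 ha)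
  rw [ht1] at h16
  have h17 := h16.mul_left h15
  rw [inv_mul_cancel_right] at h17
  rcases isScal_SL_iff.1 (hab.isScal_of_commute h2 (c := y) (congrArg Subtype.val h15.symm.eq)
    (congrArg Subtype.val h17.symm.eq)) with h | h
  · exact hy1 h
  · have := hy2.neg_one_pow (α := SL(2, F))
    rw [← h, pow_orderOf_eq_one, h] at this
    exact neg_one_ne_one_sl h2 this.symm

theorem allPron_SL_two (hodd : Odd (Fintype.card F)) : AllPron 2 SL(2, F) := by
  obtain ⟨Q, a, b, hab, ha, hb⟩ := exists_sylow_qpair (F := F)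
  refine allPron_of (isSylowIn_top Q) fun H hH g hg => ?_
  rcases eq_or_mem_sup hodd hab ha hb hH hg with rfl | h
  · exact ⟨1, one_mem _, by rw [map_one, one_smul, conj_smul_eq_self_iff]; exact hg⟩
  · exact ⟨g, h, rfl⟩

theorem allPron_SL {w : ℕ} (hw : 1 ≤ w) : AllPron 2 SL(2 ^ w, F) := by
  by_cases h2 : (2 : F) = 0
  · have : CharP F 2 := CharTwo.of_one_ne_zero_of_two_eq_zero one_ne_zero h2
    exact allPron_of_hasPreLie (CL.Chev.GLB.hasPreLie_SL 2 (Nat.le_self_pow (by omega) 2))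
  have hodd : Odd (Fintype.card F) := Nat.odd_iff.2 (FiniteField.odd_card_of_char_ne_two fun h =>
    h2 (by rw [← Nat.cast_ofNat, ← h]; exact ringChar.Nat.cast_ringChar))
  obtain ⟨k, rfl⟩ := Nat.exists_eq_add_of_le' hw
  rcases Nat.eq_zero_or_pos k with rfl | hk
  · exact allPron_SL_two hodd
  obtain ⟨a, b, hab⟩ := exists_qpair_of_finite (F := F)
  have e1 : (a : M2 F) * a = -1 := congrArg Subtype.val hab.sq_left
  have hd : ((1 : F) • 1 + (1 : F) • (a : M2 F)).det = 2 := by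
    rw [det_smul_one_add_smul, mul_self_eq_neg_one_iff.1 hab.sq_left, det_SL]; ring
  let e : (Fin (2 ^ k) → Fin 2 → F) ≃ₗ[F] (Fin (2 ^ (k + 1)) → F) :=
    LinearEquiv.ofFinrankEq _ _ (by simp [finrank_pi_fintype, pow_succ])
  let E := (CL.Uni.conjEquiv e).trans (CL.Uni.glEquiv _ F).symm
  refine ((allPron_special h2 (L := ⊤) hab (mem_top _) (mem_top _) (c := mkGL _ (hd ▸ h2)) (mem_top _) (x := 2) ?_ hk
    (M := ⊤) le_top ?_).of_equiv (CL.Uni.restrictEquiv E (C := GeneralLinearGroup.det.ker) fun g => ?_)).of_equiv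
    CL.SLn.slEquivKerDet.symm
  · rw [coe_mkGL, one_smul, one_smul, add_mul, mul_add, mul_add, e1, two_smul]
    simp only [one_mul, mul_one]
    abel
  · rw [card_top, Nat.card_congr E.toEquiv, pow_succ', val_card_gl_even hodd, val_card_W, val_card_W, card_top]
  · rw [top_inf_eq, MonoidHom.mem_ker, MonoidHom.mem_ker, ← Units.val_inj, ← Units.val_inj,
      ← CL.Uni.dt_eq_coe, ← CL.Uni.dt_conjEquiv e, GeneralLinearGroup.val_det_apply, ← CL.Uni.dt_glEquiv]
    simp [E]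

theorem val_odd_pow_add {q : ℕ} (hq : 1 < q) (hodd : Odd q) {i : ℕ} (hi : Odd i) :
    padicValNat 2 (q ^ i + 1) = padicValNat 2 (q + 1) := by
  have key : ∀ {x : ℕ}, 1 < x → padicValNat 2 (x ^ 2 - 1) = padicValNat 2 (x + 1) + padicValNat 2 (x - 1) :=
    fun {x} hx => by rw [← padicValNat.mul (by omega) (by omega), ← Nat.sq_sub_sq, one_pow]
  have h1 := val_even_pow hq hodd hi.pos.ne'
  rw [mul_comm, pow_mul, key (Nat.one_lt_pow hi.pos.ne' hq), key hq, val_odd_pow hq hodd hi,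
    padicValNat.eq_zero_of_not_dvd (Nat.two_dvd_ne_zero.2 (Nat.odd_iff.1 hi))] at h1
  omega

theorem val_guOrder {q : ℕ} (hq : 1 < q) (hodd : Odd q) (m : ℕ) : padicValNat 2 (CL.Uni.guOrder q (2 * m)) =
    m * (padicValNat 2 (q + 1) + padicValNat 2 (q ^ 2 - 1)) + ∑ i ∈ Finset.range m, padicValNat 2 (i + 1) := by
  have h1 : ∀ i, (if Even i then q ^ (i + 1) + 1 else q ^ (i + 1) - 1) ≠ 0 := fun i => by
    split_ifs
    exacts [Nat.succ_ne_zero _, pow_sub_one_ne_zero hq]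
  rw [CL.Uni.guOrder, padicValNat.mul (pow_ne_zero _ (by omega)) (Finset.prod_ne_zero_iff.2 fun i _ => h1 i),
    val_pow_odd hodd, zero_add, val_prod _ _ h1]
  induction m with
  | zero => simp
  | succ m ih =>
    rw [show 2 * (m + 1) = 2 * m + 1 + 1 by ring, Finset.sum_range_succ, Finset.sum_range_succ, ih,
      Finset.sum_range_succ _ m, if_pos (even_two_mul m), if_neg (Nat.not_even_iff_odd.2 (odd_two_mul_add_one m)),
      val_odd_pow_add hq hodd (odd_two_mul_add_one m), show 2 * m + 1 + 1 = 2 * (m + 1) by ring,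
      val_even_pow hq hodd (Nat.succ_ne_zero m)]
    ring

open CL.Uni in
theorem allPron_SU {q : ℕ} (hF : Fintype.card F = q ^ 2) {w : ℕ} (hw : 2 ≤ w) : AllPron 2 (SU (2 ^ w) F q) := by
  by_cases h2 : (2 : F) = 0
  · have : CharP F 2 := CharTwo.of_one_ne_zero_of_two_eq_zero one_ne_zero h2
    exact allPron_of_hasPreLie (CL.Chev.hasPreLie_SU 2 _ hF)
  have hodd : Odd q := by
    have : Odd (Fintype.card F) := Nat.odd_iff.2 (FiniteField.odd_card_of_char_ne_two fun h =>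
      h2 (by rw [← Nat.cast_ofNat, ← h]; exact ringChar.Nat.cast_ringChar))
    exact (Nat.odd_pow_iff two_ne_zero).1 (hF ▸ this)
  obtain ⟨k, rfl⟩ := Nat.exists_eq_add_of_le' (one_le_two.trans hw)
  obtain ⟨σ, hσ⟩ : ∃ σ : F →+* F, IsBar σ q := ⟨_, isBar_bar hF⟩
  have hmem : ∀ g : GL2 F, g ∈ GU 2 F q ↔ ∀ u v, stdB σ _ (rho F g u) (rho F g v) = stdB σ _ u v := fun g =>
    (glEquiv_mem_UG hσ g).symm
  obtain ⟨c, hc0, hc⟩ := hσ.exists_trace_zero
  obtain ⟨⟨s, hs⟩, ⟨t, ht⟩, hst⟩ := CL.Cls.exists_sq_add_sq_eq (F := IsBar.fixedField σ) (a := ⟨c * σ c, hσ.norm_fixed c⟩)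
    (b := ⟨c * σ c, hσ.norm_fixed c⟩) (fun h => by simpa [hc0] using congrArg Subtype.val h)
    (fun h => by simpa [hc0] using congrArg Subtype.val h) 1
  have hst' : s ^ 2 * (c * σ c) + t ^ 2 * (c * σ c) = 1 := congrArg Subtype.val hst
  rw [IsBar.mem_fixedField] at hs ht
  rw [hc] at hst'
  obtain ⟨l, hl⟩ := hσ.exists_norm_eq (a := 2⁻¹) (by rw [map_inv₀, map_ofNat])
  have hl' : 2 * (l * σ l) = 1 := by rw [hl, mul_inv_cancel₀ h2]
  have hl0 : l ≠ 0 := fun h => by simp [h] at hl'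
  let a : SL(2, F) := sl 0 1 (-1) 0 (by ring)
  let b : SL(2, F) := sl (c * s) (c * t) (c * t) (-(c * s)) (by linear_combination hst')
  have hab : QPair a b := by
    refine ⟨mul_self_eq_neg_one_iff.2 ?_, mul_self_eq_neg_one_iff.2 ?_, ext_SL ?_⟩
    · simp [a, coe_sl]
    · simp [b, coe_sl]
    · simp [a, b, coe_sl]
  let B : (Fin (2 ^ k) → Fin 2 → F) →ₛₗ[σ] (Fin (2 ^ k) → Fin 2 → F) →ₗ[F] F :=
    LinearMap.mk₂'ₛₗ σ (RingHom.id F) (fun u v => ∑ i, stdB σ _ (u i) (v i))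
      (fun u u' v => by simp [Finset.sum_add_distrib]) (fun c u v => by simp [Finset.mul_sum])
      (fun u v v' => by simp [Finset.sum_add_distrib]) (fun c u v => by simp [Finset.mul_sum])
  have hB : ∀ u v, B u v = ∑ i, stdB σ _ (u i) (v i) := fun _ _ => rfl
  have hH : IsHerm B q := ⟨hσ, fun u v => by simp only [hB, map_sum, (isHerm_stdB hσ _).symm], fun u hu =>
    funext fun i => (isHerm_stdB hσ _).nondeg _ fun y => by
      have := hu (Pi.single i y)
      rwa [hB, Finset.sum_eq_single i (fun j _ hj => by simp [hj]) (by simp), Pi.single_eq_same] at this⟩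
  have hr : finrank F (Fin (2 ^ k) → Fin 2 → F) = 2 ^ (k + 1) := by simp [finrank_pi_fintype, pow_succ]
  obtain ⟨e⟩ := hH.nonempty_suEquiv hr
  refine (allPron_special h2 (L := GU 2 F q) hab ((hmem _).2 fun u v => ?_) ((hmem _).2 fun u v => ?_)
    (c := gl l l (-l) l (by simpa [← two_mul, h2] using hl0)) ((hmem _).2 fun u v => ?_) (x := 2 * l ^ 2) ?_
    (k := k) (by omega) (M := UG B) ?_ ?_).of_equiv e
  · simp only [rho_apply, coe_toGL]
    simp [stdB_apply, a, coe_sl, mulVec, dotProduct, add_comm]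
  · simp only [rho_apply, stdB_apply, b, coe_toGL, coe_sl, mulVec, dotProduct, Fin.sum_univ_two, of_apply, cons_val',
      cons_val_zero, cons_val_one, cons_val_fin_one, map_add, map_mul, map_neg, hc, hs, ht]
    linear_combination (σ (u 0) * v 0 + σ (u 1) * v 1) * hst'
  · simp only [rho_apply, stdB_apply, coe_gl, mulVec, dotProduct, Fin.sum_univ_two, of_apply, cons_val',
      cons_val_zero, cons_val_one, cons_val_fin_one, map_add, map_mul, map_neg]
    linear_combination (σ (u 0) * v 0 + σ (u 1) * v 1) * hl'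
  · refine ext2 ?_ ?_ ?_ ?_ <;> simp [coe_gl, a, coe_sl] <;> ring
  · rintro _ ⟨x, hx, rfl⟩ u v
    simp only [hB, wrRep_apply, (hmem _).1 (hx.1 _)]
    exact Equiv.sum_comp x.right⁻¹ fun i => stdB σ _ (u i) (v i)
  · have h1 := val_guOrder hσ.two_le hodd 1
    rw [hH.card_UG, hr, pow_succ', val_guOrder hσ.two_le hodd, val_card_W, card_GU hF, h1]
    simp

end CL.Pron
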