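/-
Symplectic frames (hyperbolic planes) and their long root subgroups `SL₂`.
-/
import Cfsg.Agent.Cls.Pron4

set_option autoImplicit false
set_option linter.unusedSectionVars false

open Subgroup CL.Grp CL.Wr CL.GL2 CL.SL2 CL.Sp Module Matrix
open scoped Pointwise MatrixGroups

namespace CL.Pron

variable {F : Type*} [Field F]

theorem even_card_psl (L : Type*) [Field L] [Finite L] (h2 : (2 : L) ≠ 0) : Even (Nat.card PSL(2, L)) := by
  have := Fintype.ofFinite L
  obtain ⟨a, b, h⟩ := exists_qpair_of_finite (F := L)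
  have h1 := h.cpair h2
  have h3 : orderOf (a : PSL(2, L)) = 2 := orderOf_eq_prime (by rw [pow_two]; exact h1.sq_left) h1.left_ne
  exact even_iff_two_dvd.2 (h3.symm.dvd.trans (orderOf_dvd_natCard _))

theorem exists_mul_self_eq_neg_one [Fintype F] (hodd : Odd (Fintype.card F)) {X : Subgroup SL(2, F)} {s t : F}
    (hs : s ≠ 0) (ht : t ≠ 0) (h1 : upT s ∈ X) (h3 : loT t ∈ X) : ∃ y ∈ X, y * y = -1 := by
  have h2 := two_ne_zero_of_odd hodd
  obtain ⟨p, _, -, hp, -⟩ := FiniteField.card' F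
  have := Fact.mk hp
  let π := QuotientGroup.mk' (center SL(2, F))
  have h4 : ∀ x : P1 F, ¬ (upT s • x = x ∧ loT t • x = x) := fun x h => by
    rcases eq_pinf_or_pt x with rfl | ⟨x, rfl⟩
    · exact ht (by simpa [coe_loT] using (sl_smul_pinf_eq_pinf _).1 h.2)
    · exact hs (by simpa [coe_upT] using (sl_smul_pt_eq_pt _ _ _).1 h.1)
  have h5 : Even (Nat.card (X.map π)) := by
    have h6 : ∀ (L : Subfield F), (2 : L) ≠ 0 := fun L h => h2 (congrArg Subtype.val h)
    rcases dickson_psl p (X.map π) with ⟨x, hx⟩ | ⟨h, -⟩ | ⟨k, -, ⟨e⟩⟩ | ⟨-, h⟩ | ⟨-, ⟨e⟩⟩ | h |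
      ⟨L, m, -, -, -, ⟨⟨e⟩⟩ | ⟨⟨e⟩⟩⟩
    · exact (h4 x ⟨hx (mem_map_of_mem π h1), hx (mem_map_of_mem π h3)⟩).elim
    · have h7 : π (upT s * loT t) = π (loT t * upT s) := by
        rw [map_mul, map_mul]
        exact congrArg Subtype.val (h.commGroup.mul_comm ⟨_, mem_map_of_mem π h1⟩ ⟨_, mem_map_of_mem π h3⟩)
      rcases psl_mk_eq_iff.1 h7 with h8 | h8
      · have h9 := congrArg (fun g : SL(2, F) => g.1 0 0) h8
        simp [coe_upT, coe_loT, hs, ht] at h9
      · have h9 := congrArg (fun g : SL(2, F) => g.1 0 1) h8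
        simp [coe_upT, coe_loT] at h9
        exact (hs (mul_left_cancel₀ h2 (by linear_combination h9))).elim
    · rw [Nat.card_congr e.toEquiv, DihedralGroup.nat_card]
      exact even_two_mul k
    · rcases card_cases_of_small h with h | h | h <;> rw [h] <;> decide
    · rw [Nat.card_congr e.toEquiv, card_alt_five]
      decide
    · rw [h, card_top]
      exact even_card_psl F h2
    · rw [Nat.card_congr e.toEquiv]
      exact even_card_psl L (h6 L)
    · rw [Nat.card_congr e.toEquiv]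
      exact even_iff_two_dvd.2 ((even_iff_two_dvd.1 (even_card_psl L (h6 L))).trans
        (card_dvd_of_injective _ ProjectiveSpecialLinearGroup.toPGL_injective))
  obtain ⟨⟨_, y, hy, rfl⟩, h6⟩ := exists_prime_orderOf_dvd_card' 2 (even_iff_two_dvd.1 h5)
  rw [← orderOf_coe, orderOf_eq_prime_iff] at h6
  refine ⟨y, hy, ?_⟩
  rcases psl_pow_eq_one_iff.1 h6.1 with h | h
  · exact (h6.2 (psl_mk_eq_one_iff.2 (sl_eq_of_mul_self h2 (pow_two y ▸ h)))).elim
  · rwa [← pow_two]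

/-- The plane. -/
abbrev U2 (F : Type*) := Fin 2 → F

/-- The natural representation of `SL₂`. -/
noncomputable abbrev sig (F : Type*) [Field F] : SL(2, F) →* (U2 F ≃ₗ[F] U2 F) := SpecialLinearGroup.toLin'

theorem sig_apply (y : SL(2, F)) (u : U2 F) : sig F y u = (y : M2 F) *ᵥ u := rfl

theorem sig_injective : Function.Injective (sig F) := SpecialLinearGroup.toLin'_injective

theorem sig_eq_rho (y : SL(2, F)) : sig F y = rho F y.toGL := rfl

theorem sig_neg (y : SL(2, F)) (u : U2 F) : sig F (-y) u = -sig F y u := by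
  rw [sig_apply, sig_apply, SpecialLinearGroup.coe_neg, neg_mulVec]

theorem sig_neg_one : sig F (-1) = LinearEquiv.neg F := LinearEquiv.ext fun u => by rw [sig_neg, map_one]; rfl

theorem sig_sq {a : SL(2, F)} (ha : a * a = -1) (u : U2 F) : sig F a (sig F a u) = -u := rho_sq ha u

theorem sig_slConj (t : GL2 F) (y : SL(2, F)) : sig F (slConj t y) = rho F t * sig F y * (rho F t)⁻¹ := by
  rw [sig_eq_rho, toGL_slConj, map_mul, map_mul, map_inv, sig_eq_rho]

theorem det_mulVec (m : M2 F) (u v : U2 F) : detForm F (m *ᵥ u) (m *ᵥ v) = m.det * detForm F u v := by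
  simp only [detForm_apply, mulVec, dotProduct, Fin.sum_univ_two, det_fin_two]
  ring

theorem det_sig (y : SL(2, F)) (u v : U2 F) : detForm F (sig F y u) (sig F y v) = detForm F u v := by
  rw [sig_apply, sig_apply, det_mulVec, y.2, one_mul]

theorem det_ext {u v : U2 F} (h : ∀ w, detForm F w u = detForm F w v) : u = v := by
  funext i
  fin_cases i
  · simpa [detForm_apply] using h ![0, 1]
  · simpa [detForm_apply] using h ![1, 0]

theorem det_alt (u v : U2 F) : detForm F u v = -detForm F v u := by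
  simp only [detForm_apply]
  ring

theorem det_self (u : U2 F) : detForm F u u = 0 := by
  simp only [detForm_apply]
  ring

theorem exists_det_eq (m : U2 F →ₗ[F] U2 F) : ∃ c, ∀ u v, detForm F (m u) (m v) = c * detForm F u v :=
  ⟨_, fun u v => by simpa using det_mulVec (LinearMap.toMatrix' m) u v⟩

theorem exists_sig_eq {t : U2 F ≃ₗ[F] U2 F} (h : ∀ u v, detForm F (t u) (t v) = detForm F u v) :
    ∃ y, sig F y = t := by
  obtain ⟨t, rfl⟩ := (CL.Cls.glEquiv (Fin 2) F).surjective t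
  have := (det_mulVec (t : M2 F) ![1, 0] ![0, 1]).symm.trans (h _ _)
  exact ⟨mkSL t (by simpa [detForm_apply] using this), LinearEquiv.ext fun _ => rfl⟩

theorem exists_of_nilpotent {n : M2 F} (h1 : n.trace = 0) (h2 : n.det = 0) :
    ∃ w c, ∀ u, n *ᵥ u = (c * detForm F w u) • w := by
  rw [trace_fin_two] at h1
  rw [det_fin_two] at h2
  by_cases h : n 0 1 = 0
  · have h3 : n 0 0 = 0 := mul_self_eq_zero.1 (by linear_combination n 0 0 * h1 - h2 - n 1 0 * h)
    refine ⟨![0, 1], -n 1 0, fun u => funext fun i => ?_⟩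
    have h4 : n 1 1 = 0 := by rwa [h3, zero_add] at h1
    fin_cases i <;> simp [mulVec, dotProduct, detForm_apply, h, h3, h4]
  · refine ⟨![n 0 1, -n 0 0], (n 0 1)⁻¹, fun u => funext fun i => ?_⟩
    fin_cases i <;> simp only [mulVec, dotProduct, detForm_apply, Fin.sum_univ_two] <;> simp <;> field_simp
    · ring
    · linear_combination (-u 0) * h2 + (n 0 0 * u 0 + n 0 1 * u 1) * h1

theorem QPair.exists_det_ne_zero (h2 : (2 : F) ≠ 0) {a b : SL(2, F)} (h : QPair a b) {u : U2 F} (hu : u ≠ 0) :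
    detForm F u (sig F a u) ≠ 0 ∨ detForm F u (sig F b u) ≠ 0 := by
  by_contra h1
  simp only [not_or, not_not] at h1
  have key : ∀ y : SL(2, F), detForm F u (sig F y u) = 0 → y • Projectivization.mk F u hu = .mk F u hu :=
    fun y hy => by
      rw [sl_smul, gl_smul_mk_eq_mk_iff]
      simp only [detForm_apply, sig_apply, mulVec, dotProduct, Fin.sum_univ_two] at hy
      change (y.1 0 0 * u 0 + y.1 0 1 * u 1) * u 1 = (y.1 1 0 * u 0 + y.1 1 1 * u 1) * u 0
      linear_combination -hy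
  exact QPair.not_fix h2 h (key a h1.1) (key b h1.2)

variable {V : Type*} [AddCommGroup V] [Module F V] {B : LinearMap.BilinForm F V}

/-- A frame given by a hyperbolic plane and its orthogonal complement. -/
def IsSF (B : LinearMap.BilinForm F V) (f : Frame F (U2 F) V) : Prop := ∀ u v, B (f.ψ u) v = detForm F u (f.φ v)

/-- The frame of a hyperbolic pair. -/
def pairFrame (hB : B.IsAlt) {e e' : V} (h : B e e' = 1) : Frame F (U2 F) V where
  ψ := (LinearMap.proj 0 : U2 F →ₗ[F] F).smulRight e + (LinearMap.proj 1 : U2 F →ₗ[F] F).smulRight e'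
  φ := LinearMap.pi ![B.flip e', B e]
  φψ u := funext fun i => by fin_cases i <;> simp [h, alt_self hB]

theorem pairFrame_ψ (hB : B.IsAlt) {e e' : V} (h : B e e' = 1) (u : U2 F) :
    (pairFrame hB h).ψ u = u 0 • e + u 1 • e' := rfl

theorem pairFrame_φ (hB : B.IsAlt) {e e' : V} (h : B e e' = 1) (v : V) :
    (pairFrame hB h).φ v = ![B v e', B e v] := funext fun i => by fin_cases i <;> rfl

theorem isSF_pairFrame (hB : B.IsAlt) {e e' : V} (h : B e e' = 1) : IsSF B (pairFrame hB h) := fun u v => by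
  simp [pairFrame_ψ, pairFrame_φ, detForm_apply, alt_neg hB e' v, sub_eq_add_neg]

theorem pairFrame_upT (hB : B.IsAlt) {e e' : V} (h : B e e' = 1) (c : F) :
    (pairFrame hB h).kap (sig F (upT c)) = tv hB e (-c) := LinearEquiv.ext fun v => by
  simp only [Frame.kap_apply, tv_apply, pairFrame_ψ, sig_apply, coe_upT, Pi.sub_apply, mulVec, dotProduct,
    Fin.sum_univ_two]
  simp [pairFrame_φ, alt_neg hB v e]

theorem pairFrame_loT (hB : B.IsAlt) {e e' : V} (h : B e e' = 1) (c : F) :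
    (pairFrame hB h).kap (sig F (loT c)) = tv hB e' c := LinearEquiv.ext fun v => by
  simp only [Frame.kap_apply, tv_apply, pairFrame_ψ, sig_apply, coe_loT, Pi.sub_apply, mulVec, dotProduct,
    Fin.sum_univ_two]
  simp [pairFrame_φ]

namespace IsSF

variable {f f' : Frame F (U2 F) V} (h : IsSF B f)
include h

theorem map {g : V ≃ₗ[F] V} (hg : g ∈ Isom B) : IsSF B (f.map g) := fun u v => by
  rw [Frame.map_ψ, Frame.map_φ, isom_left hg, h]

theorem right (hB : B.IsAlt) (u : U2 F) (v : V) : B v (f.ψ u) = detForm F (f.φ v) u := by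
  rw [alt_neg hB, h, ← det_alt]

theorem kap_mem (hB : B.IsAlt) (y : SL(2, F)) : f.kap (sig F y) ∈ Isom B := fun v v' => by
  simp only [Frame.kap_apply, map_add, LinearMap.add_apply, h.right hB, h _, f.φψ, map_sub, LinearMap.sub_apply,
    det_sig]
  ring

theorem z_mem (hB : B.IsAlt) : f.z ∈ Isom B := by
  rw [Frame.z, ← sig_neg_one]
  exact h.kap_mem hB _

theorem adj (hB : B.IsAlt) (h' : IsSF B f') (u v : U2 F) :
    detForm F u (f.φ (f'.ψ v)) = detForm F (f'.φ (f.ψ u)) v := by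
  rw [← h, h'.right hB]

theorem exists_c (hB : B.IsAlt) (h' : IsSF B f') : ∃ c : F, (∀ u, f.φ (f'.ψ (f'.φ (f.ψ u))) = c • u) ∧
    ∀ u, f'.φ (f.ψ (f.φ (f'.ψ u))) = c • u := by
  obtain ⟨c, hc⟩ := exists_det_eq (f.φ ∘ₗ f'.ψ)
  have h1 : ∀ u, f'.φ (f.ψ (f.φ (f'.ψ u))) = c • u := fun u => det_ext fun w => by
    rw [h'.adj hB h, map_smul, smul_eq_mul]
    exact hc w u
  obtain ⟨c', hc'⟩ := exists_det_eq (f'.φ ∘ₗ f.ψ)
  have h3 : ∀ u, f.φ (f'.ψ (f'.φ (f.ψ u))) = c' • u := fun u => det_ext fun w => by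
    rw [h.adj hB h', map_smul, smul_eq_mul]
    exact hc' w u
  have h4 := LinearMap.trace_comp_comm' (f.φ ∘ₗ f'.ψ) (f'.φ ∘ₗ f.ψ)
  rw [show (f'.φ ∘ₗ f.ψ) ∘ₗ (f.φ ∘ₗ f'.ψ) = c • LinearMap.id from LinearMap.ext h1,
    show (f.φ ∘ₗ f'.ψ) ∘ₗ (f'.φ ∘ₗ f.ψ) = c' • LinearMap.id from LinearMap.ext h3] at h4
  by_cases h5 : f.φ ∘ₗ f'.ψ = 0
  · have h6 : ∀ u, f.φ (f'.ψ u) = 0 := LinearMap.congr_fun h5
    exact ⟨0, fun u => by rw [h6, zero_smul], fun u => by rw [h6, zero_smul, map_zero, map_zero]⟩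
  obtain ⟨u, hu⟩ := DFunLike.ne_iff.1 h5
  have h6 := h3 (f.φ (f'.ψ u))
  rw [h1, map_smul, map_smul] at h6
  exact ⟨c, smul_left_injective F hu h6 ▸ h3, h1⟩

theorem comm (hB : B.IsAlt) (h' : IsSF B f') (h0 : ∀ u, f.φ (f'.ψ u) = 0) (u : U2 F) : f'.φ (f.ψ u) = 0 :=
  det_ext fun w => by rw [h'.adj hB h, h0]; simp

theorem z_eq_of_π (hB : B.IsAlt) (h' : IsSF B f') (h0 : ∀ u, f.π (f'.ψ u) = f'.ψ u) : f'.z = f.z := by
  obtain ⟨c, h1, h2⟩ := h.exists_c hB h'
  have h3 : c = 1 := by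
    have := h2 ![1, 0]
    rw [← Frame.π, h0, f'.φψ] at this
    simpa using (congrFun this 0).symm
  have h4 : ∀ v, f'.φ v = f'.φ (f.π v) := fun v => det_ext fun w => by
    rw [← h', ← h0, Frame.π, h, Frame.π, h'.adj hB h]
  refine LinearEquiv.ext fun v => ?_
  rw [Frame.z_apply, Frame.z_apply, Frame.π, h4, ← h0, Frame.π, Frame.π, h1, h3, one_smul]

theorem exists_kap_eq (hB : B.IsAlt) {g : V ≃ₗ[F] V} (hg : g ∈ Isom B) (hN : B.Nondegenerate)
    (h0 : ∀ v, f.φ v = 0 → g v = v) : ∃ y, g = f.kap (sig F y) := by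
  have h1 : ∀ v, f.φ (v - f.π v) = 0 := fun v => by rw [map_sub, Frame.π, f.φψ, sub_self]
  have h2 : ∀ u, f.π (g (f.ψ u)) = g (f.ψ u) := fun u => by
    rw [eq_comm, ← sub_eq_zero]
    refine hN.1 _ fun v => ?_
    have h3 : B (g (f.ψ u) - f.π (g (f.ψ u))) (f.π v) = 0 := by
      rw [show f.π v = f.ψ (f.φ v) from rfl, h.right hB, h1]
      simp
    have h4 : B (g (f.ψ u)) (v - f.π v) = 0 := by
      rw [← h0 _ (h1 v), hg, h, h1, map_zero]
    have h5 : B (f.π (g (f.ψ u))) (v - f.π v) = 0 := by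
      rw [show f.π (g (f.ψ u)) = f.ψ (f.φ (g (f.ψ u))) from rfl, h, h1, map_zero]
    rw [← add_sub_cancel (f.π v) v, map_add, h3, map_sub B, LinearMap.sub_apply, h4, h5]
    simp
  obtain ⟨t, ht⟩ : ∃ t : U2 F ≃ₗ[F] U2 F, ∀ u, t u = f.φ (g (f.ψ u)) :=
    ⟨LinearEquiv.ofInjectiveEndo (f.φ ∘ₗ (g : V →ₗ[F] V) ∘ₗ f.ψ) ((injective_iff_map_eq_zero _).2 fun u hu => by
      have h3 : f.φ (g (f.ψ u)) = 0 := hu
      have := h2 u
      rwa [Frame.π, h3, map_zero, eq_comm, g.map_eq_zero_iff, ← map_zero f.ψ, f.ψ_injective.eq_iff] at this),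
      fun _ => rfl⟩
  obtain ⟨y, rfl⟩ := exists_sig_eq (t := t) fun u v => by
    rw [ht v, ← h, ht, ← Frame.π, h2, hg, h, f.φψ]
  refine ⟨y, LinearEquiv.ext fun v => ?_⟩
  rw [Frame.kap_apply, map_sub, ht, ← Frame.π, h2, ← add_sub_cancel (f.π v) v, map_add, h0 _ (h1 v)]
  simp only [Frame.π, add_sub_cancel]
  abel

theorem kap_eq_tv (hB : B.IsAlt) {y : SL(2, F)} {u : U2 F} (hu : u ≠ 0) (hy : sig F y u = u) :
    ∃ w c, f.kap (sig F y) = tv hB w c := by
  have h1 : ((y : M2 F) - 1).det = 0 := exists_mulVec_eq_zero_iff.1 ⟨u, hu, by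
    rw [sub_mulVec, ← sig_apply, hy, one_mulVec, sub_self]⟩
  obtain ⟨w, c, hw⟩ := exists_of_nilpotent (n := (y : M2 F) - 1) (by
    have := sl_det y
    simp only [det_fin_two, trace_fin_two, Matrix.sub_apply, one_apply_eq, ne_eq, zero_ne_one, not_false_eq_true,
      one_apply_ne, one_ne_zero] at h1 ⊢
    linear_combination this - h1) h1
  refine ⟨f.ψ w, -c, LinearEquiv.ext fun v => ?_⟩
  have h3 := hw (f.φ v)
  rw [sub_mulVec, one_mulVec] at h3
  rw [Frame.kap_apply, tv_apply, sig_apply, h3, map_smul, h.right hB, det_alt w]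
  simp

end IsSF

end CL.Pron
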