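/-
Subgroups of a symplectic group whose long root quaternion subgroups are controlled by a Sylow 2-subgroup: the planes
of these subgroups are equal or orthogonal.
-/
import Cfsg.Agent.Cls.Pron5
import Cfsg.Agent.Inv.ZStar
import Cfsg.Agent.Inv.BaerSuzuki
import Cfsg.Agent.Grp.PNilp
import Cfsg.Agent.Grp.Coprime2

set_option autoImplicit false
set_option linter.unusedSectionVars false

open Subgroup CL.Grp CL.Wr CL.GL2 CL.SL2 CL.Sp Module Matrix Cfsg
open scoped Pointwise MatrixGroups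

namespace CL.Pron

theorem exists_odd_pair {G : Type*} [Group G] [Finite G] {N A : Subgroup G} (hN : N ≤ center G)
    (hN2 : ∀ n ∈ N, n * n = 1) {z : G} (hz : z * z = 1) (hzN : z ∉ N)
    (hi : ∀ g, (z * (g * z * g⁻¹)) ^ 2 ^ 2 = 1 → z * (g * z * g⁻¹) ∈ N) (hA : IsPGroup 2 A) (hzA : z ∈ A) {g : G}
    (ho : Odd (orderOf (z * (g * z * g⁻¹)))) (h1 : z * (g * z * g⁻¹) ≠ 1) :
    ∃ R : Subgroup G, Odd (Nat.card R) ∧ A ≤ normalizer (R : Set G) ∧ (∃ r ∈ R, ¬ Commute z r) ∧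
      ∃ y ∈ R, y ≠ 1 ∧ (∀ r ∈ R, Commute y r) ∧ (Commute z y ∨ z * y * z = y⁻¹) := by
  have : N.Normal := ⟨fun n hn g => by rwa [mem_center_iff.1 (hN hn), mul_inv_cancel_right]⟩
  let π := QuotientGroup.mk' N
  have hz' : z⁻¹ = z := inv_eq_of_mul_eq_one_right hz
  have h2 : π z * π z = 1 := by rw [← map_mul, hz, map_one]
  have h3 : IsIsolatedInvolution (π z) := by
    refine ⟨orderOf_eq_prime (by rwa [pow_two]) fun h => hzN ((QuotientGroup.eq_one_iff z).1 h), fun g h => ?_⟩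
    obtain ⟨g, rfl⟩ := QuotientGroup.mk'_surjective N g
    have h4 : π ((z * (g * z * g⁻¹)) ^ 2) = 1 := by
      simp only [map_pow, map_mul, map_inv]
      rw [h.mul_pow, conj_pow, pow_two, h2, mul_one, mul_inv_cancel, mul_one]
    have h5 := (QuotientGroup.eq_one_iff _).2 (hi g (by
      rw [pow_two 2, pow_mul, pow_two]; exact hN2 _ ((QuotientGroup.eq_one_iff _).1 h4)))
    exact mul_left_cancel (a := π z) (h5.trans h2.symm)
  let M := (oddCore (G ⧸ N)).comap π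
  have h4 : HasNormalPComplement 2 M := hasNormalPComplement_of_ker_le_center (π.subgroupComap (oddCore _))
    (fun x hx => mem_center_iff.2 fun y => Subtype.ext (mem_center_iff.1 (hN ((QuotientGroup.eq_one_iff _).1
      (congrArg Subtype.val hx))) y)) (hasNormalPComplement_of_coprime (Nat.coprime_two_right.2 Inv.odd_card_oddCore))
  let O := (pResidual 2 M).map M.subtype
  have h5 : Odd (Nat.card O) := by
    rw [card_map_of_injective M.subtype_injective]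
    exact Nat.coprime_two_right.1 (hasNormalPComplement_iff_coprime_pResidual.1 h4)
  have h6 : z * (g * z * g⁻¹) ∈ O := ⟨⟨z * (g * z * g⁻¹), by
      simpa [M, inv_eq_of_mul_eq_one_right h2, mul_assoc] using Inv.zstar_mem_oddCore h3 (π g)⟩,
    mem_pResidual_of_coprime (by rw [← orderOf_coe]; exact Nat.coprime_two_right.2 ho), rfl⟩
  have h7 : ¬ O ≤ centralizer {z} := fun h => by
    have h8 : z * (z * (g * z * g⁻¹)) = z * (g * z * g⁻¹) * z := mem_centralizer_iff.1 (h h6) z rfl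
    refine h1 (orderOf_eq_one_iff.1 ((Nat.coprime_two_right.2 ho).eq_one_of_dvd (orderOf_dvd_of_pow_eq_one ?_)))
    rw [pow_two, ← mul_assoc, ← h8, ← mul_assoc z, hz, one_mul, conj_mul, hz, mul_one, mul_inv_cancel]
  obtain ⟨p, hp, R, hR, hAR, hR'⟩ : ∃ p : ℕ, p.Prime ∧ ∃ R, IsSylowIn p R O ∧ A ≤ normalizer (R : Set G) ∧
      ¬ R ≤ centralizer {z} := by
    by_contra h
    refine h7 (le_of_forall_exists_isSylowIn_le fun p hp _ => ?_)
    have := Fact.mk hp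
    obtain ⟨k, hk⟩ := IsPGroup.iff_card.1 hA
    have := hA.isNilpotent
    obtain ⟨R, h1, h2⟩ := exists_isSylowIn_le_normalizer p (A := A) (K := O) le_normalizer_of_normal
      (hk ▸ (Nat.coprime_two_left.2 h5).pow_left k) (.inl inferInstance)
    exact ⟨R, h1, by_contra fun h3 => h ⟨p, hp, R, h1, h2, h3⟩⟩
  have := Fact.mk hp
  obtain ⟨r, hr, hr'⟩ := SetLike.not_le_iff_exists.1 hR'
  have : Nontrivial R := ⟨⟨r, hr⟩, 1, fun h => hr' (by rw [show r = 1 from congrArg Subtype.val h]; exact one_mem _)⟩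
  obtain ⟨⟨⟨y, hy⟩, hy'⟩, hy1⟩ := @exists_ne _ hR.isPGroup.center_nontrivial 1
  have h8 : ∀ r ∈ R, Commute y r := fun r hr => (congrArg Subtype.val (mem_center_iff.1 hy' ⟨r, hr⟩)).symm
  have h9 : ∀ r ∈ R, z * r * z ∈ R := fun r hr => by simpa [hz'] using (mem_normalizer_iff.1 (hAR hzA) r).1 hr
  refine ⟨R, h5.of_dvd_nat (card_dvd_of_le hR.le), hAR, ⟨r, hr, fun h => hr' (mem_centralizer_iff.2 ?_)⟩, ?_⟩
  · rintro _ rfl
    exact h
  by_cases h : Commute z y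
  · exact ⟨y, hy, fun e => hy1 (Subtype.ext (Subtype.ext e)), h8, .inl h⟩
  refine ⟨y⁻¹ * (z * y * z), mul_mem (inv_mem hy) (h9 y hy), fun e => h ?_, fun r hr => (h8 r hr).inv_left.mul_left ?_,
    .inr ?_⟩
  · rw [inv_mul_eq_one] at e
    rw [Commute, SemiconjBy, ← mul_left_inj z, ← e, mul_assoc, hz, mul_one]
  · have := congrArg (fun x => z * x * z) (h8 _ (h9 r hr)).eq
    simpa [Commute, SemiconjBy, mul_assoc, hz, ← mul_assoc z z] using this
  · simp [mul_assoc, hz, hz']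

theorem eq_zero_of_odd {F V : Type*} [Field F] [AddCommGroup V] [Module F V] (h2 : (2 : F) ≠ 0) {y : V ≃ₗ[F] V}
    (ho : Odd (orderOf y)) {w : V} (h : y w = -w) : w = 0 := by
  have h1 : ∀ n, (y ^ n) w = (-1 : F) ^ n • w := fun n => by
    induction n with
    | zero => simp
    | succ n ih => rw [pow_succ', LinearEquiv.mul_apply, ih, map_smul, h, pow_succ, mul_smul, neg_one_smul]
  have h3 := h1 (orderOf y)
  rw [pow_orderOf_eq_one, ho.neg_one_pow, neg_one_smul, LinearEquiv.coe_one, id, ← add_eq_zero_iff_eq_neg,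
    ← two_smul F] at h3
  exact (smul_eq_zero.1 h3).resolve_left h2

theorem exists_conj_of_odd {G : Type*} [Group G] {z y : G} (hz : z * z = 1) (h : z * y * z = y⁻¹)
    (ho : Odd (orderOf y)) : ∃ g ∈ zpowers y, y = z * (g * z * g⁻¹) := by
  obtain ⟨n, hn⟩ := ho
  have h1 : z * y ^ (n + 1) * z = (y ^ (n + 1))⁻¹ := by
    have := conj_pow (a := z) (b := y) (i := n + 1)
    rw [inv_eq_of_mul_eq_one_right hz] at this
    rw [← inv_pow, ← h, this]
  refine ⟨(y ^ (n + 1))⁻¹, inv_mem (npow_mem_zpowers y _), ?_⟩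
  rw [inv_inv, ← h1, ← mul_assoc, ← mul_assoc, ← mul_assoc, ← mul_assoc, hz, mul_assoc _ z z, hz, one_mul, mul_one,
    ← pow_add, show n + 1 + (n + 1) = 2 * n + 1 + 1 by ring, ← hn, pow_succ, pow_orderOf_eq_one, one_mul]

theorem upT_zero' {F : Type*} [Field F] : upT (0 : F) = 1 := by
  simp

theorem upT_pow {F : Type*} [Field F] (c : F) (n : ℕ) : upT c ^ n = upT (n * c) := by
  induction n with
  | zero => simp
  | succ n ih => rw [pow_succ, ih, ← SpecialLinearGroup.transvection_add, Nat.cast_succ, add_one_mul]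

variable {F V : Type*} [Field F] [AddCommGroup V] [Module F V] {B : LinearMap.BilinForm F V}
  {H : Subgroup (V ≃ₗ[F] V)} {f f' : Frame F (U2 F) V}

/-- The part of `H` in the root `SL₂` of a frame. -/
noncomputable def loc (H : Subgroup (V ≃ₗ[F] V)) (f : Frame F (U2 F) V) : Subgroup SL(2, F) :=
  H.comap (f.kap.comp (sig F))

theorem mem_loc {y : SL(2, F)} : y ∈ loc H f ↔ f.kap (sig F y) ∈ H := Iff.rfl

theorem loc_map {g : V ≃ₗ[F] V} (hg : g ∈ normalizer (H : Set (V ≃ₗ[F] V))) : loc H (f.map g) = loc H f :=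
  Subgroup.ext fun y => by rw [mem_loc, mem_loc, Frame.kap_map, ← mem_normalizer_iff.1 hg]

/-- A symplectic frame whose root `SL₂` meets `H` in an element of order 4. -/
def IsDF (B : LinearMap.BilinForm F V) (H : Subgroup (V ≃ₗ[F] V)) (f : Frame F (U2 F) V) : Prop :=
  IsSF B f ∧ ∃ y ∈ loc H f, y * y = -1

theorem IsDF.map (h : IsDF B H f) {g : V ≃ₗ[F] V} (hg : g ∈ Isom B) (hg' : g ∈ normalizer (H : Set (V ≃ₗ[F] V))) :
    IsDF B H (f.map g) := ⟨h.1.map hg, loc_map (f := f) hg' ▸ h.2⟩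

theorem IsDF.z_mem (h : IsDF B H f) : f.z ∈ H := by
  obtain ⟨y, h1, h2⟩ := h.2
  rw [← f.kap_mul_self (sig_sq h2)]
  exact mul_mem h1 h1

theorem π_eq (f : Frame F (U2 F) V) (v : V) : f.π v = f.ψ (f.φ v) := rfl

theorem IsSF.exists_of_z_eq (h2 : (2 : F) ≠ 0) (h : IsSF B f) (h' : IsSF B f') (e : f.z = f'.z) :
    ∃ t : SL(2, F), (∀ u, f.ψ u = f'.ψ (sig F t u)) ∧ ∀ y, f.kap (sig F y) = f'.kap (sig F (t * y * t⁻¹)) := by
  obtain ⟨t, h1, h3⟩ := Frame.exists_of_z_eq h2 e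
  obtain ⟨t, rfl⟩ := exists_sig_eq (t := t) fun u v => by rw [← f'.φψ (t v), ← h', ← h1, ← h1, h, f.φψ]
  exact ⟨t, h1, fun y => by rw [h3, ← map_inv, ← map_mul, ← map_mul]⟩

theorem ne_zero_of_odd (h2 : (2 : F) ≠ 0) (ho : Odd (orderOf (f.z * f'.z))) {c : F}
    (h1 : ∀ u, f.φ (f'.ψ (f'.φ (f.ψ u))) = c • u) : c ≠ 0 := by
  rintro rfl
  have h3 : ∀ u, f'.ψ (f'.φ (f.ψ u)) = 0 := fun u => eq_zero_of_odd h2 ho (by
    simp [LinearEquiv.mul_apply, f'.z_ψ, f.z_apply, Frame.π, h1])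
  have h4 : f.ψ ![1, 0] = f.ψ 0 := (eq_zero_of_odd h2 ho (by
    rw [LinearEquiv.mul_apply, f'.z_apply, Frame.π, h3, smul_zero, sub_zero, f.z_ψ])).trans (map_zero _).symm
  simpa using congrFun (f.ψ_injective h4) 0

theorem eq_of_commute (h2 : (2 : F) ≠ 0) {c : F} (h1 : ∀ u, f.φ (f'.ψ (f'.φ (f.ψ u))) = c • u)
    {a : SL(2, F)} (ha : a * a = -1)
    (h : Commute (f.z * f'.z) (f.kap (sig F a) * (f.z * f'.z) * (f.kap (sig F a))⁻¹)) : c = 0 ∨ c = 1 := by
  have h3 := congrArg (fun g : V ≃ₗ[F] V => sig F a (f.φ (g (f.ψ ![1, 0])))) h.eq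
  rw [← map_inv, ← map_inv, show a⁻¹ = -a from inv_eq_of_mul_eq_one_right (by rw [mul_neg, ha, neg_neg])] at h3
  simp only [LinearEquiv.mul_apply, Frame.kap_apply, Frame.z_apply, Frame.π, map_add, map_sub, map_smul, map_neg,
    f.φψ, f'.φψ, h1, sig_neg, sig_sq ha] at h3
  have h4 : (2 ^ 3 * (c * (c - 1))) • (![1, 0] : U2 F) = 0 := by linear_combination (norm := module) h3
  simpa [h2, sub_eq_zero] using congrFun h4 0

/-- The hypotheses of the plane theorem. -/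
structure PH (B : LinearMap.BilinForm F V) (H : Subgroup (V ≃ₗ[F] V)) : Prop where
  alt : B.IsAlt
  nd : B.Nondegenerate
  le : H ≤ Isom B
  two : ∀ f, IsDF B H f → IsPGroup 2 (loc H f) ∧ ∃ a ∈ loc H f, ∃ b ∈ loc H f, QPair a b
  fus : ∀ f f', IsDF B H f → IsDF B H f' → (∃ k, (f.z * f'.z) ^ 2 ^ k = 1) → f.z = f'.z ∨ ∀ u, f.φ (f'.ψ u) = 0
  cov : ∀ v ≠ 0, ∃ f, IsDF B H f ∧ f.φ v ≠ 0

variable [Fintype F] (hodd : Odd (Fintype.card F)) (h : PH B H)
include hodd h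

theorem PH.no_tv {v : V} {c : F} (hv : tv h.alt v c ∈ H) : v = 0 ∨ c = 0 := by
  by_contra h0
  obtain ⟨hv0, hc⟩ := not_or.1 h0
  have h2 := two_ne_zero_of_odd hodd
  obtain ⟨f, hf, h1⟩ := h.cov v hv0
  obtain ⟨a, ha, hβ⟩ : ∃ a ∈ loc H f, detForm F (f.φ v) (sig F a (f.φ v)) ≠ 0 := by
    obtain ⟨-, a, ha, b, hb, hab⟩ := h.two f hf
    exact (QPair.exists_det_ne_zero h2 hab h1).elim (⟨a, ha, ·⟩) (⟨b, hb, ·⟩)
  set β := detForm F (f.φ v) (sig F a (f.φ v)) with hβ'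
  have h3 : B v (β⁻¹ • f.kap (sig F a) v) = 1 := by
    rw [map_smul, Frame.kap_apply, map_add, alt_self h.alt, hf.1.right h.alt, map_sub, det_self, ← hβ']
    simp [hβ]
  have h4 : upT (-c) ∈ loc H (pairFrame h.alt h3) := by rwa [mem_loc, pairFrame_upT, neg_neg]
  have h5 : loT (β ^ 2 * c) ∈ loc H (pairFrame h.alt h3) := by
    rw [mem_loc, pairFrame_loT, tv_smul, ← mul_assoc, ← mul_pow, inv_mul_cancel₀ hβ, one_pow, one_mul,
      ← conj_tv h.alt (h.le (mem_loc.1 ha))]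
    exact mul_mem (mul_mem ha hv) (inv_mem ha)
  have h6 := (h.two _ ⟨isSF_pairFrame h.alt h3, exists_mul_self_eq_neg_one hodd (neg_ne_zero.2 hc)
    (mul_ne_zero (pow_ne_zero 2 hβ) hc) h4 h5⟩).1
  have h7 := congrArg (fun g : SL(2, F) => g.1 0 1) (eq_one_of_odd h6 h4 hodd (by
    rw [upT_pow, FiniteField.cast_card_eq_zero, zero_mul, upT_zero']))
  simp [coe_upT, hc] at h7

theorem PH.eq_of_one (hf : IsDF B H f) (hf' : IsDF B H f') (h1 : ∀ u, f.φ (f'.ψ (f'.φ (f.ψ u))) = u)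
    (h3 : ∀ u, f'.φ (f.ψ (f.φ (f'.ψ u))) = u) : f'.z = f.z := by
  have h2 := two_ne_zero_of_odd hodd
  obtain ⟨A, hA⟩ : ∃ A : U2 F →ₗ[F] V, ∀ u, A u = f'.ψ (f'.φ (f.ψ u)) - f.ψ u :=
    ⟨f'.ψ ∘ₗ f'.φ ∘ₗ f.ψ - f.ψ, fun _ => rfl⟩
  obtain ⟨A', hA'⟩ : ∃ A' : V →ₗ[F] U2 F, ∀ v, A' v = f.φ (f'.ψ (f'.φ v)) - f.φ v :=
    ⟨f.φ ∘ₗ f'.ψ ∘ₗ f'.φ - f.φ, fun _ => rfl⟩
  have e1 : ∀ u, f.φ (A u) = 0 := fun u => by rw [hA, map_sub, h1, f.φψ, sub_self]
  have e2 : ∀ u, A' (f.ψ u) = 0 := fun u => by rw [hA', h1, f.φψ, sub_self]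
  have e3 : ∀ u, A' (A u) = 0 := fun u => by rw [hA', e1, hA, map_sub, f'.φψ, sub_self]; simp
  have e4 : ∀ u v, B v (A u) = detForm F (A' v) u := fun u v => by
    rw [hA, hA', map_sub, map_sub, LinearMap.sub_apply, hf.1.right h.alt, hf'.1.right h.alt, hf'.1.adj h.alt hf.1]
  have e5 : ∀ v, (f.z * f'.z) v = v + (2 : F) • f.ψ (A' v) - (2 : F) • A (f.φ v) - (2 : F) • A (A' v) := fun v => by
    simp only [LinearEquiv.mul_apply, Frame.z_apply, Frame.π, hA, hA', map_sub, map_smul, h3]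
    module
  have e6 : ∀ y ∈ loc H f, y * y = -1 → ∃ t ∈ H, ∀ v, t v = v + (-8 : F) • A (y.1 *ᵥ A' v) := fun y hy hy' => by
    have hz := mul_mem hf.z_mem hf'.z_mem
    have e7 : ∀ v, (f.kap (sig F y) * (f.z * f'.z) * (f.kap (sig F y))⁻¹) v =
        v + (2 : F) • f.ψ (sig F y (A' v)) + (2 : F) • A (sig F y (f.φ v)) - (2 : F) • A (A' v) := fun v => by
      obtain ⟨v, rfl⟩ := (f.kap (sig F y)).surjective v
      rw [LinearEquiv.mul_apply, inv_apply_apply, LinearEquiv.mul_apply, e5]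
      simp only [Frame.kap_apply, map_add, map_sub, map_smul, e1, e2, f.φψ, map_zero, sig_sq hy', map_neg]
      module
    set g := f.kap (sig F y) * (f.z * f'.z) * (f.kap (sig F y))⁻¹
    have hg : g ∈ H := mul_mem (mul_mem hy hz) (inv_mem hy)
    refine ⟨_, mul_mem (mul_mem hz hg) (inv_mem (mul_mem hg hz)), fun v => ?_⟩
    obtain ⟨v, rfl⟩ := (g * (f.z * f'.z)).surjective v
    rw [LinearEquiv.mul_apply, inv_apply_apply, LinearEquiv.mul_apply, LinearEquiv.mul_apply g, ← sig_apply]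
    simp only [e5, e7, map_add, map_sub, map_smul, e1, e2, e3, f.φψ, add_zero, smul_zero, sub_zero]
    module
  let T : AddSubmonoid (M2 F) :=
    { carrier := {n | ∃ t ∈ H, ∀ v, t v = v + (-8 : F) • A (n *ᵥ A' v)}
      zero_mem' := ⟨1, one_mem _, fun v => by simp⟩
      add_mem' := by
        rintro n n' ⟨t, ht, e⟩ ⟨t', ht', e'⟩
        refine ⟨_, mul_mem ht ht', fun v => ?_⟩
        simp only [LinearEquiv.mul_apply, e, e', map_add, map_smul, e3, add_mulVec, smul_zero, add_zero]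
        module }
  obtain ⟨p, _, -, hp, -⟩ := FiniteField.card' F
  have : NeZero p := ⟨hp.ne_zero⟩
  obtain ⟨α, β, hαβ⟩ := CharP.sq_add_sq F p (-1)
  have e7 : ∀ a ∈ loc H f, ∀ b ∈ loc H f, QPair a b → ∀ u, A (((α : F) • a.1 + (β : F) • b.1 + a.1 * b.1) *ᵥ u) = 0 :=
    fun a ha b hb hab u => by
      have h4 : (α : F) • a.1 + (β : F) • b.1 + a.1 * b.1 ∈ T := by
        rw [Nat.cast_smul_eq_nsmul, Nat.cast_smul_eq_nsmul]
        exact add_mem (add_mem (nsmul_mem (e6 a ha hab.1) α) (nsmul_mem (e6 b hb hab.2) β))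
          (e6 _ (mul_mem ha hb) hab.mul_right.2)
      have h5 : ((α : F) • a.1 + (β : F) • b.1 + a.1 * b.1) * ((α : F) • a.1 + (β : F) • b.1 + a.1 * b.1) = 0 := by
        have i1 : a.1 * a.1 = -1 := congrArg Subtype.val hab.1
        have i2 : b.1 * b.1 = -1 := congrArg Subtype.val hab.2
        have i3 : b.1 * a.1 = -(a.1 * b.1) := congrArg Subtype.val hab.3
        simp only [add_mul, mul_add, smul_mul_assoc, mul_smul_comm, mul_assoc, i1, i2, i3, ← mul_assoc a.1 a.1,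
          ← mul_assoc b.1 a.1, neg_mul, mul_neg, one_mul, mul_one, neg_neg]
        linear_combination (norm := module) hαβ • (-1 : M2 F)
      obtain ⟨w, c, hw⟩ := exists_of_nilpotent (isNilpotent_trace_of_isNilpotent ⟨2, (pow_two _).trans h5⟩).eq_zero
        (mul_self_eq_zero.1 (by rw [← det_mul, h5, det_zero]))
      obtain ⟨t, ht, e⟩ := h4
      have h6 : t = tv h.alt (A w) (8 * c) := LinearEquiv.ext fun v => by
        rw [e, hw, tv_apply, e4, map_smul, det_alt w, smul_smul]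
        congr 2
        ring
      rcases h.no_tv hodd (h6 ▸ ht) with h7 | h7
      · rw [hw, map_smul, h7, smul_zero]
      · rw [hw, (mul_eq_zero.1 h7).resolve_left (by rw [show (8 : F) = 2 ^ 3 by norm_num]; exact pow_ne_zero 3 h2)]
        simp
  obtain ⟨-, a, ha, b, hb, hab⟩ := h.two f hf
  have h4 : ∀ y ∈ loc H f, -y ∈ loc H f := fun y hy => by
    rw [← neg_one_mul, ← hab.1]
    exact mul_mem (mul_mem ha ha) hy
  have e8 : ∀ u, A u = 0 := fun u => by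
    obtain ⟨u, rfl⟩ := (sig F (a * b)).surjective u
    have h5 := congrArg₂ (· + ·) (e7 a ha b hb hab u) (e7 _ (h4 a ha) _ (h4 b hb) hab.neg_left.neg_right u)
    simp only [SpecialLinearGroup.coe_neg, add_mulVec, neg_mul_neg, smul_neg, neg_mulVec, map_add, map_neg] at h5
    refine (smul_eq_zero.1 ?_).resolve_left h2
    rw [sig_apply, coe_mul_SL]
    linear_combination (norm := module) h5
  refine hf.1.z_eq_of_π h.alt hf'.1 fun u => ?_
  have h5 := e8 (f.φ (f'.ψ u))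
  rwa [hA, h3, sub_eq_zero, eq_comm] at h5

theorem PH.c_ne (hf : IsDF B H f) (hf' : IsDF B H f') (ho : Odd (orderOf (f.z * f'.z))) (h0 : f.z * f'.z ≠ 1) :
    ∃ c : F, c ≠ 0 ∧ c ≠ 1 ∧ (∀ u, f.φ (f'.ψ (f'.φ (f.ψ u))) = c • u) ∧ ∀ u, f'.φ (f.ψ (f.φ (f'.ψ u))) = c • u := by
  obtain ⟨c, h1, h3⟩ := hf.1.exists_c h.alt hf'.1
  refine ⟨c, ne_zero_of_odd (two_ne_zero_of_odd hodd) ho h1, ?_, h1, h3⟩
  rintro rfl
  rw [h.eq_of_one hodd hf hf' (by simpa using h1) (by simpa using h3), f.z_mul_z] at h0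
  exact h0 rfl

theorem PH.false_of_odd [Finite H] (hf : IsDF B H f) (hf' : IsDF B H f') (ho : Odd (orderOf (f.z * f'.z)))
    (h0 : f.z * f'.z ≠ 1) : False := by
  have h2 := two_ne_zero_of_odd hodd
  obtain ⟨c, -, hc1, h1, h3⟩ := h.c_ne hodd hf hf' ho h0
  have hc := sub_ne_zero.2 hc1.symm
  have e0 : ∀ u v, B (f'.ψ u - f.π (f'.ψ u)) v = detForm F u (f'.φ (v - f.π v)) := fun u v => by
    rw [map_sub, LinearMap.sub_apply, hf'.1, Frame.π, hf.1, map_sub, map_sub, Frame.π, hf'.1.adj h.alt hf.1]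
  obtain ⟨f₁, hf₁, e1, e2⟩ : ∃ f₁, IsSF B f₁ ∧ (∀ u, f.φ (f₁.ψ u) = 0) ∧
      ∀ v, f.φ v = 0 → f₁.φ v = 0 → f'.φ v = 0 := by
    have e1 : B ((1 - c)⁻¹ • (f'.ψ ![1, 0] - f.π (f'.ψ ![1, 0]))) (f'.ψ ![0, 1] - f.π (f'.ψ ![0, 1])) = 1 := by
      rw [map_smul, LinearMap.smul_apply, e0]
      simp [Frame.π, f.φψ, f'.φψ, h3, detForm_apply, inv_mul_cancel₀ hc]
    refine ⟨pairFrame h.alt e1, isSF_pairFrame _ _, fun u => by simp [pairFrame_ψ, Frame.π, f.φψ],
      fun v e2 e3 => funext fun i => ?_⟩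
    rw [pairFrame_φ, alt_neg h.alt v, map_smul, LinearMap.smul_apply, e0, e0, Frame.π, e2] at e3
    have e4 := congrFun e3 0
    have e5 := congrFun e3 1
    fin_cases i
    · simpa [detForm_apply] using e4
    · simpa [detForm_apply, hc] using e5
  have e3 := hf.1.comm h.alt hf₁ e1
  let S := {v | f.φ v = 0 ∧ f₁.φ v = 0}
  have e4 : ∀ v, v - f.π v - f₁.π v ∈ S := fun v => by
    constructor <;> simp [Frame.π, f.φψ, f₁.φψ, e1, e3]
  have e5 : ∀ v, (∀ s ∈ S, B v s = 0) → v = f.π v + f₁.π v := fun v hv => by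
    rw [← sub_eq_zero, ← sub_sub]
    refine h.nd.1 _ fun w => ?_
    have e6 : B (v - f.π v - f₁.π v) (w - f.π w - f₁.π w) = 0 := by
      rw [map_sub B, map_sub B, LinearMap.sub_apply, LinearMap.sub_apply, hv _ (e4 w), π_eq f v, π_eq f₁ v, hf.1, hf₁,
        (e4 w).1,
        (e4 w).2]
      simp
    rwa [map_sub, map_sub, π_eq f w, π_eq f₁ w, hf.1.right h.alt, hf₁.right h.alt, (e4 v).1, (e4 v).2, map_zero,
      LinearMap.zero_apply, LinearMap.zero_apply, sub_zero, sub_zero] at e6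
  let K := H ⊓ Fix B S
  have : Finite K := Finite.of_injective _ (inclusion_injective (inf_le_left : K ≤ H))
  have e6 : ∀ g ∈ K, ∀ u, g (f.ψ u) = f.π (g (f.ψ u)) + f₁.π (g (f.ψ u)) := fun g hg u => e5 _ fun s hs => by
    rw [← hg.2.2 s hs, hg.2.1, hf.1, hs.1, map_zero]
  have e7 : ∀ v, (f.z * f₁.z) v = v - (2 : F) • (f.π v + f₁.π v) := fun v => by
    simp only [LinearEquiv.mul_apply, Frame.z_apply, Frame.π, map_sub, map_smul, e1, map_zero]
    module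
  have e8 : f.z * f₁.z * (f.z * f₁.z) = 1 := LinearEquiv.ext fun v => by
    rw [LinearEquiv.mul_apply, e7, e7]
    simp only [Frame.π, map_sub, map_smul, map_add, e1, e3, f.φψ, f₁.φψ, map_zero, LinearEquiv.coe_one, id]
    module
  have e9 : ∀ g ∈ K, g * (f.z * f₁.z) = f.z * f₁.z * g := fun g hg => LinearEquiv.ext fun v => by
    have i1 := e5 (g v - v) fun s hs => by
      rw [map_sub, LinearMap.sub_apply, ← hg.2.2 s hs, hg.2.1, hg.2.2 s hs, sub_self]
    have i2 := hg.2.2 _ (e4 v)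
    rw [LinearEquiv.mul_apply, LinearEquiv.mul_apply _ g, e7, e7]
    simp only [Frame.π, map_sub, map_smul, map_add] at i1 i2 ⊢
    linear_combination (norm := module) (2 : F) • i2 - (2 : F) • i1
  have hk : ∀ y ∈ loc H f, f.kap (sig F y) ∈ K := fun y hy => ⟨hy, h.le hy, fun v hv => f.kap_of_φ _ hv.1⟩
  have hz : f.z ∈ K := ⟨hf.z_mem, h.le hf.z_mem, fun v hv => f.kap_of_φ _ hv.1⟩
  have hz' : f'.z ∈ K := ⟨hf'.z_mem, h.le hf'.z_mem, fun v hv => f'.kap_of_φ _ (e2 v hv.1 hv.2)⟩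
  have hm : ∀ g ∈ K, IsDF B H (f.map g) := fun g hg => hf.map hg.2.1 (le_normalizer hg.1)
  have hne : ∀ f : Frame F (U2 F) V, f.z ≠ 1 := fun f e => by
    have := eq_zero_of_odd h2 (y := f.z) (by simp [e]) (f.z_ψ ![1, 0])
    simpa using congrFun (f.ψ_injective (this.trans (map_zero _).symm)) 0
  obtain ⟨hP, a, ha, b, hb, hab⟩ := h.two f hf
  obtain ⟨g, hg, e⟩ := exists_conj_of_odd (z := (⟨_, hz⟩ : K)) (y := ⟨_, mul_mem hz hz'⟩) (Subtype.ext f.z_mul_z)
    (Subtype.ext (eq_inv_of_mul_eq_one_left (by simp [mul_assoc, ← mul_assoc f.z f.z, f.z_mul_z, f'.z_mul_z])))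
    (by rwa [← orderOf_coe])
  obtain ⟨R, hR, hA, ⟨r, hr, hr'⟩, y, hy, hy1, hy', hy''⟩ := exists_odd_pair (N := (zpowers (f.z * f₁.z)).subgroupOf K)
    (A := ((loc H f).map (f.kap.comp (sig F))).subgroupOf K) (z := ⟨_, hz⟩) (g := g)
    (fun n hn => mem_center_iff.2 fun g => Subtype.ext (by
      rcases (Inv.mem_zpowers_of_mul_self e8).1 hn with e | e <;> simp [show n.1 = _ from e, e9 g g.2]))
    (fun n hn => Subtype.ext (by
      rcases (Inv.mem_zpowers_of_mul_self e8).1 hn with e | e <;> simp [show n.1 = _ from e, e8]))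
    (Subtype.ext f.z_mul_z) (fun hn => by
      rcases (Inv.mem_zpowers_of_mul_self e8).1 hn with e | e
      · exact hne f e
      · exact hne f₁ (left_eq_mul.1 e))
    (fun g hg => (Inv.mem_zpowers_of_mul_self e8).2 (by
      change f.z * (g * f.z * (g : V ≃ₗ[F] V)⁻¹) = 1 ∨ f.z * (g * f.z * (g : V ≃ₗ[F] V)⁻¹) = _
      rw [← f.z_map]
      refine (h.fus f _ hf (hm g g.2) ⟨2, by rw [f.z_map]; exact congrArg Subtype.val hg⟩).imp
        (fun e => by rw [← e, f.z_mul_z]) fun e => congrArg _ (hf₁.z_eq_of_π h.alt (hm g g.2).1 fun u => ?_)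
      have := e6 g g.2 u
      rw [π_eq f, ← f.map_ψ, e, map_zero, zero_add] at this
      exact this.symm))
    ((hP.map _).comap_of_injective _ K.subtype_injective) ⟨-1, hab.1 ▸ mul_mem ha ha, congrArg f.kap sig_neg_one⟩
    (by rw [← e]; rwa [← orderOf_coe]) (by rw [← e]; exact fun e => h0 (congrArg Subtype.val e))
  have hyo : Odd (orderOf y) := hR.of_dvd_nat (R.orderOf_dvd_natCard hy)
  have hc : ∀ a (ha : a ∈ loc H f), ⟨_, hk a ha⟩ * y * (⟨_, hk a ha⟩ : K)⁻¹ ∈ R := fun a ha =>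
    (mem_normalizer_iff.1 (hA (x := ⟨_, hk a ha⟩) ⟨a, ha, rfl⟩) y).1 hy
  rcases hy'' with hy'' | hy''
  · obtain ⟨t, i1, i2⟩ := (hm y y.2).1.exists_of_z_eq h2 hf.1 (by
      rw [f.z_map, mul_inv_eq_iff_eq_mul]; exact (congrArg Subtype.val hy''.eq).symm)
    have i3 : ∀ a ∈ loc H f, t * a = a * t := fun a ha => by
      have i4 : f.kap (sig F (a * (t * a⁻¹ * t⁻¹))) = (⟨_, hk a ha⟩ * y * (⟨_, hk a ha⟩ : K)⁻¹ * y⁻¹ : K) := by
        rw [map_mul, map_mul, ← i2, f.kap_map]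
        simp [mul_assoc]
      have i5 := eq_one_of_odd hP (k := a * (t * a⁻¹ * t⁻¹)) (mem_loc.2 (i4 ▸ (Subtype.prop _ : _ ∈ K).1)) hR
        (sig_injective (f.kap_injective (by
          rw [map_pow, map_pow, i4, ← coe_pow, orderOf_dvd_iff_pow_eq_one.1
            (R.orderOf_dvd_natCard (mul_mem (hc a ha) (inv_mem hy)))]
          simp)))
      rwa [← mul_assoc, ← mul_assoc, mul_inv_eq_one, mul_inv_eq_iff_eq_mul, eq_comm] at i5
    have i4 : ∀ u, y.1 (f.ψ u) = f.ψ u := fun u => by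
      rcases isScal_SL_iff.1 (hab.isScal_of_commute h2 (congrArg Subtype.val (i3 a ha))
        (congrArg Subtype.val (i3 b hb))) with rfl | rfl
      · simpa [f.map_ψ] using i1 u
      · rw [eq_zero_of_odd h2 (y := y.1) (by rwa [orderOf_coe]) (w := f.ψ u) (by
          simpa [f.map_ψ, sig_neg] using i1 u), map_zero]
    obtain ⟨t', i5⟩ := hf₁.exists_kap_eq h.alt y.2.2.1 h.nd fun v hv => by
      have := y.2.2.2 _ (e4 v)
      rwa [π_eq f₁, hv, map_zero, sub_zero, map_sub, π_eq, i4, sub_left_inj] at this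
    refine hr' (Subtype.ext (eq_mul_inv_iff_mul_eq.1 ?_))
    refine (hf.1.z_eq_of_π h.alt (hm r r.2).1 fun u => ?_).symm.trans (f.z_map _)
    have i6 : sig F t' (f₁.φ (r.1 (f.ψ u))) = f₁.φ (r.1 (f.ψ u)) := by
      rw [← f₁.φ_kap, ← i5, ← LinearEquiv.mul_apply, ← coe_mul, (hy' r hr).eq, coe_mul, LinearEquiv.mul_apply, i4]
    have i7 : f₁.φ (r.1 (f.ψ u)) = 0 := by_contra fun i7 => by
      obtain ⟨w, c, i8⟩ := hf₁.kap_eq_tv h.alt i7 i6
      refine hy1 (Subtype.ext ?_)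
      rcases h.no_tv hodd (i8 ▸ i5 ▸ y.2.1) with rfl | rfl
      · rw [i5, i8, tv_zero_left, coe_one]
      · rw [i5, i8, tv_zero, coe_one]
    have := e6 r r.2 u
    rw [π_eq f₁, i7, map_zero, add_zero] at this
    exact this.symm
  · obtain ⟨g, -, e⟩ := exists_conj_of_odd (z := (⟨_, hz⟩ : K)) (Subtype.ext f.z_mul_z) hy'' hyo
    have e' : y = f.z * (f.map g).z := by rw [f.z_map]; exact congrArg Subtype.val e
    obtain ⟨c, hc0, hc1, h1, -⟩ := h.c_ne hodd hf (hm g g.2) (by rwa [← e', orderOf_coe])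
      (by rwa [← e', ne_eq, OneMemClass.coe_eq_one])
    exact (eq_of_commute h2 h1 hab.1 (e' ▸ congrArg Subtype.val (hy' _ (hc a ha)).eq)).elim hc0 hc1

/-- The plane theorem. -/
theorem PH.eq_or_orth [Finite H] (hf : IsDF B H f) (hf' : IsDF B H f') : f.z = f'.z ∨ ∀ u, f.φ (f'.ψ u) = 0 := by
  refine h.fus f f' hf hf' (by_contra fun h0 => ?_)
  obtain ⟨m, h1, h3⟩ := Inv.exists_odd_pow_of_not_two_elt (x := (⟨_, mul_mem hf.z_mem hf'.z_mem⟩ : H))
    fun ⟨k, hk⟩ => h0 ⟨k, congrArg Subtype.val hk⟩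
  obtain ⟨g, -, e⟩ := exists_conj_of_odd (z := (⟨_, hf.z_mem⟩ : H)) (Subtype.ext f.z_mul_z) (Subtype.ext (by
    simpa [inv_eq_of_mul_eq_one_right f.z_mul_z] using Inv.invol_conj_zpow_mul f.z_mul_z f'.z_mul_z m)) h3
  have e' : (f.z * f'.z) ^ m = f.z * (f.map g).z := by rw [f.z_map]; exact congrArg Subtype.val e
  exact h.false_of_odd hodd hf (hf.map (h.le g.2) (le_normalizer g.2)) (by rwa [← e', ← orderOf_coe] at *)
    fun e => h1 (Subtype.ext (e'.trans e))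

end CL.Pron
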