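/-
Pronormality of subgroups of odd index in products of symplectic groups of 2-power degree.
-/
import Cfsg.Agent.Cls.Pron6
import Cfsg.Agent.Cls.SpMatrix2

set_option autoImplicit false
set_option linter.unusedSectionVars false

open Subgroup CL.Grp CL.Wr CL.GL2 CL.SL2 CL.Sp Module Matrix Cfsg
open scoped Pointwise MatrixGroups

namespace CL.Pron

/-- A form of pronormality of the subgroups of odd index that passes to direct products. -/
def Good (G : Type*) [Group G] : Prop :=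
  ∃ S : Subgroup G, IsSylowIn 2 S ⊤ ∧ ∀ g ∈ normalizer (S : Set G), ∃ s ∈ S, ∀ H, S ≤ H →
    g * s ∈ H ⊔ MulAut.conj (g * s) • H ∨ ∀ x ∈ normalizer (H : Set G), g * s * x * (g * s)⁻¹ * x⁻¹ ∈ H

theorem allPron_pi {ι : Type*} [Finite ι] {G : ι → Type*} [∀ i, Group (G i)] [∀ i, Finite (G i)]
    (h : ∀ i, Good (G i)) : AllPron 2 (∀ i, G i) := by
  classical
  have := Fintype.ofFinite ι
  choose S hS h using h
  have h1 : ∀ i, ∀ x ∈ S i, Pi.mulSingle i x ∈ pi Set.univ S := fun i x hx j _ => by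
    by_cases e : j = i
    · subst e; simpa using hx
    · simp [e]
  refine allPron_of (S := pi Set.univ S) (isSylowIn_of_maximal le_top (CL.Even.isPGroup_iff_forall.2 fun x hx => ?_)
    fun U hU h2 _ => le_antisymm (fun x hx i _ => ?_) h2) fun H hH g hg => ?_
  · choose k hk using fun i => CL.Even.isPGroup_iff_forall.1 (hS i).isPGroup _ (hx i trivial)
    refine ⟨∑ i, k i, funext fun i => ?_⟩
    rw [← Finset.add_sum_erase _ _ (Finset.mem_univ i), pow_add, pow_mul, Pi.pow_apply, Pi.pow_apply, hk, one_pow,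
      Pi.one_apply]
  · change x i ∈ S i
    rw [← (hS i).eq_of_le (hU.map (Pi.evalMonoidHom G i)) (fun y hy => ⟨_, h2 (h1 i y hy), by simp⟩) le_top]
    exact mem_map_of_mem _ hx
  choose s hs h using fun i => h i (g i) (mem_normalizer_fintype fun x hx => by
    simpa using (mem_normalizer_iff.1 hg _).1 (h1 i x hx) i trivial)
  let K := fun i => H.comap (MonoidHom.mulSingle G i)
  have h2 : ∀ (a : ∀ i, G i) i x, a * Pi.mulSingle i x * a⁻¹ = Pi.mulSingle i (a i * x * (a i)⁻¹) := fun a i x =>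
    funext fun j => by
      by_cases e : j = i
      · subst e; simp
      · simp [e]
  have h3 : MulAut.conj g • H = MulAut.conj (g * s) • H := by
    rw [← conj_smul_conj_smul, (conj_smul_eq_self_iff s H).2 (le_normalizer (hH fun i _ => hs i))]
  let g' := fun i => if (g * s) i ∈ K i ⊔ MulAut.conj ((g * s) i) • K i then (g * s) i else 1
  refine ⟨g', pi_mem_of_mulSingle_mem _ fun i => ?_, ?_⟩
  · simp only [g']
    split_ifs with e
    · refine (sup_le ?_ ?_ : _ ≤ (H ⊔ MulAut.conj g • H).comap (MonoidHom.mulSingle G i)) e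
      · exact comap_mono le_sup_left
      · refine (conj_smul_le_iff _ _ _).2 fun x hx => mem_sup_right ?_
        rw [h3, MonoidHom.mulSingle_apply, ← h2]
        exact conj_mem_conj_smul _ hx
    · simp
  rw [h3, ← mul_inv_cancel_left g' (g * s), ← conj_smul_conj_smul, (conj_smul_eq_self_iff _ H).2]
  refine mem_normalizer_fintype fun x hx => ?_
  rw [← inv_mul_cancel_right (_ * x * _) x]
  refine mul_mem (pi_mem_of_mulSingle_mem _ fun i => ?_) hx
  simp only [g', Pi.mul_apply, Pi.inv_apply]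
  split_ifs with e
  · simp
  · simpa [K] using (h i (K i) fun y hy => hH (h1 i y hy)).resolve_left e (x i) (mem_normalizer_fintype fun y hy => by
      change Pi.mulSingle i _ ∈ H
      rw [← h2]
      exact mul_mem (mul_mem hx hy) (inv_mem hx))

theorem good_of_sub {G : Type*} [Group G] [Finite G] {L S : Subgroup G} (hS : IsSylowIn 2 S L)
    (h : ∀ g ∈ L, g ∈ normalizer (S : Set G) → ∃ s ∈ S, ∀ H, S ≤ H → H ≤ L → g * s ∈ H ⊔ MulAut.conj (g * s) • H ∨
      ∀ x ∈ L, x ∈ normalizer (H : Set G) → g * s * x * (g * s)⁻¹ * x⁻¹ ∈ H) : Good L := by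
  refine ⟨_, isSylowIn_top hS.toSylow, fun g hg => ?_⟩
  obtain ⟨s, hs, h⟩ := h g g.2 (mem_normalizer_fintype fun x hx => (mem_normalizer_iff.1 hg ⟨x, hS.le hx⟩).1 hx)
  refine ⟨⟨s, hS.le hs⟩, hs, fun H hH => (h (H.map L.subtype) (hS.map_toSylow.ge.trans (map_mono hH))
    (map_subtype_le H)).imp (fun h => ?_) fun h x hx => ?_⟩
  · rwa [← mem_map_iff_mem L.subtype_injective, Subgroup.map_sup, map_conj_smul]
  · exact (mem_map_iff_mem L.subtype_injective).1 (h x x.2 (le_normalizer_map _ (mem_map_of_mem _ hx)))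

theorem exists_chi {G : Type*} [Group G] [Finite G] {Q : Subgroup G}
    (h : Nat.card (normalizer (Q : Set G)) = 3 * Nat.card Q) :
    ∃ χ : normalizer (Q : Set G) →* Multiplicative (ZMod 3), ∀ n, χ n = 1 ↔ n.1 ∈ Q := by
  have h1 : Nat.card (normalizer (Q : Set G) ⧸ Q.subgroupOf (normalizer (Q : Set G))) = 3 := by
    have := card_eq_card_quotient_mul_card_subgroup (Q.subgroupOf (normalizer (Q : Set G)))
    rw [h, Nat.card_congr (subgroupOfEquivOfLe le_normalizer).toEquiv] at this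
    exact (Nat.eq_of_mul_eq_mul_right Nat.card_pos this).symm
  have : Fact (Nat.Prime 3) := ⟨Nat.prime_three⟩
  exact ⟨(mulEquivOfPrimeCardEq h1 (by simp)).toMonoidHom.comp (QuotientGroup.mk' _), fun n => by
    simp [mem_subgroupOf]⟩

theorem const_mem {G ι : Type*} [Group G] [Finite G] [Fintype ι] [DecidableEq ι] {Q : Subgroup G}
    (h : Nat.card (normalizer (Q : Set G)) = 3 * Nat.card Q) {P : Subgroup (Equiv.Perm ι)} (hP : IsPGroup 2 P)
    (htr : ∀ i j, ∃ σ ∈ P, σ i = j) {X : Subgroup (ι → G)} (h1 : ∀ x : ι → G, (∀ i, x i ∈ Q) → x ∈ X)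
    (h2 : ∀ σ ∈ P, ∀ x ∈ X, x ∘ σ ∈ X) {j k : ι} {ω a : G} (hω : ω ∈ normalizer (Q : Set G)) (hω' : ω ∉ Q)
    (ha : a ∈ Q) (h3 : Pi.mulSingle j ω * Pi.mulSingle k (ω * a) ∈ X) {c : G} (hc : c ∈ normalizer (Q : Set G)) :
    (fun _ => c) ∈ X := by
  obtain ⟨χ, hχ⟩ := exists_chi h
  have := Fintype.ofFinite P
  let T := (X.comap ((normalizer (Q : Set G)).subtype.compLeft ι)).map (χ.compLeft ι)
  let e : ι → Multiplicative (ZMod 3) := Pi.mulSingle j (χ ⟨ω, hω⟩) * Pi.mulSingle k (χ ⟨ω, hω⟩)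
  have h4 : e ∈ T := by
    refine ⟨Pi.mulSingle j ⟨ω, hω⟩ * Pi.mulSingle k (⟨ω, hω⟩ * ⟨a, le_normalizer ha⟩), ?_, funext fun i => ?_⟩
    · refine mem_comap.2 (by convert h3 using 1; funext i; simp [Pi.mulSingle_apply, apply_ite Subtype.val])
    · simp only [e, MonoidHom.compLeft_apply, Function.comp, Pi.mul_apply, Pi.mulSingle_apply, map_mul, apply_ite χ,
        map_one, (hχ ⟨a, le_normalizer ha⟩).2 ha, mul_one]
  have h5 : ∏ σ : P, e ∘ σ.1 ∈ T := prod_mem fun σ _ => by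
    obtain ⟨x, hx, e⟩ := h4
    exact ⟨x ∘ σ.1, h2 _ σ.2 _ hx, e ▸ rfl⟩
  obtain ⟨w, hw⟩ : ∃ w, ∏ σ : P, e ∘ σ.1 = fun _ => w := ⟨(∏ σ : P, e ∘ σ.1) j, funext fun i => by
    obtain ⟨τ, hτ, rfl⟩ := htr j i
    simp only [Finset.prod_apply]
    exact Fintype.prod_equiv (Equiv.mulRight ⟨τ, hτ⟩) _ _ fun σ => rfl⟩
  have h6 : w ≠ 1 := by
    rintro rfl
    have h6 := congrArg (fun x => ∏ i, x i) hw
    simp only [Finset.prod_apply, Finset.prod_const_one, Function.comp] at h6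
    obtain ⟨n, hn⟩ := IsPGroup.iff_card.1 hP
    rw [Finset.prod_comm, Finset.prod_congr rfl fun σ _ => Equiv.prod_comp σ.1 e, Finset.prod_const, Finset.card_univ,
      ← Nat.card_eq_fintype_card, hn] at h6
    simp only [e, Pi.mul_apply, Finset.prod_mul_distrib, Fintype.prod_pi_mulSingle', ← pow_two, ← pow_mul,
      ← pow_succ'] at h6
    refine hω' ((hχ ⟨ω, hω⟩).1 (orderOf_eq_one_iff.1 (Nat.eq_one_of_dvd_coprimes (k := _)
      (Nat.Coprime.pow_left (n + 1) (show Nat.Coprime 2 3 by norm_num)) (orderOf_dvd_of_pow_eq_one h6) ?_)))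
    simpa using orderOf_dvd_natCard (χ ⟨ω, hω⟩)
  obtain ⟨m, hm⟩ : ∃ m : ℕ, w ^ m = χ ⟨c, hc⟩ := by
    revert h6
    generalize χ ⟨c, hc⟩ = v
    exact fun h6 => (by decide : ∀ w v : Multiplicative (ZMod 3), w ≠ 1 → ∃ m : Fin 3, w ^ m.1 = v) w v h6 |>.elim
      fun m hm => ⟨m, hm⟩
  obtain ⟨x, hx, e⟩ := pow_mem (hw ▸ h5) m
  have h7 := mul_mem (mem_comap.1 hx) (h1 (fun i => (x i : G)⁻¹ * c) fun i => (hχ ((x i)⁻¹ * ⟨c, hc⟩)).1 (by
    rw [map_mul, map_inv, ← hm, inv_mul_eq_one]; exact congrFun e i))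
  convert h7 using 1
  funext i
  simp

section wreath

variable {F ι : Type*} [Field F] [Fintype ι] [DecidableEq ι]

/-- The imprimitive representation. -/
noncomputable abbrev wr (F ι : Type*) [Field F] : W SL(2, F) ι →* ((ι → U2 F) ≃ₗ[F] (ι → U2 F)) := wrRep (sig F) ι

/-- The symplectic form. -/
abbrev pf (F ι : Type*) [Field F] [Fintype ι] : LinearMap.BilinForm F (ι → U2 F) := piForm (detForm F) ι

/-- The frame of a block. -/
abbrev bl (F : Type*) [Field F] (i : ι) : Frame F (U2 F) (ι → U2 F) := blk F (U2 F) i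

theorem wr_injective : Function.Injective (wr F ι) := wrRep_injective sig_injective

theorem isSF_bl (i : ι) : IsSF (pf F ι) (bl F i) := fun u v => by
  rw [piForm_apply, Finset.sum_eq_single i (fun j _ hj => by simp [blk_ψ, hj]) (by simp)]
  simp [blk_ψ, blk_φ]

theorem pf_alt : (pf F ι).IsAlt := fun x => by
  rw [piForm_apply]
  exact Finset.sum_eq_zero fun i _ => det_self _

theorem pf_nd : (pf F ι).Nondegenerate := by
  have h : ∀ x : ι → U2 F, (∀ y, pf F ι y x = 0) → x = 0 := fun x hx => funext fun i => det_ext fun w => by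
    rw [Pi.zero_apply, map_zero, ← hx ((bl F i).ψ w), isSF_bl, blk_φ]
  exact ⟨fun x hx => h x fun y => by rw [alt_neg pf_alt, hx, neg_zero], h⟩

theorem wr_mem (w : W SL(2, F) ι) : wr F ι w ∈ Isom (pf F ι) := fun u v => by
  simp only [piForm_apply, wrRep_apply, det_sig]
  exact Equiv.sum_comp w.right⁻¹ fun i => detForm F (u i) (v i)

theorem conj_kap (w : W SL(2, F) ι) (j : ι) (y : SL(2, F)) : wr F ι w * (bl F j).kap (sig F y) * (wr F ι w)⁻¹ =
    (bl F (w.right j)).kap (sig F (w.left (w.right j) * y * (w.left (w.right j))⁻¹)) := by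
  rw [blk_kap, blk_kap, ← map_inv, ← map_mul, ← map_mul, conj_inl]
  congr 2
  funext l
  by_cases h : l = w.right j
  · simp [h]
  · rw [Pi.mulSingle_eq_of_ne h, Pi.mulSingle_eq_of_ne (fun e => h (Equiv.Perm.inv_eq_iff_eq.1 e))]
    simp

theorem exists_z_eq_bl (h2 : (2 : F) ≠ 0) {f : Frame F (U2 F) (ι → U2 F)} {w : W SL(2, F) ι} (e : wr F ι w = f.z)
    (h : w.right = 1) : ∃ l, f.z = (bl F l).z := by
  have h4 : w * w = 1 := wr_injective (by rw [map_mul, e, f.z_mul_z, map_one])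
  refine exists_z_eq_blk h2 fun l => ?_
  have h6 := congrFun (congrArg SemidirectProduct.left h4) l
  simp only [mul_left_apply, h, inv_one, Equiv.Perm.one_apply] at h6
  refine (sl_eq_of_mul_self h2 h6).imp (fun h' v => ?_) fun h' v => ?_ <;> simp [← e, wrRep_apply, h, h', sig_neg]

theorem exists_z_eq_of_kap (h2 : (2 : F) ≠ 0) {f : Frame F (U2 F) (ι → U2 F)} {y : SL(2, F)} (hy : y * y = -1)
    {w : W SL(2, F) ι} (e : wr F ι w = f.kap (sig F y)) : ∃ l, f.z = (bl F l).z :=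
  exists_z_eq_bl h2 (w := w * w) (by rw [map_mul, e, f.kap_mul_self (sig_sq hy)])
    (by simp [right_eq_one h2 (sig_sq hy) e])

theorem exists_wr (h2 : (2 : F) ≠ 0) {g : (ι → U2 F) ≃ₗ[F] (ι → U2 F)} (hg : g ∈ Isom (pf F ι))
    (h : ∀ j, ∃ l, ((bl F j).map g).z = (bl F l).z) : ∃ w, wr F ι w = g := exists_wrRep fun j => by
  obtain ⟨l, hl⟩ := h j
  obtain ⟨t, ht, -⟩ := ((isSF_bl j).map hg).exists_of_z_eq h2 (isSF_bl l) hl
  exact ⟨l, t, ht⟩

/-- The diagonal frame of two blocks. -/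
def dbl (h2 : (2 : F) ≠ 0) (j k : ι) (hjk : j ≠ k) : Frame F (U2 F) (ι → U2 F) where
  ψ := LinearMap.single F (fun _ => U2 F) j + LinearMap.single F (fun _ => U2 F) k
  φ := (2 : F)⁻¹ • ((LinearMap.proj j : (ι → U2 F) →ₗ[F] U2 F) + LinearMap.proj k)
  φψ u := by
    change (2 : F)⁻¹ • ((Pi.single j u + Pi.single k u : ι → U2 F) j + (Pi.single j u + Pi.single k u : ι → U2 F) k) = u
    simp [hjk, hjk.symm, ← two_smul F u, smul_smul, h2]

theorem dbl_ψ (h2 : (2 : F) ≠ 0) {j k : ι} (hjk : j ≠ k) (u : U2 F) :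
    (dbl h2 j k hjk).ψ u = Pi.single j u + Pi.single k u := rfl

theorem dbl_φ (h2 : (2 : F) ≠ 0) {j k : ι} (hjk : j ≠ k) (v : ι → U2 F) :
    (dbl h2 j k hjk).φ v = (2 : F)⁻¹ • (v j + v k) := rfl

theorem dbl_conj (h2 : (2 : F) ≠ 0) {j k : ι} (hjk : j ≠ k) (q y : SL(2, F)) :
    wr F ι (.inl fun _ => q) * (dbl h2 j k hjk).kap (sig F y) * (wr F ι (.inl fun _ => q))⁻¹ =
      (dbl h2 j k hjk).kap (sig F (q * y * q⁻¹)) := by
  have h1 : ∀ u, wr F ι (.inl fun _ => q) ((dbl h2 j k hjk).ψ u) = (dbl h2 j k hjk).ψ (sig F q u) := fun u => by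
    simp [dbl_ψ, wrRep_single]
  have h3 : ∀ v, (dbl h2 j k hjk).φ ((wr F ι (.inl fun _ => q))⁻¹ v) = (sig F q)⁻¹ ((dbl h2 j k hjk).φ v) := fun v => by
    simp only [dbl_φ, ← map_inv, wrRep_apply, map_smul, map_add]; rfl
  refine (Frame.kap_map _ _ _).symm.trans (LinearEquiv.ext fun v => ?_)
  rw [Frame.kap_apply, Frame.kap_apply, Frame.map_ψ, Frame.map_φ, h1, h3, map_sub, apply_inv_apply, map_mul, map_mul,
    map_inv]
  rfl

theorem z_eq_dbl (h2 : (2 : F) ≠ 0) {f : Frame F (U2 F) (ι → U2 F)} {j k : ι} (hjk : j ≠ k)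
    (h1 : ∀ v, f.z v j = -v k) (h3 : ∀ u, f.z (Pi.single j u) = Pi.single k (-u)) : f.z = (dbl h2 j k hjk).z := by
  have h4 : ∀ u, f.z (Pi.single k u) = Pi.single j (-u) := fun u => by
    rw [← neg_neg u, ← h3, ← LinearEquiv.mul_apply, f.z_mul_z, neg_neg]; rfl
  have h5 : ∀ u, f.π ((dbl h2 j k hjk).ψ u) = (dbl h2 j k hjk).ψ u := fun u => f.π_eq_of_z h2 (by
    rw [dbl_ψ, map_add, h3, h4, Pi.single_neg, Pi.single_neg, neg_add_rev])
  have h6 : Function.Surjective (f.φ ∘ₗ (dbl h2 j k hjk).ψ) := LinearMap.injective_iff_surjective.1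
    ((injective_iff_map_eq_zero _).2 fun u hu => (dbl h2 j k hjk).ψ_injective (by
      rw [← h5, π_eq, show f.φ _ = 0 from hu, map_zero, map_zero]))
  refine LinearEquiv.ext fun v => ?_
  obtain ⟨u, hu⟩ := h6 (f.φ v)
  have h7 : f.π v = (dbl h2 j k hjk).ψ u := by rw [← h5, π_eq, π_eq, ← hu]; rfl
  have h8 := h1 v
  rw [f.z_apply, h7, dbl_ψ] at h8
  rw [f.z_apply, Frame.z_apply, h7, π_eq, dbl_φ]
  congr 3
  simp only [Pi.sub_apply, Pi.smul_apply, Pi.add_apply, Pi.single_eq_same, Pi.single_eq_of_ne hjk, add_zero] at h8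
  rw [eq_inv_smul_iff₀ h2]
  linear_combination (norm := module) -h8

theorem QPair.exists_omega (h2 : (2 : F) ≠ 0) {a b : SL(2, F)} (h : QPair a b) : ∃ ω : SL(2, F),
    ω * a = b * ω ∧ ω * b = a * b * ω ∧ ∀ u, (2 : F) • sig F ω u = u + sig F a u + sig F b u + sig F a (sig F b u) := by
  have h1 : ∀ y : SL(2, F), y * y = -1 → (1 + y.1).det = 2 := fun y hy => by
    have h1 := mul_self_eq_neg_one_iff.1 hy
    have h3 := sl_det y
    simp only [det_fin_two, trace_fin_two, Matrix.add_apply, one_apply_eq, ne_eq, zero_ne_one, not_false_eq_true,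
      one_apply_ne, one_ne_zero] at h1 ⊢
    linear_combination h1 + h3
  have i1 : a.1 * a.1 = -1 := congrArg Subtype.val h.1
  have i2 : b.1 * b.1 = -1 := congrArg Subtype.val h.2
  have i3 : b.1 * a.1 = -(a.1 * b.1) := congrArg Subtype.val h.3
  obtain ⟨ω, hω⟩ : ∃ ω : SL(2, F), ω.1 = (2 : F)⁻¹ • ((1 + a.1) * (1 + b.1)) := ⟨⟨_, by
    rw [det_smul, det_mul, h1 a h.1, h1 b h.2, Fintype.card_fin]; field_simp⟩, rfl⟩
  refine ⟨ω, ext_SL ?_, ext_SL ?_, fun u => ?_⟩
  iterate 2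
    simp only [coe_mul_SL, hω, add_mul, mul_add, smul_mul_assoc, mul_smul_comm, mul_assoc, i1, i2, i3, ← mul_assoc a.1 a.1,
      ← mul_assoc b.1 a.1, neg_mul, mul_neg, one_mul, mul_one, neg_neg]
    module
  · simp only [sig_apply, hω, smul_mulVec, smul_smul, mul_inv_cancel₀ h2, one_smul, add_mul, mul_add, one_mul, mul_one,
      add_mulVec, one_mulVec, mulVec_mulVec]
    abel

theorem dbl_mul (h2 : (2 : F) ≠ 0) {j k : ι} (hjk : j ≠ k) {a b ω : SL(2, F)} (h : QPair a b)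
    (hω : ∀ u, (2 : F) • sig F ω u = u + sig F a u + sig F b u + sig F a (sig F b u)) :
    (dbl h2 j k hjk).kap (sig F a) * (bl F k).kap (sig F (a * b)) * (dbl h2 j k hjk).kap (sig F b) =
      wr F ι (.inl (Pi.mulSingle j ω * Pi.mulSingle k (ω * -a))) := by
  have h1 : ∀ u, sig F b (sig F a u) = -sig F a (sig F b u) := fun u => by
    rw [← LinearEquiv.mul_apply, ← map_mul, h.anti, sig_neg, map_mul]; rfl
  have h3 : ∀ u, sig F ω u = (2 : F)⁻¹ • (u + sig F a u + sig F b u + sig F a (sig F b u)) := fun u => by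
    rw [← hω, inv_smul_smul₀ h2]
  refine LinearEquiv.ext fun v => funext fun l => ?_
  simp only [LinearEquiv.mul_apply, Frame.kap_apply, dbl_ψ, dbl_φ, blk_ψ, blk_φ, wrRep_apply,
    SemidirectProduct.left_inl, SemidirectProduct.right_inl, inv_one, Equiv.Perm.one_apply, Pi.mul_apply,
    Pi.add_apply, Pi.single_eq_same, Pi.single_eq_of_ne hjk, Pi.single_eq_of_ne hjk.symm, map_mul]
  by_cases e : l = j
  · subst e
    simp only [Pi.single_eq_same, Pi.single_eq_of_ne hjk, Pi.mulSingle_eq_same, Pi.mulSingle_eq_of_ne hjk, map_one,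
      LinearEquiv.coe_one, id, map_add, map_sub, map_smul, map_neg, sig_sq h.1, sig_sq h.2, h3, add_zero,
      LinearEquiv.mul_apply, h1, zero_add]
    match_scalars <;> field_simp <;> ring
  by_cases e' : l = k
  · subst e'
    simp only [Pi.single_eq_same, Pi.single_eq_of_ne e, Pi.mulSingle_eq_same, Pi.mulSingle_eq_of_ne e, map_one,
      LinearEquiv.coe_one, id, map_add, map_sub, map_smul, map_neg, sig_sq h.1, sig_sq h.2, h3, zero_add,
      LinearEquiv.mul_apply, map_mul, sig_neg, h1, map_zero, add_zero]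
    match_scalars <;> field_simp <;> ring
  · simp [e, e']

variable [Fintype F] (hodd : Odd (Fintype.card F)) {Q : Sylow 2 SL(2, F)} {P : Subgroup (Equiv.Perm ι)}
  {H : Subgroup ((ι → U2 F) ≃ₗ[F] (ι → U2 F))} (hS : IsSylowIn 2 ((wsub (Q : Subgroup SL(2, F)) P).map (wr F ι)) H)
  (hH : H ≤ Isom (pf F ι)) (hY : ∀ i, loc H (bl F i) = Q)
include hodd hS hH hY

theorem exists_loc {f : Frame F (U2 F) (ι → U2 F)} (hf : IsDF (pf F ι) H f) :
    ∃ t : SL(2, F), ∀ y, y ∈ loc H f ↔ t * y * t⁻¹ ∈ (Q : Subgroup SL(2, F)) := by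
  have : Finite ((ι → U2 F) ≃ₗ[F] (ι → U2 F)) := DFunLike.finite _
  have h2 := two_ne_zero_of_odd hodd
  obtain ⟨y, h1, h3⟩ := hf.2
  obtain ⟨g, hg, h4⟩ := hS.exists_conj_le (U := zpowers (f.kap (sig F y))) (IsPGroup.of_card (n := 2) (by
    rw [Nat.card_zpowers, orderOf_injective _ f.kap_injective, orderOf_injective _ sig_injective,
      orderOf_eq_four h2 h3]; rfl)) (zpowers_le.2 h1)
  obtain ⟨w, -, hw⟩ := h4 (conj_mem_conj_smul g (mem_zpowers _))
  obtain ⟨l, hl⟩ := exists_z_eq_of_kap h2 h3 (hw.trans (f.kap_map g _).symm)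
  obtain ⟨t, -, ht⟩ := (hf.1.map (hH hg)).exists_of_z_eq h2 (isSF_bl l) hl
  exact ⟨t, fun y => by rw [← loc_map (le_normalizer hg), mem_loc, ht, ← mem_loc, hY]⟩

theorem loc_two {a b : SL(2, F)} (hab : QPair a b) (ha : a ∈ Q) (hb : b ∈ Q) {f : Frame F (U2 F) (ι → U2 F)}
    (hf : IsDF (pf F ι) H f) : IsPGroup 2 (loc H f) ∧ ∃ a ∈ loc H f, ∃ b ∈ loc H f, QPair a b := by
  obtain ⟨t, ht⟩ := exists_loc hodd hS hH hY hf
  refine ⟨CL.Even.isPGroup_iff_forall.2 fun y hy => ?_, t⁻¹ * a * t⁻¹⁻¹, (ht _).2 (by simp only [mul_assoc]; simpa),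
    t⁻¹ * b * t⁻¹⁻¹, (ht _).2 (by simp only [mul_assoc]; simpa), by simpa only [slConj_toGL] using hab.conj t⁻¹.toGL⟩
  obtain ⟨k, hk⟩ := CL.Even.isPGroup_iff_forall.1 Q.isPGroup' _ ((ht y).1 hy)
  exact ⟨k, by simpa using hk⟩

theorem const_mem_of_swap (e : Q ≃* QuaternionGroup 2)
    (h3 : Nat.card (normalizer ((Q : Subgroup SL(2, F)) : Set SL(2, F))) = 3 * Nat.card Q) (hP : IsPGroup 2 P)
    (htr : ∀ i j, ∃ σ ∈ P, σ i = j) {a b : SL(2, F)} (hab : QPair a b) (ha : a ∈ Q) (hb : b ∈ Q)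
    {f : Frame F (U2 F) (ι → U2 F)} (hf : IsDF (pf F ι) H f) {w : W SL(2, F) ι}
    (hw : w ∈ wsub (Q : Subgroup SL(2, F)) P) (hz : wr F ι w = f.z) (h1 : w.right ≠ 1) {c : SL(2, F)}
    (hc : c ∈ normalizer ((Q : Subgroup SL(2, F)) : Set SL(2, F))) : wr F ι (.inl fun _ => c) ∈ H := by
  have h2 := two_ne_zero_of_odd hodd
  have hQ : ∀ x : ι → SL(2, F), (∀ i, x i ∈ Q) → wr F ι (.inl x) ∈ H := fun x hx =>
    hS.le (mem_map_of_mem _ (inl_mem_wsub.2 hx))
  have hn : ∀ y ∈ Q, -y ∈ Q := fun y hy => by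
    rw [← neg_one_mul, ← hab.1]
    exact mul_mem (mul_mem ha ha) hy
  obtain ⟨j, hj⟩ : ∃ j, j ≠ w.right j := not_forall.1 fun h => h1 (Equiv.ext fun i => (h i).symm)
  set k := w.right j with hk
  have h4 : w * w = 1 := wr_injective (by rw [map_mul, hz, f.z_mul_z, map_one])
  have h5 : w.right⁻¹ j = k := by rw [inv_eq_of_mul_eq_one_right (congrArg SemidirectProduct.right h4)]
  have h6 : w.left j = (w.left k)⁻¹ := by
    have := congrFun (congrArg SemidirectProduct.left h4) j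
    rw [mul_left_apply, h5] at this
    exact eq_inv_of_mul_eq_one_left this
  let g := (bl F k).kap (sig F (-(w.left k)⁻¹))
  have hg : g ∈ H := (hY k).ge (hn _ (inv_mem (hw.1 k)))
  have h7 : (f.map g).z = (dbl h2 j k hj).z := z_eq_dbl h2 hj (fun v => by
    rw [f.z_map, ← hz, LinearEquiv.mul_apply, LinearEquiv.mul_apply, ← map_inv, ← map_inv, Frame.kap_apply, blk_ψ,
      Pi.add_apply, Pi.single_eq_of_ne hj, add_zero, wrRep_apply, h5, h6, ← blk_φ (K := F) k ((bl F k).kap _ _), Frame.φ_kap, inv_neg, inv_inv,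
      sig_neg, map_neg, ← LinearEquiv.mul_apply, ← map_mul, inv_mul_cancel, map_one]
    rfl) fun u => by
    rw [f.z_map, ← hz, LinearEquiv.mul_apply, LinearEquiv.mul_apply, ← map_inv, Frame.kap_of_φ _ _⁻¹ (by
      simp [blk_φ, hj.symm]), wrRep_single, ← hk, ← blk_ψ (K := F), Frame.kap_ψ, sig_neg, ← LinearEquiv.mul_apply,
      ← map_mul, inv_mul_cancel, map_one]
    rfl
  obtain ⟨t, -, ht⟩ := Frame.exists_of_z_eq h2 h7
  obtain ⟨t, rfl⟩ := (CL.Cls.glEquiv (Fin 2) F).surjective t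
  have h8 : ∀ y, y ∈ loc H f ↔ slConj t y ∈ loc H (dbl h2 j k hj) := fun y => by
    rw [← loc_map (le_normalizer hg), mem_loc, mem_loc, ht, sig_slConj]; rfl
  obtain ⟨h9, a', ha', b', hb', hab'⟩ := loc_two hodd hS hH hY hab ha hb hf
  have h10 : loc H (dbl h2 j k hj) ≤ Q := by
    have h10 : IsPGroup 2 (loc H (dbl h2 j k hj)) := (h9.map (slConj t)).to_le fun y hy =>
      ⟨slConj t⁻¹ y, (h8 _).2 (by rwa [slConj_slConj, mul_inv_cancel, slConj_one]), by
        rw [slConj_slConj, mul_inv_cancel, slConj_one]⟩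
    refine le_sup_left.trans (Q.is_maximal' (h10.to_sup_of_normal_left' Q.isPGroup' fun q hq => ?_) le_sup_right).le
    refine mem_normalizer_fintype fun y hy => ?_
    have h11 := hQ (fun _ => q) fun _ => hq
    exact mem_loc.2 (dbl_conj h2 hj q y ▸ mul_mem (mul_mem h11 (mem_loc.1 hy)) (inv_mem h11))
  have i1 := (h8 _).1 ha'
  have i2 := (h8 _).1 hb'
  replace hab' := hab'.conj t
  generalize slConj t a' = a' at *
  generalize slConj t b' = b' at *
  obtain ⟨ω, e1, e2, e3⟩ := QPair.exists_omega h2 hab'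
  have i3 := fun g hg => QPair.mem_cases h2 hab' e (h10 i1) (h10 i2) (g := g) hg
  have i4 : ∀ y : SL(2, F), ω * -y * ω⁻¹ = -(ω * y * ω⁻¹) := fun y => by simp
  have i5 : ω * a' * ω⁻¹ ∈ Q := by rw [e1, mul_inv_cancel_right]; exact h10 i2
  have i6 : ω * b' * ω⁻¹ ∈ Q := by rw [e2, mul_inv_cancel_right]; exact h10 (mul_mem i1 i2)
  have i7 : ω * (a' * b') * ω⁻¹ ∈ Q := by simpa using mul_mem i5 i6
  refine const_mem h3 hP htr (X := H.comap ((wr F ι).comp SemidirectProduct.inl)) hQ (fun σ hσ x hx => ?_) (j := j) (k := k) (ω := ω)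
    (mem_normalizer_fintype fun q hq => ?_) (fun h => ?_) (hn _ (h10 i1)) ?_ hc
  · have h11 := hS.le (mem_map_of_mem (wr F ι) ((inr_mem_wsub (T := (Q : Subgroup SL(2, F)))).2 (inv_mem hσ)))
    have := mul_mem (mul_mem h11 (mem_comap.1 hx)) (inv_mem h11)
    rw [MonoidHom.comp_apply, ← map_inv, ← map_mul, ← map_mul, conj_inl] at this
    simpa [Function.comp_def] using this
  · have i8 : ω * 1 * ω⁻¹ ∈ Q := by simp
    rcases i3 q hq with rfl | rfl | rfl | rfl | rfl | rfl | rfl | rfl <;> (try rw [i4]) <;>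
      first | assumption | exact hn _ ‹_›
  · have i8 : ω * a' = a' * ω ∨ ω * a' = -a' * ω := by
      rcases i3 ω h with h | h | h | h | h | h | h | h <;> rw [h] <;> simp [hab'.anti, mul_assoc]
    rw [e1, mul_left_inj, mul_left_inj] at i8
    refine hab'.not_commute h2 ?_
    rcases i8 with rfl | rfl <;> simp
  · rw [mem_comap, MonoidHom.comp_apply, ← dbl_mul h2 hj hab' e3]
    exact mul_mem (mul_mem i1 ((hY k).ge (h10 (mul_mem i1 i2)))) i2

theorem ph_of_not_mem (e : Q ≃* QuaternionGroup 2)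
    (h3 : Nat.card (normalizer ((Q : Subgroup SL(2, F)) : Set SL(2, F))) = 3 * Nat.card Q) (hP : IsPGroup 2 P)
    (htr : ∀ i j, ∃ σ ∈ P, σ i = j) {a b : SL(2, F)} (hab : QPair a b) (ha : a ∈ Q) (hb : b ∈ Q) {c : SL(2, F)}
    (hc : c ∈ normalizer ((Q : Subgroup SL(2, F)) : Set SL(2, F))) (h0 : wr F ι (.inl fun _ => c) ∉ H) :
    PH (pf F ι) H := by
  have : Finite ((ι → U2 F) ≃ₗ[F] (ι → U2 F)) := DFunLike.finite _
  have h2 := two_ne_zero_of_odd hodd
  refine ⟨pf_alt, pf_nd, hH, fun f hf => loc_two hodd hS hH hY hab ha hb hf, fun f f' hf hf' h => ?_, fun v hv => ?_⟩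
  · obtain ⟨g, hg, h4⟩ := hS.exists_conj_le (Inv.isPGroup_closure_pair_of_invol f.z_mul_z f'.z_mul_z h)
      ((closure_le _).2 (Set.pair_subset hf.z_mem hf'.z_mem))
    have key : ∀ f₀, IsDF (pf F ι) H f₀ → f₀.z ∈ ({f.z, f'.z} : Set _) → ∃ l, (f₀.map g).z = (bl F l).z :=
      fun f₀ hf₀ hm => by
        obtain ⟨w, hw, e'⟩ := h4 (conj_mem_conj_smul g (subset_closure hm))
        rw [← f₀.z_map] at e'
        exact exists_z_eq_bl h2 e' (by_contra fun h1 => h0 (const_mem_of_swap hodd hS hH hY e h3 hP htr hab ha hb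
          (hf₀.map (hH hg) (le_normalizer hg)) hw e' h1 hc))
    obtain ⟨l, hl⟩ := key f hf (.inl rfl)
    obtain ⟨l', hl'⟩ := key f' hf' (.inr rfl)
    by_cases e' : l = l'
    · rw [← e', ← hl, f.z_map, f'.z_map, mul_left_inj, mul_right_inj] at hl'
      exact .inl hl'.symm
    obtain ⟨t, ht, -⟩ := Frame.exists_of_z_eq h2 hl'
    refine .inr fun u => ?_
    have h5 := (f.map g).φ_eq_zero_of_z h2 (v := (f'.map g).ψ u) (funext fun i => by
      rw [hl, ht, blk_z_apply]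
      split_ifs with hi
      · simp [blk_ψ, hi, e']
      · rfl)
    rwa [Frame.map_φ, Frame.map_ψ, inv_apply_apply] at h5
  · obtain ⟨i, hi⟩ := Function.ne_iff.1 hv
    exact ⟨bl F i, ⟨isSF_bl i, a, (hY i).ge ha, hab.1⟩, hi⟩

end wreath

theorem good_isom {F : Type*} [Field F] [Fintype F] (hodd : Odd (Fintype.card F)) (k : ℕ) :
    Good (Isom (pf F (Fin (2 ^ k)))) := by
  have : Finite ((Fin (2 ^ k) → U2 F) ≃ₗ[F] (Fin (2 ^ k) → U2 F)) := DFunLike.finite _
  have h2 := two_ne_zero_of_odd hodd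
  obtain ⟨Q, a, b, hab, ha, hb⟩ := exists_sylow_qpair (F := F)
  obtain ⟨P, hP, htr⟩ := exists_sylow_trans k
  have hS : IsSylowIn 2 ((wsub (Q : Subgroup SL(2, F)) P).map (wr F _)) (Isom (pf F _)) :=
    isSylowIn_wsub (wr F _) wr_injective (isSylowIn_top Q) hP (map_le_iff_le_comap.2 fun w _ => wr_mem w) (by
      rw [card_isom pf_alt pf_nd (m := 2 ^ k) (by simp [finrank_pi_fintype, mul_comm]), ← card_symplecticGroup,
        val_card_sp hodd, val_card_W, val_card_W, card_top])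
  refine good_of_sub hS fun g hgL hg => ?_
  have hQ : ∀ i, ∀ y ∈ Q, (bl F i).kap (sig F y) ∈ (wsub (Q : Subgroup SL(2, F)) P).map (wr F _) := fun i y hy => by
    rw [blk_kap]; exact mem_map_of_mem _ (single_mem_wsub.2 hy)
  obtain ⟨w, rfl⟩ := exists_wr h2 hgL fun j => by
    obtain ⟨w, -, hw⟩ := (mem_normalizer_iff.1 hg _).1 (hQ j a ha)
    exact exists_z_eq_of_kap h2 hab.1 (hw.trans (Frame.kap_map _ _ _).symm)
  have hw : w ∈ normalizer (wsub (Q : Subgroup SL(2, F)) P : Set (W SL(2, F) _)) :=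
    mem_normalizer_fintype fun x hx => (mem_map_iff_mem wr_injective).1 (by
      rw [map_mul, map_mul, map_inv]
      exact (mem_normalizer_iff.1 hg _).1 (mem_map_of_mem _ hx))
  have h1 : w.right ∈ P := CL.Known.normalizer_sylow_two_perm hP ▸
    right_mem_normalizer (fun w hw => (mem_wsub.1 hw).2) (fun σ hσ => inr_mem_wsub.2 hσ) hw
  have e1 : w * .inr w.right⁻¹ = .inl w.left := by
    rw [map_inv, mul_inv_eq_iff_eq_mul, SemidirectProduct.inl_left_mul_inr_right]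
  have h3 := mul_mem hw (le_normalizer (inr_mem_wsub.2 (inv_mem h1)))
  rw [e1] at h3
  obtain ⟨c, e2⟩ : ∃ c, c = w.left 0 := ⟨_, rfl⟩
  have hc : c ∈ normalizer ((Q : Subgroup SL(2, F)) : Set SL(2, F)) := mem_normalizer_fintype fun y hy => by
    have := (mem_normalizer_iff.1 h3 _).1 ((single_mem_wsub (i := 0)).2 hy)
    rw [conj_inl, inl_mem_wsub] at this
    have h4 := this 0
    rwa [SemidirectProduct.right_inl, inv_one, Equiv.Perm.one_apply, Pi.mulSingle_eq_same, SemidirectProduct.left_inl,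
      ← e2] at h4
  have h4 : ∀ i, (w.left i)⁻¹ * c ∈ (Q : Subgroup SL(2, F)) := fun i => by
    obtain ⟨σ, hσ, rfl⟩ := htr 0 i
    have := (mem_wsub.1 ((mem_normalizer_iff.1 (inv_mem h3) _).1 (inr_mem_wsub.2 hσ))).1 (σ 0)
    rw [← map_inv, inl_conj_inr] at this
    simpa [e2] using this
  refine ⟨wr F _ (.inr w.right⁻¹ * .inl fun i => (w.left i)⁻¹ * c), mem_map_of_mem _ (mul_mem
    (inr_mem_wsub.2 (inv_mem h1)) (inl_mem_wsub.2 h4)), fun H hSH hH => ?_⟩
  rw [← map_mul, ← mul_assoc, e1, ← map_mul, show (w.left * fun i => (w.left i)⁻¹ * c) = fun _ => c from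
    funext fun i => mul_inv_cancel_left _ _]
  by_cases h0 : wr F (Fin (2 ^ k)) (.inl fun _ => c) ∈ H
  · exact .inl (mem_sup_left h0)
  rcases normalizer_cases hodd Q with h6 | ⟨⟨e⟩, h6⟩
  · exact absurd (hSH (mem_map_of_mem _ (inl_mem_wsub.2 fun _ => h6.le hc))) h0
  by_cases hY : ∀ i, loc H (bl F i) = Q
  · refine .inr fun x hxL hx => ?_
    have ph := ph_of_not_mem hodd (hS.of_le hSH hH) hH hY e h6 hP.isPGroup htr hab ha hb hc h0
    have hD : ∀ i, IsDF (pf F _) H (bl F i) := fun i => ⟨isSF_bl i, a, (hY i).ge ha, hab.1⟩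
    obtain ⟨v, rfl⟩ := exists_wr h2 hxL fun j => by
      by_contra! hne
      obtain ⟨u, hu⟩ := exists_ne (0 : U2 F)
      exact hu (((bl F j).map x).ψ_injective ((funext fun l =>
        (ph.eq_or_orth hodd (hD l) ((hD j).map hxL hx)).resolve_left (hne l).symm u).trans (map_zero _).symm))
    have h7 : ∀ i, v.left i ∈ normalizer ((Q : Subgroup SL(2, F)) : Set SL(2, F)) := fun i =>
      mem_normalizer_fintype fun y hy => by
        obtain ⟨j, rfl⟩ := v.right.surjective i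
        exact (hY _).le (mem_loc.2 (conj_kap v j y ▸ (mem_normalizer_iff.1 hx _).1 ((hY j).ge hy)))
    obtain ⟨χ, hχ⟩ := exists_chi h6
    rw [← map_inv, ← map_inv, ← map_inv, ← map_mul, ← map_mul, ← map_mul, mul_assoc, mul_assoc, ← mul_assoc v, conj_inl,
      ← map_mul]
    exact hSH (mem_map_of_mem _ (inl_mem_wsub.2 fun i =>
      (hχ (⟨c, hc⟩ * (⟨_, h7 i⟩ * ⟨c, hc⟩⁻¹ * ⟨_, h7 i⟩⁻¹))).1 (by simp only [map_mul, map_inv]; simp)))
  obtain ⟨i, hi⟩ := not_forall.1 hY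
  have h9 := (eq_or_mem_sup hodd hab ha hb (Y := loc H (bl F i)) (fun y hy => hSH (hQ i y hy)) hc).resolve_left hi
  refine .inl (mem_comap (f := (wr F _).comp SemidirectProduct.inl) |>.1 (pi_mem_of_mulSingle_mem _ fun j => ?_))
  obtain ⟨σ, hσ, rfl⟩ := htr j i
  have h8 : loc H (bl F (σ j)) = loc H (bl F j) := Subgroup.ext fun y => by
    have := mem_normalizer_iff.1 (le_normalizer (hSH (mem_map_of_mem (wr F _) (inr_mem_wsub.2 hσ))))
      ((bl F j).kap (sig F y))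
    rw [conj_kap] at this
    simpa [mem_loc] using this.symm
  rw [mem_comap, MonoidHom.comp_apply, ← blk_kap, ← mem_loc]
  refine (sup_le (fun y hy => mem_loc.2 (mem_sup_left (mem_loc.1 hy)))
    ((conj_smul_le_iff _ _ _).2 fun y hy => mem_loc.2 (mem_sup_right ?_)) :
    _ ≤ loc _ _) (h8 ▸ h9)
  have := conj_mem_conj_smul (wr F (Fin (2 ^ k)) (.inl fun _ => c)) (mem_loc.1 hy)
  rwa [conj_kap] at this

theorem exists_surj_psp {F : Type*} [Field F] [Fintype F] (m : ℕ) :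
    ∃ φ : Isom (pf F (Fin m)) →* PSp m F, Function.Surjective φ := by
  have h : finrank F (Fin m → U2 F) = 2 * m := by simp [finrank_pi_fintype, mul_comm]
  obtain ⟨φ, hφ⟩ := CL.Known.exists_sp_embedding (Isom (pf F (Fin m))).subtype (subtype_injective _) pf_nd.1 pf_alt h
    fun g => g.2
  exact ⟨(QuotientGroup.mk' _).comp φ, (QuotientGroup.mk'_surjective _).comp ((Nat.bijective_iff_injective_and_card φ).2
    ⟨hφ, by rw [card_isom pf_alt pf_nd h, card_symplecticGroup]⟩).2⟩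

end CL.Pron
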