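/-
In characteristic two (finite, or just perfect, field) the orthogonal group of a quadratic form polarising to the
symplectic form is a maximal subgroup of the symplectic group in dimension at least 4.
-/
import Cfsg.Agent.Cls.SpMaxMat
import Cfsg.Agent.Cls.SpSimple
import Cfsg.Agent.Cls.Witt

set_option autoImplicit false
set_option linter.unusedVariables false

namespace CL.Sp

open Module LinearMap

variable {F V : Type*} [Field F] [AddCommGroup V] [Module F V] {B : LinearMap.BilinForm F V}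

/-- A function `Q` with `Q (c • v) = c ^ 2 * Q v` whose polar form is the bilinear form `B`, as a quadratic form. -/
def quadOfPolar (B : LinearMap.BilinForm F V) (Q : V → F) (hs : ∀ (c : F) v, Q (c • v) = c ^ 2 * Q v)
    (hp : ∀ u v, QuadraticMap.polar Q u v = B u v) : QuadraticForm F V where
  toFun := Q
  toFun_smul a x := by rw [hs, smul_eq_mul, sq]
  exists_companion' := ⟨B, fun x y => by rw [← hp, QuadraticMap.polar]; ring⟩

theorem quad_add {Q : V → F} (hp : ∀ u v, QuadraticMap.polar Q u v = B u v) (u v : V) :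
    Q (u + v) = Q u + Q v + B u v := by
  rw [← hp, QuadraticMap.polar]; ring

theorem isom_of_quad {Q : V → F} (hp : ∀ u v, QuadraticMap.polar Q u v = B u v) {g : V ≃ₗ[F] V}
    (hg : ∀ v, Q (g v) = Q v) : g ∈ Isom B := fun x y => by
  simp only [← hp, QuadraticMap.polar, ← map_add, hg]

theorem quad_tv (hB : B.IsAlt) (h2 : (2 : F) = 0) {Q : V → F} (hs : ∀ (c : F) v, Q (c • v) = c ^ 2 * Q v)
    (hp : ∀ u v, QuadraticMap.polar Q u v = B u v) (u x : V) :
    Q (tv hB u 1 x) = Q x + (B x u) ^ 2 * (Q u + 1) := by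
  rw [tv_apply, quad_add hp, hs, map_smul, smul_eq_mul]; ring

variable [FiniteDimensional F V]

theorem exists_quad_isom (hN : B.Nondegenerate) {Q : V → F} (hs : ∀ (c : F) v, Q (c • v) = c ^ 2 * Q v)
    (hp : ∀ u v, QuadraticMap.polar Q u v = B u v) {x y : V} (hx : x ≠ 0) (hy : y ≠ 0) (h : Q x = Q y) :
    ∃ g : V ≃ₗ[F] V, (∀ v, Q (g v) = Q v) ∧ g x = y := by
  obtain ⟨g, -, h1, h2⟩ := (CL.Cls.isWittForm_quad (quadOfPolar B Q hs hp) (fun x hx => hN.1 x fun y => by
    rw [← hp]; exact hx y)).exists_isometry_vec hx hy h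
  exact ⟨g, h1, h2⟩

/-- A subspace of more than half the dimension contains a non-singular vector. -/
theorem exists_quad_ne_zero (hN : B.Nondegenerate) {Q : V → F} (hp : ∀ u v, QuadraticMap.polar Q u v = B u v)
    {P : Submodule F V} (hP : finrank F V < 2 * finrank F P) : ∃ w ∈ P, Q w ≠ 0 := by
  by_contra h
  push Not at h
  have : P ≤ B.orthogonal P := fun v hv => mem_orth.2 fun u hu => by
    have := quad_add hp u v
    rw [h u hu, h v hv, h _ (add_mem hu hv)] at this
    simpa using this.symm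
  have h1 := Submodule.finrank_mono this
  have h2 := finrank_orth hN P
  omega

/-- The orthogonal complement of a hyperbolic pair contains a non-singular vector in dimension at least 3. -/
theorem exists_quad_ne_zero_orth_pair (hB : B.IsAlt) (hN : B.Nondegenerate) {Q : V → F}
    (hp : ∀ u v, QuadraticMap.polar Q u v = B u v) (hdim : 3 ≤ finrank F V) {x v : V} (hxv : B x v ≠ 0) :
    ∃ y, B x y = 0 ∧ B v y = 0 ∧ Q y ≠ 0 := by
  by_contra h
  push Not at h
  set P := B.orthogonal (Submodule.span F {x, v}) with hP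
  have hmem : ∀ y, y ∈ P ↔ B x y = 0 ∧ B v y = 0 := by
    intro y
    constructor
    · intro hy
      exact ⟨hy x (Submodule.subset_span (by simp)), hy v (Submodule.subset_span (by simp))⟩
    · rintro ⟨h1, h2⟩ w hw
      obtain ⟨a, b, rfl⟩ := Submodule.mem_span_pair.1 hw
      simp [h1, h2]
  have h1 : P ≤ B.orthogonal P := fun v hv => mem_orth.2 fun u hu => by
    have := quad_add hp u v
    rw [h u ((hmem u).1 hu).1 ((hmem u).1 hu).2, h v ((hmem v).1 hv).1 ((hmem v).1 hv).2,
      h _ ((hmem _).1 (add_mem hu hv)).1 ((hmem _).1 (add_mem hu hv)).2] at this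
    simpa using this.symm
  have h2 : P = ⊥ := by
    rw [eq_bot_iff]
    intro y hy
    have h3 := h1 hy
    rw [hP, orth_orth hB hN] at h3
    obtain ⟨a, b, rfl⟩ := Submodule.mem_span_pair.1 h3
    obtain ⟨h4, h5⟩ := (hmem _).1 hy
    have h6 : B v x ≠ 0 := by rwa [Ne, alt_eq_zero_comm hB]
    simp only [map_add, map_smul, alt_self hB, smul_eq_mul, mul_zero, zero_add, add_zero, mul_eq_zero, hxv, h6,
      or_false] at h4 h5
    simp [h4, h5]
  have h3 := finrank_orth hN (Submodule.span F {x, v})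
  rw [← hP, h2, finrank_bot] at h3
  have h4 : finrank F (Submodule.span F ({x, v} : Set V)) ≤ 2 := by
    classical
    refine (finrank_span_le_card _).trans ?_
    simpa using Finset.card_le_two
  omega

/-- **`O(Q)` is maximal in `Sp`** in characteristic two. -/
theorem isom_le_of_quad (hB : B.IsAlt) (hN : B.Nondegenerate) (h2 : (2 : F) = 0) (hsq : ∀ a : F, IsSquare a)
    (hdim : 3 ≤ finrank F V) {Q : V → F} (hs : ∀ (c : F) v, Q (c • v) = c ^ 2 * Q v)
    (hp : ∀ u v, QuadraticMap.polar Q u v = B u v) {M : Subgroup (V ≃ₗ[F] V)}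
    (hM : ∀ g : V ≃ₗ[F] V, (∀ v, Q (g v) = Q v) → g ∈ M) {h : V ≃ₗ[F] V} (hh : h ∈ M) (hI : h ∈ Isom B)
    (hhQ : ¬ ∀ v, Q (h v) = Q v) : Isom B ≤ M := by
  have hone : ∀ u, Q u = 1 → tv hB u 1 ∈ M := fun u hu => hM _ fun x => by
    rw [quad_tv hB h2 hs hp, hu]; linear_combination (B x u) ^ 2 * h2
  have hconj : ∀ g ∈ M, g ∈ Isom B → ∀ u, tv hB u 1 ∈ M → tv hB (g u) 1 ∈ M := fun g hg hgI u hu => by
    rw [← conj_tv hB hgI]; exact mul_mem (mul_mem hg hu) (inv_mem hg)
  have hwitt : ∀ u w, u ≠ 0 → w ≠ 0 → Q u = Q w → tv hB u 1 ∈ M → tv hB w 1 ∈ M := by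
    intro u w hu hw e hm
    obtain ⟨g, hg, rfl⟩ := exists_quad_isom hN hs hp hu hw e
    exact hconj g (hM g hg) (isom_of_quad hp hg) u hm
  have hQ0 : Q 0 = 0 := by simpa using hs 0 0
  obtain ⟨u, hu1, hu2⟩ : ∃ u, Q u = 1 ∧ Q (h u) ≠ 1 := by
    by_contra hcon
    push Not at hcon
    have h3 : ∀ u, Q u ≠ 0 → Q (h u) = Q u := by
      intro u hu
      obtain ⟨a, ha⟩ := hsq (Q u)
      have ha0 : a ≠ 0 := by rintro rfl; simp [ha] at hu
      have := hcon (a⁻¹ • u) (by rw [hs, ha]; field_simp)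
      rw [map_smul, hs] at this
      rw [ha]; field_simp at this; rw [this]; ring
    refine hhQ fun u => ?_
    by_cases hu : Q u = 0
    · by_cases hu0 : u = 0
      · simp [hu0]
      obtain ⟨w, hw, hw'⟩ := exists_quad_ne_zero hN hp (P := B.orthogonal (Submodule.span F {u})) (by
        have := finrank_orth hN (Submodule.span F {u})
        rw [finrank_span_singleton hu0] at this
        omega)
      have huw : B u w = 0 := hw u (Submodule.mem_span_singleton_self u)
      have e1 := h3 (u + w) (by rwa [quad_add hp, hu, huw, zero_add, add_zero])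
      rw [map_add, quad_add hp, quad_add hp, hI, h3 w hw'] at e1
      linear_combination e1
    · exact h3 u hu
  have hu0 : u ≠ 0 := by rintro rfl; simp [hQ0] at hu1
  set v := h u with hv
  have hv0 : v ≠ 0 := by simpa [hv] using hu0
  have hvM : tv hB v 1 ∈ M := hconj h hh hI u (hone u hu1)
  have hc : Q v + 1 ≠ 0 := fun e => hu2 (by linear_combination e - h2)
  have hall : ∀ w, w ≠ 0 → tv hB w 1 ∈ M := by
    intro w hw
    by_cases he : Q w = 1
    · exact hone w he
    have he' : Q w + 1 ≠ 0 := fun e => he (by linear_combination e - h2)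
    obtain ⟨b, hb⟩ := hsq ((Q w + 1) / (Q v + 1))
    have hb0 : b ≠ 0 := by rintro rfl; simp [he', hc] at hb
    obtain ⟨x₀, hx₀⟩ := exists_pair_eq_one hN hv0
    have hx : B (b • x₀) v = b := by simp [hx₀]
    set x := b • x₀
    obtain ⟨y, hy1, hy2, hy3⟩ := exists_quad_ne_zero_orth_pair hB hN hp hdim (x := x) (v := v) (by rwa [hx])
    obtain ⟨a, ha⟩ := hsq ((1 + Q x) / Q y)
    have hu' : Q (x + a • y) = 1 := by
      rw [quad_add hp, hs a, map_smul, hy1, sq, ← ha]; field_simp; simp; linear_combination Q x * h2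
    have hu'v : B (x + a • y) v = b := by simp [hx, (alt_eq_zero_comm hB).1 hy2]
    refine hwitt (tv hB v 1 (x + a • y)) w ?_ hw ?_ (hconj _ hvM (tv_mem_isom hB _ _) _ (hone _ hu'))
    · rw [Ne, LinearEquiv.map_eq_zero_iff]
      rintro e
      rw [e, hQ0] at hu'
      exact zero_ne_one hu'
    · rw [quad_tv hB h2 hs hp, hu', hu'v, sq, ← hb]; field_simp; linear_combination h2
  refine isom_le_of_tv_mem hB hN fun w c => ?_
  obtain ⟨a, rfl⟩ := hsq c
  by_cases hw : a • w = 0
  · rw [← mul_one (a * a), ← sq, ← tv_smul, hw, tv_zero_left]; exact one_mem _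
  · rw [← mul_one (a * a), ← sq, ← tv_smul]; exact hall _ hw

omit [FiniteDimensional F V] in
/-- A similarity of `Q` which is an isometry of the (non-zero) polar form is an isometry of `Q`. -/
theorem quad_isom_of_similarity [Nontrivial V] (hN : B.Nondegenerate) {Q : V → F}
    (hp : ∀ u v, QuadraticMap.polar Q u v = B u v) {g : V ≃ₗ[F] V} (hg : g ∈ Isom B) {c : F}
    (hc : ∀ v, Q (g v) = c * Q v) : ∀ v, Q (g v) = Q v := by
  obtain ⟨v, hv⟩ := exists_ne (0 : V)
  obtain ⟨x, hx⟩ := exists_pair_eq_one hN hv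
  have h1 := hc (x + v)
  rw [map_add, quad_add hp, quad_add hp, hc, hc, hg, hx] at h1
  have : c = 1 := by linear_combination -h1
  simpa [this] using hc

theorem exists_isom_not_quad (hB : B.IsAlt) (hN : B.Nondegenerate) (h2 : (2 : F) = 0) (hsq : ∀ a : F, IsSquare a)
    (hdim : 3 ≤ finrank F V) {Q : V → F} (hs : ∀ (c : F) v, Q (c • v) = c ^ 2 * Q v)
    (hp : ∀ u v, QuadraticMap.polar Q u v = B u v) : ∃ g ∈ Isom B, ¬ ∀ v, Q (g v) = Q v := by
  obtain ⟨v, -, hv⟩ := exists_quad_ne_zero hN hp (P := ⊤) (by rw [finrank_top]; omega)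
  have hQ0 : Q 0 = 0 := by simpa using hs 0 0
  have hv0 : v ≠ 0 := by rintro rfl; exact hv hQ0
  obtain ⟨x, hx⟩ := exists_pair_eq_one hN hv0
  obtain ⟨y, hy1, hy2, hy3⟩ := exists_quad_ne_zero_orth_pair hB hN hp hdim (x := x) (v := v) (by simp [hx])
  obtain ⟨a, ha⟩ := hsq (Q x / Q y)
  have h1 : Q (x + a • y) = 0 := by
    rw [quad_add hp, hs, map_smul, hy1, sq, ← ha]; field_simp; linear_combination Q x * h2
  have h3 : x + a • y ≠ 0 := fun e => by
    have := congrArg (fun z => B z v) e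
    simp [hx, (alt_eq_zero_comm hB).1 hy2] at this
  obtain ⟨g, hg, e⟩ := exists_isom_apply_eq hB hN hv0 h3
  exact ⟨g, hg, fun h => hv (by rw [← h v, e, h1])⟩

theorem two_eq_zero_of_not_odd_card [Fintype F] (h : ¬ Odd (Fintype.card F)) : (2 : F) = 0 := by
  have h1 : ringChar F = 2 := FiniteField.even_card_iff_char_two.2 (by rw [Nat.odd_iff] at h; omega)
  have := ringChar.Nat.cast_ringChar (R := F)
  rw [h1] at this
  exact_mod_cast this

theorem isSquare_of_two_eq_zero [Finite F] (h2 : (2 : F) = 0) (a : F) : IsSquare a := by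
  refine FiniteField.isSquare_of_char_two ?_ a
  have := (ringChar.spec F 2).1 (by exact_mod_cast h2)
  exact ((Nat.dvd_prime Nat.prime_two).1 this).resolve_left CharP.ringChar_ne_one

/-- `O^±_{2m}(q)` is maximal in `Sp_{2m}(q)` for `q` even and `m ≥ 2`. -/
theorem isMaximalIn_quadSimilarityGroup [Fintype F] {m : ℕ} (hm : 2 ≤ m) (heven : ¬ Odd (Fintype.card F))
    (Q : (Fin m ⊕ Fin m → F) → F) (hQ : Cfsg.Geo.IsNondegenerateQuadraticForm Q)
    (hpol : ∀ u v, QuadraticMap.polar Q u v = Cfsg.sympForm m F u v) :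
    Cfsg.Geo.IsMaximalIn (Cfsg.spGL m F) (Cfsg.Geo.quadSimilarityGroup Q ⊓ Cfsg.spGL m F) := by
  have h2 := two_eq_zero_of_not_odd_card heven
  have hsq := isSquare_of_two_eq_zero h2
  have hp : ∀ u v, QuadraticMap.polar Q u v = stdForm (Fin m) F u v := fun u v => by
    rw [hpol, stdForm_eq_sympForm]
  have hB := stdForm_isAlt (Fin m) F
  have hN := stdForm_nondegenerate (Fin m) F
  have hdim : 3 ≤ finrank F (Fin m ⊕ Fin m → F) := by rw [finrank_std]; omega
  have : Nonempty (Fin m) := ⟨⟨0, by omega⟩⟩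
  have key : ∀ g : (Fin m ⊕ Fin m → F) ≃ₗ[F] (Fin m ⊕ Fin m → F),
      (glEquiv _ F).symm g ∈ Cfsg.Geo.quadSimilarityGroup Q ↔ ∃ c : Fˣ, ∀ v, Q (g v) = c * Q v := by
    intro g
    change (∃ c : Fˣ, ∀ v, Q (Matrix.mulVec _ v) = c * Q v) ↔ _
    simp only [glEquiv_symm_mulVec]
  refine isMaximalIn_spGL _ ?_ fun M hM hS g hg hgD => ?_
  · obtain ⟨g, hg, hg'⟩ := exists_isom_not_quad hB hN h2 hsq hdim hQ.smul hp
    exact ⟨g, hg, fun h => by
      obtain ⟨c, hc⟩ := (key g).1 h
      exact hg' (quad_isom_of_similarity hN hp hg hc)⟩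
  · exact isom_le_of_quad hB hN h2 hsq hdim hQ.smul hp
      (fun x hx => hS x (isom_of_quad hp hx) ((key x).2 ⟨1, by simpa using hx⟩)) hg (hM hg)
      fun h => hgD ((key g).2 ⟨1, by simpa using h⟩)

end CL.Sp
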