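import Cfsg.Agent.Cls.UniCode2

/-!
# The frame stabilisers of `SU_6(2)` and `SU_4(3)` are not maximal
-/

set_option autoImplicit false

namespace CL.Uni

open Module Matrix Cfsg Cfsg.Geo

universe u

variable {F : Type u} [Field F] {σ : F →+* F}

def P2 : QP := ⟨2, 1, 1⟩
def P3 : QP := ⟨3, 2, 0⟩
def P5 : QP := ⟨5, 2, 0⟩

instance factP2 : Fact P2.p.Prime := ⟨Nat.prime_two⟩

theorem dec2 (h : IsBar σ 2) : Nonempty (Dec P2 σ) :=
  exists_dec P2 h (by decide +kernel) (by decide +kernel) (by decide +kernel)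

instance factP3 : Fact P3.p.Prime := ⟨Nat.prime_three⟩

theorem dec3 (h : IsBar σ 3) : Nonempty (Dec P3 σ) :=
  exists_dec P3 h (by decide +kernel) (by decide +kernel) (by decide +kernel)

instance factP5 : Fact P5.p.Prime := ⟨Nat.prime_five⟩

theorem dec5 (h : IsBar σ 5) : Nonempty (Dec P5 σ) :=
  exists_dec P5 h (by decide +kernel) (by decide +kernel) (by decide +kernel)

def L62 : List ℕ := [5, 9, 13, 17, 20, 33, 36, 49, 52, 65, 68, 80, 129, 132, 144, 193, 196, 208, 257, 260, 272,
  320, 513, 516, 528, 576, 769, 772, 784, 832, 1025, 1028, 1040, 1088, 1280, 1365, 1389, 1401, 1437, 1449, 1461,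
  1497, 1509, 1533, 1629, 1641, 1653, 1689, 1701, 1725, 1749, 1773, 1785, 1881, 1893, 1917, 1941, 1965, 1977,
  2013, 2025, 2037, 2049, 2052, 2064, 2112, 2304, 2397, 2409, 2421, 2457, 2469, 2493, 2517, 2541, 2553, 2649,
  2661, 2685, 2709, 2733, 2745, 2781, 2793, 2805, 2901, 2925, 2937, 2973, 2985, 2997, 3033, 3045, 3069, 3073,
  3076, 3088, 3136, 3328, 3417, 3429, 3453, 3477, 3501, 3513, 3549, 3561, 3573, 3669, 3693, 3705, 3741, 3753,
  3765, 3801, 3813, 3837, 3933, 3945, 3957, 3993, 4005, 4029, 4053, 4077, 4089]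

def L43 : List ℕ := [1, 9, 10, 19, 28, 55, 81, 82, 90, 163, 171, 244, 252, 487, 495, 729, 730, 738, 810, 820,
  829, 901, 910, 1000, 1027, 1243, 1270, 1459, 1467, 1539, 1549, 1558, 1630, 1639, 1729, 1756, 1972, 1999, 2188,
  2196, 2268, 2296, 2323, 2377, 2404, 2440, 2449, 2683, 2692, 4375, 4383, 4455, 4483, 4510, 4564, 4591, 4627,
  4636, 4870, 4879]

theorem not_max_frame_six_two (h : IsBar σ 2) {E : Fin 6 → Submodule F (Fin 6 → F)}
    (hE : IsNondegenerateMDecomposition (hermForm 6 F 2) 1 E) :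
    ¬ IsMaximalIn (SUm 6 F 2) (decompositionStabilizer E ⊓ SUm 6 F 2) := by
  obtain ⟨D⟩ := dec2 h
  exact D.not_max_frame (it := 180) (L := L62) (C := [1364, 1361, 1349, 1301, 1109, 341]) hE
    (by decide +kernel) (by decide +kernel) (by decide +kernel)
    (D.exists_SU_of_pow (k := 2) (by decide +kernel) (by decide +kernel) (by decide +kernel)) 1 2 (by decide)
    (by decide +kernel) (by decide +kernel) (D.not_SUm_le_stabP (u := 5) (w := 1345) (by decide)
      (by decide +kernel) (by decide +kernel) (by decide +kernel) (by decide +kernel) (by decide) (by decide)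
      (by decide +kernel))

theorem not_max_frame_four_three (h : IsBar σ 3) {E : Fin 4 → Submodule F (Fin 4 → F)}
    (hE : IsNondegenerateMDecomposition (hermForm 4 F 3) 1 E) :
    ¬ IsMaximalIn (SUm 4 F 3) (decompositionStabilizer E ⊓ SUm 4 F 3) := by
  obtain ⟨D⟩ := dec3 h
  exact D.not_max_frame (it := 341458668) (L := L43) (C := [902, 4890, 1640, 4650]) hE
    (by decide +kernel) (by decide +kernel) (by decide +kernel)
    (D.exists_SU_of_pow (k := 3) (by decide +kernel) (by decide +kernel) (by decide +kernel)) 0 1 (by decide)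
    (by decide +kernel) (by decide +kernel) (D.not_SUm_le_stabP (u := 1) (w := 2998) (by decide)
      (by decide +kernel) (by decide +kernel) (by decide +kernel) (by decide +kernel) (by decide) (by decide)
      (by decide +kernel))

end CL.Uni
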